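import Mathlib

open TensorProduct

namespace Groth.Agent.H97.FibreIso

/-- A finite module all of whose fibres at maximal ideals vanish is zero. -/
theorem subsingleton_of_fibres {R : Type*} [CommRing R] {C : Type*} [AddCommGroup C] [Module R C]
    [Module.Finite R C]
    (h : ∀ (m : Ideal R) [m.IsMaximal], Subsingleton (m.ResidueField ⊗[R] C)) :
    Subsingleton C := by
  rw [← Module.support_eq_empty_iff (R := R), Set.eq_empty_iff_forall_notMem]
  intro p hp
  obtain ⟨m, hm, hpm⟩ := p.asIdeal.exists_le_maximal p.2.ne_top
  have h1 : (⟨m, hm.isPrime⟩ : PrimeSpectrum R) ∈ Module.support R C :=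
    Module.mem_support_mono (q := ⟨m, hm.isPrime⟩) hpm hp
  rw [Module.mem_support_iff_nontrivial_residueField_tensorProduct] at h1
  exact not_subsingleton _ (h m)

/-- If `K ⊗ f` is surjective then `K ⊗ coker f` vanishes. -/
theorem subsingleton_tensor_coker {R : Type*} [CommRing R] {A B : Type*} [AddCommGroup A]
    [Module R A] [AddCommGroup B] [Module R B] (f : B →ₗ[R] A) (K : Type*) [AddCommGroup K]
    [Module R K] (h : Function.Surjective (LinearMap.lTensor K f)) :
    Subsingleton (K ⊗[R] (A ⧸ LinearMap.range f)) := by
  refine subsingleton_of_forall_eq 0 fun y => ?_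
  obtain ⟨z, rfl⟩ := LinearMap.lTensor_surjective K (LinearMap.range f).mkQ_surjective y
  obtain ⟨w, rfl⟩ := h z
  rw [← LinearMap.comp_apply, ← LinearMap.lTensor_comp]
  have : (LinearMap.range f).mkQ ∘ₗ f = 0 := LinearMap.range_mkQ_comp f
  rw [this, LinearMap.lTensor_zero, LinearMap.zero_apply]

/-- Surjectivity can be tested on fibres at maximal ideals (target finite). -/
theorem surjective_of_fibres {R : Type*} [CommRing R] {A B : Type*} [AddCommGroup A]
    [Module R A] [Module.Finite R A] [AddCommGroup B] [Module R B] (f : B →ₗ[R] A)
    (h : ∀ (m : Ideal R) [m.IsMaximal],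
      Function.Surjective (LinearMap.lTensor m.ResidueField f)) :
    Function.Surjective f := by
  have : Subsingleton (A ⧸ LinearMap.range f) :=
    subsingleton_of_fibres fun m _ => subsingleton_tensor_coker f _ (h m)
  rw [← LinearMap.range_eq_top]
  exact Submodule.Quotient.subsingleton_iff.mp this

/-- A surjective linear map of vector spaces of the same finite rank is bijective. -/
theorem bijective_of_rank_eq.{v} {K : Type*} {V W : Type v} [Field K] [AddCommGroup V] [Module K V]
    [AddCommGroup W] [Module K W] [Module.Finite K W] (g : V →ₗ[K] W)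
    (hs : Function.Surjective g) (hr : Module.rank K V = Module.rank K W) :
    Function.Bijective g := by
  have hV : Module.Finite K V := by
    rw [← Module.rank_lt_aleph0_iff, hr]
    exact Module.rank_lt_aleph0 K W
  have hfr : Module.finrank K V = Module.finrank K W := by
    unfold Module.finrank; rw [hr]
  exact ⟨(LinearMap.injective_iff_surjective_of_finrank_eq_finrank hfr).mpr hs, hs⟩

/-- naturality of `cancelBaseChange`, as an iff on injectivity. -/
theorem injective_lTensor_iff {R S K : Type*} [CommRing R] [CommRing S] [CommRing K] [Algebra R S]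
    [Algebra R K] [Algebra S K] [IsScalarTower R S K] {M N : Type*} [AddCommGroup M] [Module R M]
    [AddCommGroup N] [Module R N] (f : M →ₗ[R] N) :
    Function.Injective (LinearMap.lTensor K (f.baseChange S)) ↔
      Function.Injective (LinearMap.lTensor K f) := by
  have key := AlgebraTensorModule.lTensor_comp_cancelBaseChange (R := R) (A := S) (B := K) (M := K) f
  have key' : ∀ x, LinearMap.lTensor K f (AlgebraTensorModule.cancelBaseChange R S K K M x) =
      AlgebraTensorModule.cancelBaseChange R S K K N (LinearMap.lTensor K (f.baseChange S) x) := by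
    intro x
    exact congrArg (fun g => g x) key
  constructor
  · intro h x y hxy
    obtain ⟨x, rfl⟩ := (AlgebraTensorModule.cancelBaseChange R S K K M).surjective x
    obtain ⟨y, rfl⟩ := (AlgebraTensorModule.cancelBaseChange R S K K M).surjective y
    rw [key', key'] at hxy
    rw [h ((AlgebraTensorModule.cancelBaseChange R S K K N).injective hxy)]
  · intro h x y hxy
    apply (AlgebraTensorModule.cancelBaseChange R S K K M).injective
    apply h
    rw [key', key', hxy]

/-- Injectivity on all residue-field fibres gives injectivity after base change to any field. -/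
theorem injective_lTensor_field {R : Type*} [CommRing R] {M N : Type*} [AddCommGroup M]
    [Module R M] [AddCommGroup N] [Module R N] (f : M →ₗ[R] N)
    (h : ∀ p : PrimeSpectrum R, Function.Injective (LinearMap.lTensor p.asIdeal.ResidueField f))
    (K : Type*) [Field K] [Algebra R K] : Function.Injective (LinearMap.lTensor K f) := by
  set p : Ideal R := RingHom.ker (algebraMap R K) with hp
  have hpp : p.IsPrime := RingHom.ker_isPrime _
  let φ : p.ResidueField →+* K := Ideal.ResidueField.lift p (algebraMap R K) le_rfl (by
    intro r hr
    simp only [Submonoid.mem_comap, IsUnit.mem_submonoid_iff]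
    rw [isUnit_iff_ne_zero]
    exact fun h0 => hr ((RingHom.mem_ker).mpr h0))
  let _ : Algebra p.ResidueField K := φ.toAlgebra
  have : IsScalarTower R p.ResidueField K := IsScalarTower.of_algebraMap_eq fun r => by
    show _ = φ _
    rw [Ideal.ResidueField.lift_algebraMap]
  rw [← injective_lTensor_iff (S := p.ResidueField)]
  apply Module.Flat.lTensor_preserves_injective_linearMap
  exact h ⟨p, hpp⟩

universe u

/-- kernel of a surjection from a finite type algebra onto a finitely presented one is f.g. -/
theorem ker_fg {R A B : Type*} [CommRing R] [CommRing A] [CommRing B] [Algebra R A] [Algebra R B]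
    [Algebra.FiniteType R B] [Algebra.FinitePresentation R A] (f : B →ₐ[R] A)
    (hs : Function.Surjective f) : (RingHom.ker f.toRingHom).FG := by
  obtain ⟨n, g, hg⟩ := Algebra.FiniteType.iff_quotient_mvPolynomial''.mp
    (inferInstance : Algebra.FiniteType R B)
  have h1 := (Algebra.FinitePresentation.ker_fg_of_mvPolynomial (f.comp g) (hs.comp hg)).map
    g.toRingHom
  convert h1
  simp_rw [RingHom.ker_eq_comap_bot, AlgHom.toRingHom_eq_coe, AlgHom.comp_toRingHom]
  rw [← Ideal.comap_comap, Ideal.map_comap_of_surjective (g : MvPolynomial (Fin n) R →+* B) hg]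

theorem injective_of_projective {R A B : Type u} [CommRing R] [CommRing A] [CommRing B]
    [Algebra R A] [Algebra R B] [Module.Finite R A] [Module.Projective R A]
    [Algebra.FiniteType R B] (f : B →ₐ[R] A) (hs : Function.Surjective f)
    (H : ∀ (K : Type u) [Field K] [Algebra R K],
      Function.Injective (LinearMap.lTensor K f.toLinearMap)) : Function.Injective f := by
  have : Module.FinitePresentation R A := Module.finitePresentation_of_projective R A
  have hfg := ker_fg f hs
  set I : Ideal B := RingHom.ker f.toRingHom with hI
  have : Module.Finite B I := Module.Finite.iff_fg.mpr hfg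
  obtain ⟨σ, hσ⟩ := Module.projective_lifting_property f.toLinearMap LinearMap.id hs
  have hσ' : ∀ a, f (σ a) = a := fun a => congrArg (fun g => g a) hσ
  -- inclusion and retraction
  let i : I →ₗ[R] B := (Submodule.subtype I).restrictScalars R
  let π : B →ₗ[R] I :=
    { toFun := fun b => ⟨b - σ (f b), by
        rw [hI, RingHom.mem_ker]
        simp [hσ']⟩
      map_add' := fun x y => by
        ext; simp; ring
      map_smul' := fun r x => by
        ext; simp [smul_sub] }
  have hπi : π ∘ₗ i = LinearMap.id := by
    ext x
    have hx : f (x : B) = 0 := x.2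
    simp [π, i, hx]
  have hfi : f.toLinearMap ∘ₗ i = 0 := by
    ext x
    exact x.2
  have hsub : Subsingleton I := by
    rw [← Module.support_eq_empty_iff (R := B), Set.eq_empty_iff_forall_notMem]
    intro q hq
    rw [Module.mem_support_iff_nontrivial_residueField_tensorProduct] at hq
    have h1 : Subsingleton (q.asIdeal.ResidueField ⊗[R] I) := by
      refine subsingleton_of_forall_eq 0 fun y => ?_
      have h2 : LinearMap.lTensor q.asIdeal.ResidueField i y = 0 := by
        apply H q.asIdeal.ResidueField
        rw [← LinearMap.comp_apply, ← LinearMap.lTensor_comp, hfi, LinearMap.lTensor_zero,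
          LinearMap.zero_apply, map_zero]
      have h3 := congrArg (LinearMap.lTensor q.asIdeal.ResidueField π) h2
      rw [← LinearMap.comp_apply, ← LinearMap.lTensor_comp, hπi, LinearMap.lTensor_id,
        LinearMap.id_apply, map_zero] at h3
      exact h3
    have h4 := TensorProduct.mapOfCompatibleSMul_surjective B R R q.asIdeal.ResidueField I
    have : Subsingleton (q.asIdeal.ResidueField ⊗[B] I) := h4.subsingleton
    exact not_subsingleton _ this
  rw [injective_iff_map_eq_zero]
  intro x hx
  have : (⟨x, hx⟩ : I) = 0 := Subsingleton.elim _ _
  exact congrArg Subtype.val this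

theorem injective_of_flat {R A B : Type u} [CommRing R] [CommRing A] [CommRing B]
    [Algebra R A] [Algebra R B] [Module.Finite R A] [Module.Flat R A]
    [Algebra.FiniteType R B] (f : B →ₐ[R] A) (hs : Function.Surjective f)
    (H : ∀ (K : Type u) [Field K] [Algebra R K],
      Function.Injective (LinearMap.lTensor K f.toLinearMap)) : Function.Injective f := by
  rw [injective_iff_map_eq_zero]
  intro x hx
  have : ∀ (P : Ideal R) [P.IsMaximal], IsLocalizedModule P.primeCompl
      (TensorProduct.mk R (Localization.AtPrime P) B 1) := fun P _ =>
    (isLocalizedModule_iff_isBaseChange P.primeCompl (Localization.AtPrime P) _).mpr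
      (TensorProduct.isBaseChange R B _)
  refine Module.eq_zero_of_localization_maximal
    (fun (P : Ideal R) [P.IsMaximal] => Localization.AtPrime P ⊗[R] B)
    (fun (P : Ideal R) [P.IsMaximal] => TensorProduct.mk R (Localization.AtPrime P) B 1) x ?_
  intro P hP
  let f' : Localization.AtPrime P ⊗[R] B →ₐ[Localization.AtPrime P] Localization.AtPrime P ⊗[R] A :=
    Algebra.TensorProduct.map (AlgHom.id _ _) f
  have : Module.Free (Localization.AtPrime P) (Localization.AtPrime P ⊗[R] A) :=
    Module.free_of_flat_of_isLocalRing
  have hf'lin : f'.toLinearMap = f.toLinearMap.baseChange (Localization.AtPrime P) := by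
    ext b
    simp [f']
  have hs' : Function.Surjective f' := by
    have : Function.Surjective (f.toLinearMap.baseChange (Localization.AtPrime P)) :=
      LinearMap.lTensor_surjective _ hs
    rw [← hf'lin] at this
    exact this
  have hinj : Function.Injective f' := by
    refine injective_of_projective f' hs' ?_
    intro K _ _
    let _ : Algebra R K := ((algebraMap (Localization.AtPrime P) K).comp
      (algebraMap R (Localization.AtPrime P))).toAlgebra
    have : IsScalarTower R (Localization.AtPrime P) K := IsScalarTower.of_algebraMap_eq fun _ => rfl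
    rw [hf'lin, injective_lTensor_iff]
    exact H K
  apply hinj
  rw [map_zero]
  show f' ((1 : Localization.AtPrime P) ⊗ₜ[R] x) = 0
  simp [f', hx]

end Groth.Agent.H97.FibreIso
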