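import Mathlib
import Groth.Agent.H70.FlatAss.FibreReg
import Groth.Agent.H20.ComplNoeth2
import Groth.Agent.H97.FibreIso

/-!
# Flatness of the map of completions

For a local homomorphism `A → B` of Noetherian local rings and a compatible map `ψ : Â → B̂`,
`ψ` is flat iff `A → B` is flat.
-/

namespace Groth.Agent.H97.ComplFlat

open TensorProduct

section TorBC

variable {R R' : Type*} [CommRing R] [CommRing R'] [Algebra R R'] (I : Ideal R)
  (M : Type*) [AddCommGroup M] [Module R M] [Module R' M] [IsScalarTower R R' M]

/-- The additive map `I ⊗_R M → IR' ⊗_{R'} M`. -/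
noncomputable def tensorMap : I ⊗[R] M →+ (I.map (algebraMap R R') : Ideal R') ⊗[R'] M :=
  TensorProduct.liftAddHom
    { toFun := fun a =>
        { toFun := fun m =>
            (⟨algebraMap R R' a, Ideal.mem_map_of_mem _ a.2⟩ : (I.map (algebraMap R R') : Ideal R'))
              ⊗ₜ[R'] m
          map_zero' := by simp
          map_add' := fun m n => by rw [TensorProduct.tmul_add] }
      map_zero' := by
        ext m
        show (⟨algebraMap R R' ((0 : I) : R), _⟩ : (I.map (algebraMap R R') : Ideal R')) ⊗ₜ[R'] m = 0
        have : (⟨algebraMap R R' ((0 : I) : R), Ideal.mem_map_of_mem _ (0 : I).2⟩ :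
            (I.map (algebraMap R R') : Ideal R')) = 0 := by
          apply Subtype.ext
          simp
        rw [this, TensorProduct.zero_tmul]
      map_add' := fun a b => by
        ext m
        show (⟨algebraMap R R' ((a + b : I) : R), _⟩ : (I.map (algebraMap R R') : Ideal R')) ⊗ₜ[R'] m
          = (⟨algebraMap R R' (a : R), _⟩ : (I.map (algebraMap R R') : Ideal R')) ⊗ₜ[R'] m +
            (⟨algebraMap R R' (b : R), _⟩ : (I.map (algebraMap R R') : Ideal R')) ⊗ₜ[R'] m
        rw [← TensorProduct.add_tmul]
        congr 1
        apply Subtype.ext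
        simp }
    (by
      intro r a m
      show (⟨algebraMap R R' ((r • a : I) : R), _⟩ : (I.map (algebraMap R R') : Ideal R')) ⊗ₜ[R'] m
          = (⟨algebraMap R R' (a : R), _⟩ : (I.map (algebraMap R R') : Ideal R')) ⊗ₜ[R'] (r • m)
      rw [← algebraMap_smul R' r m, ← TensorProduct.smul_tmul]
      congr 1
      apply Subtype.ext
      simp [Algebra.smul_def])

@[simp]
theorem tensorMap_tmul (a : I) (m : M) :
    tensorMap I M (a ⊗ₜ[R] m) =
      (⟨algebraMap R R' a, Ideal.mem_map_of_mem _ a.2⟩ : (I.map (algebraMap R R') : Ideal R'))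
        ⊗ₜ[R'] m := by
  unfold tensorMap
  rw [TensorProduct.liftAddHom_tmul]
  rfl

theorem tensorMap_surjective : Function.Surjective (tensorMap (R' := R') I M) := by
  intro z
  induction z using TensorProduct.induction_on with
  | zero => exact ⟨0, map_zero _⟩
  | add x y hx hy =>
    obtain ⟨x', rfl⟩ := hx
    obtain ⟨y', rfl⟩ := hy
    exact ⟨x' + y', map_add _ _ _⟩
  | tmul x m =>
    obtain ⟨x, hx⟩ := x
    have key : ∀ (x : R') (hx : x ∈ (I.map (algebraMap R R') : Ideal R')) (m : M),
        ∃ y, tensorMap (R' := R') I M y =
          (⟨x, hx⟩ : (I.map (algebraMap R R') : Ideal R')) ⊗ₜ[R'] m := by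
      intro x hx
      unfold Ideal.map at hx
      induction hx using Submodule.span_induction with
      | mem x h =>
        obtain ⟨a, ha, rfl⟩ := h
        intro m
        exact ⟨(⟨a, ha⟩ : I) ⊗ₜ[R] m, tensorMap_tmul I M _ _⟩
      | zero =>
        intro m
        refine ⟨0, ?_⟩
        rw [map_zero]
        symm
        exact TensorProduct.zero_tmul _ _
      | add x y hx hy ihx ihy =>
        intro m
        obtain ⟨x', hx'⟩ := ihx m
        obtain ⟨y', hy'⟩ := ihy m
        refine ⟨x' + y', ?_⟩
        rw [map_add, hx', hy', ← TensorProduct.add_tmul]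
        rfl
      | smul r x hx ih =>
        intro m
        obtain ⟨x', hx'⟩ := ih (r • m)
        refine ⟨x', ?_⟩
        rw [hx', ← TensorProduct.smul_tmul]
        rfl
    exact key x hx m

theorem lid_rTensor_tensorMap (z : I ⊗[R] M) :
    TensorProduct.lid R' M
      ((Submodule.subtype (I.map (algebraMap R R') : Ideal R')).rTensor M (tensorMap I M z)) =
    TensorProduct.lid R M (I.subtype.rTensor M z) := by
  induction z using TensorProduct.induction_on with
  | zero => simp
  | add x y hx hy => simp only [map_add, hx, hy]
  | tmul a m =>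
    rw [tensorMap_tmul]
    simp

/-- `Tor_1^R(R/I, M) = 0` implies `Tor_1^{R'}(R'/IR', M) = 0` for an `R'`-module `M`. -/
theorem rTensor_subtype_injective_of_map
    (h : Function.Injective (I.subtype.rTensor M)) :
    Function.Injective ((Submodule.subtype (I.map (algebraMap R R') : Ideal R')).rTensor M) := by
  rw [injective_iff_map_eq_zero]
  intro x hx
  obtain ⟨y, rfl⟩ := tensorMap_surjective (R' := R') I M x
  have h1 := lid_rTensor_tensorMap (R' := R') I M y
  rw [hx, map_zero] at h1
  have h2 : I.subtype.rTensor M y = 0 := by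
    apply (TensorProduct.lid R M).injective
    rw [← h1, map_zero]
  have h3 : y = 0 := by
    apply h
    rw [h2, map_zero]
  rw [h3, map_zero]

end TorBC

section Descent

/-- If `C` is faithfully flat over `B` and flat over `A`, then `B` is flat over `A`. -/
theorem flat_of_faithfullyFlat_of_flat (A B C : Type*) [CommRing A] [CommRing B] [CommRing C]
    [Algebra A B] [Algebra A C] [Algebra B C] [IsScalarTower A B C]
    [Module.FaithfullyFlat B C] [Module.Flat A C] : Module.Flat A B := by
  rw [Module.Flat.iff_lTensor_preserves_injective_linearMap]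
  intro N P _ _ _ _ f hf
  have h1 : Function.Injective (LinearMap.lTensor C f) :=
    Module.Flat.lTensor_preserves_injective_linearMap f hf
  have h2 : Function.Injective (LinearMap.lTensor C (f.baseChange B)) :=
    (Groth.Agent.H97.FibreIso.injective_lTensor_iff (R := A) (S := B) (K := C) f).mpr h1
  have h3 : Function.Injective (f.baseChange B) :=
    (Module.FaithfullyFlat.lTensor_injective_iff_injective B C _).mp h2
  intro x y hxy
  apply h3
  rw [LinearMap.baseChange_eq_ltensor]
  exact hxy

end Descent

end Groth.Agent.H97.ComplFlat
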