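import Mathlib

/-!
Faithfully flat descent: finite presentation and projectivity of modules, Azumaya algebras.
-/

set_option autoImplicit false
universe u v w

namespace Groth.Agent.H97.FFDescent

open TensorProduct

variable (R : Type u) [CommRing R] (S : Type v) [CommRing S] [Algebra R S]
  [Module.FaithfullyFlat R S]

/-- Finite presentation of modules descends along faithfully flat ring maps. -/
theorem finitePresentation_of_tensorProduct (M : Type w) [AddCommGroup M] [Module R M]
    [Module.FinitePresentation S (S ⊗[R] M)] : Module.FinitePresentation R M := by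
  haveI : Module.Finite R M := Module.Finite.of_finite_tensorProduct_of_faithfullyFlat S
  obtain ⟨n, f, hf⟩ := Module.Finite.exists_fin' R M
  set K := LinearMap.ker f with hK
  -- S ⊗ K is finite over S
  have hex : Function.Exact (LinearMap.lTensor S K.subtype) (LinearMap.lTensor S f) :=
    lTensor_exact S (LinearMap.exact_subtype_ker_map f) hf
  let g : S ⊗[R] K →ₗ[S] S ⊗[R] (Fin n → R) := AlgebraTensorModule.lTensor S S K.subtype
  let h : S ⊗[R] (Fin n → R) →ₗ[S] S ⊗[R] M := AlgebraTensorModule.lTensor S S f
  have hg : Function.Injective g :=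
    Module.Flat.lTensor_preserves_injective_linearMap (M := S) K.subtype
      (Submodule.injective_subtype K)
  have hh : Function.Surjective h := LinearMap.lTensor_surjective S hf
  have hker : LinearMap.ker h = LinearMap.range g := by
    ext x
    rw [LinearMap.mem_ker, LinearMap.mem_range]
    exact hex x
  have hfgker : (LinearMap.ker h).FG := Module.FinitePresentation.fg_ker h hh
  have hfin : Module.Finite S (S ⊗[R] K) := by
    have e : S ⊗[R] K ≃ₗ[S] LinearMap.range g := LinearEquiv.ofInjective g hg
    rw [Module.Finite.equiv_iff e, Module.Finite.iff_fg, ← hker]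
    exact hfgker
  haveI : Module.Finite R K := Module.Finite.of_finite_tensorProduct_of_faithfullyFlat S
  exact Module.finitePresentation_of_surjective f hf (Module.Finite.iff_fg.mp inferInstance)

/-- Finite projectivity of modules descends along faithfully flat ring maps. -/
theorem projective_of_tensorProduct (M : Type w) [AddCommGroup M] [Module R M]
    [Module.Finite S (S ⊗[R] M)] [Module.Projective S (S ⊗[R] M)] :
    Module.Finite R M ∧ Module.Projective R M := by
  haveI : Module.FinitePresentation S (S ⊗[R] M) := Module.finitePresentation_of_projective _ _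
  haveI : Module.FinitePresentation R M := finitePresentation_of_tensorProduct R S M
  haveI : Module.Flat R M := Module.Flat.of_flat_tensorProduct R M S
  exact ⟨inferInstance, Module.Flat.projective_of_finitePresentation⟩


omit [Module.FaithfullyFlat R S] in
/-- The base change square for the map `B ⊗ Bᵐᵒᵖ → End B`. -/
theorem mulLeftRight_square (B : Type w) [Ring B] [Algebra R B] [Module.Finite R B]
    [Module.Projective R B] :
    ∃ (E : S ⊗[R] (B ⊗[R] Bᵐᵒᵖ) ≃ₗ[S] (S ⊗[R] B) ⊗[S] (S ⊗[R] B)ᵐᵒᵖ)
      (G : S ⊗[R] Module.End R B ≃ₗ[R] Module.End S (S ⊗[R] B)),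
      ∀ x, AlgHom.mulLeftRight S (S ⊗[R] B) (E x) =
        G (LinearMap.lTensor S (AlgHom.mulLeftRight R B).toLinearMap x) := by
  classical
  let e2 : S ⊗[R] Bᵐᵒᵖ ≃ₗ[S] (S ⊗[R] B)ᵐᵒᵖ :=
    (TensorProduct.AlgebraTensorModule.congr (LinearEquiv.refl S S)
      (MulOpposite.opLinearEquiv R (M := B)).symm) ≪≫ₗ MulOpposite.opLinearEquiv S
  let E : S ⊗[R] (B ⊗[R] Bᵐᵒᵖ) ≃ₗ[S] (S ⊗[R] B) ⊗[S] (S ⊗[R] B)ᵐᵒᵖ :=
    (TensorProduct.AlgebraTensorModule.distribBaseChange R S B Bᵐᵒᵖ) ≪≫ₗ
      TensorProduct.congr (LinearEquiv.refl S (S ⊗[R] B)) e2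
  let G : S ⊗[R] Module.End R B ≃ₗ[R] Module.End S (S ⊗[R] B) :=
    lTensorHomEquivHomLTensor R B S B ≪≫ₗ
      (LinearMap.liftBaseChangeEquiv (R := R) (M := B) (N := S ⊗[R] B) S).restrictScalars R
  refine ⟨E, G, ?_⟩
  have key : ((AlgHom.mulLeftRight S (S ⊗[R] B)).toLinearMap.restrictScalars R) ∘ₗ
      (E.restrictScalars R).toLinearMap =
      G.toLinearMap ∘ₗ LinearMap.lTensor S (AlgHom.mulLeftRight R B).toLinearMap := by
    apply TensorProduct.ext'
    intro s y
    induction y using TensorProduct.induction_on with
    | zero => simp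
    | add y₁ y₂ h₁ h₂ => rw [TensorProduct.tmul_add, map_add, map_add, h₁, h₂]
    | tmul a a' =>
      apply TensorProduct.AlgebraTensorModule.curry_injective
      ext p
      simp [E, G, e2]
  intro x
  exact LinearMap.congr_fun key x

/-- Faithfully flat descent of Azumaya algebras. -/
theorem isAzumaya_of_tensorProduct (B : Type w) [Ring B] [Algebra R B]
    [IsAzumaya S (S ⊗[R] B)] : IsAzumaya R B := by
  obtain ⟨hfin, hproj⟩ := projective_of_tensorProduct R S B
  have hfaith : FaithfulSMul R B := by
    refine ⟨fun {r₁ r₂} h => ?_⟩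
    have hinj : Function.Injective (algebraMap R S) := FaithfulSMul.algebraMap_injective R S
    apply hinj
    have hS : ∀ x : S ⊗[R] B, algebraMap R S r₁ • x = algebraMap R S r₂ • x := by
      intro x
      induction x using TensorProduct.induction_on with
      | zero => simp
      | add x y hx hy => rw [smul_add, smul_add, hx, hy]
      | tmul s b =>
        rw [algebraMap_smul, algebraMap_smul, TensorProduct.smul_tmul', TensorProduct.smul_tmul',
          TensorProduct.smul_tmul, TensorProduct.smul_tmul, h b]
    exact FaithfulSMul.eq_of_smul_eq_smul (α := S ⊗[R] B) hS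
  refine { bij := ?_ }
  obtain ⟨E, G, hEG⟩ := mulLeftRight_square R S B
  have hbijS : Function.Bijective (AlgHom.mulLeftRight S (S ⊗[R] B)) := IsAzumaya.bij
  have h1 : Function.Bijective
      (fun x => G (LinearMap.lTensor S (AlgHom.mulLeftRight R B).toLinearMap x)) := by
    have : (fun x => G (LinearMap.lTensor S (AlgHom.mulLeftRight R B).toLinearMap x)) =
        (AlgHom.mulLeftRight S (S ⊗[R] B)) ∘ E := by
      funext x
      exact (hEG x).symm
    rw [this]
    exact hbijS.comp E.bijective
  have h2 : Function.Bijective (LinearMap.lTensor S (AlgHom.mulLeftRight R B).toLinearMap) := by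
    have : (fun x => G (LinearMap.lTensor S (AlgHom.mulLeftRight R B).toLinearMap x)) =
        G ∘ (LinearMap.lTensor S (AlgHom.mulLeftRight R B).toLinearMap) := rfl
    rw [this] at h1
    exact (Function.Bijective.of_comp_iff' G.bijective _).mp h1
  exact (Module.FaithfullyFlat.lTensor_bijective_iff_bijective R S _).mp h2

end Groth.Agent.H97.FFDescent
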