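import Mathlib

set_option autoImplicit false
universe u v w x

open TensorProduct

namespace Groth.Agent.H97.ArtinSec

section flat

variable {C : Type u} [CommRing C] {M : Type v} [AddCommGroup M] [Module C M] [Module.Flat C M]

/-- flatness: if `ε • x ∈ I • M` and `(I : ε) ⊆ K`, then `x ∈ K • M`. -/
theorem mem_smul_top_of_smul_mem (I K : Ideal C) (ε : C) (hK : ∀ c, ε * c ∈ I → c ∈ K) (x : M)
    (h : ε • x ∈ (I • ⊤ : Submodule C M)) : x ∈ (K • ⊤ : Submodule C M) := by
  let φ : C →ₗ[C] C ⧸ I := (Submodule.mkQ I) ∘ₗ (LinearMap.lsmul C C ε)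
  let K' : Ideal C := LinearMap.ker φ
  have hK' : K' ≤ K := fun c hc => hK c (by
    have h1 : Ideal.Quotient.mk I (ε * c) = 0 := hc
    exact Ideal.Quotient.eq_zero_iff_mem.mp h1)
  let ψ : C ⧸ K' →ₗ[C] C ⧸ I := Submodule.liftQ K' φ le_rfl
  have hψ : Function.Injective ψ := by
    rw [← LinearMap.ker_eq_bot]
    exact Submodule.ker_liftQ_eq_bot _ _ _ le_rfl
  have hinj := Module.Flat.lTensor_preserves_injective_linearMap (M := M) ψ hψ
  have h1 : ψ.lTensor M (x ⊗ₜ[C] (Ideal.Quotient.mk K' 1)) = 0 := by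
    rw [LinearMap.lTensor_tmul]
    have h2 : ψ (Ideal.Quotient.mk K' 1) = Ideal.Quotient.mk I ε := by
      change φ 1 = _
      change Ideal.Quotient.mk I (ε * 1) = _
      rw [mul_one]
    rw [h2]
    apply (TensorProduct.tensorQuotEquivQuotSMul M I).injective
    rw [TensorProduct.tensorQuotEquivQuotSMul_tmul_mk, map_zero, Submodule.Quotient.mk_eq_zero]
    exact h
  have h2 : x ⊗ₜ[C] (Ideal.Quotient.mk K' 1) = 0 := hinj (by rw [h1, map_zero])
  have h3 := congrArg (TensorProduct.tensorQuotEquivQuotSMul M K') h2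
  rw [TensorProduct.tensorQuotEquivQuotSMul_tmul_mk, map_zero, one_smul,
    Submodule.Quotient.mk_eq_zero] at h3
  exact Submodule.smul_mono_left hK' h3

end flat

section core

variable {C : Type u} [CommRing C] {ι : Type v} (M : ι → Type w) [∀ i, AddCommGroup (M i)]
  [∀ i, Module C (M i)] {E : Type x} (src tgt : E → ι)
  (ρ : ∀ e, M (src e) →ₗ[C] M (tgt e)) (u : ∀ i, M i)

/-- families compatible modulo `I` -/
def Compat (I : Ideal C) (s : ∀ i, M i) : Prop :=
  ∀ e, ρ e (s (src e)) - s (tgt e) ∈ (I • ⊤ : Submodule C (M (tgt e)))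

/-- `C ⧸ I → Sec(I)` is bijective -/
def P (I : Ideal C) : Prop :=
  (∀ s, Compat M src tgt ρ I s → ∃ c : C, ∀ i, s i - c • u i ∈ (I • ⊤ : Submodule C (M i))) ∧
  (∀ c : C, (∀ i, c • u i ∈ (I • ⊤ : Submodule C (M i))) → c ∈ I)

theorem map_smul_top {N N' : Type*} [AddCommGroup N] [Module C N] [AddCommGroup N'] [Module C N']
    (f : N →ₗ[C] N') (I : Ideal C) (y : N) (hy : y ∈ (I • ⊤ : Submodule C N)) :
    f y ∈ (I • ⊤ : Submodule C N') := by
  refine Submodule.smul_induction_on hy ?_ ?_
  · intro r hr n _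
    rw [map_smul]
    exact Submodule.smul_mem_smul hr Submodule.mem_top
  · intro a b ha hb
    rw [map_add]
    exact Submodule.add_mem _ ha hb

theorem smul_mem_of_mem_smul {N : Type*} [AddCommGroup N] [Module C N] (I m : Ideal C) (ε : C)
    (hmε : ∀ c ∈ m, ε * c ∈ I) (y : N) (hy : y ∈ (m • ⊤ : Submodule C N)) :
    ε • y ∈ (I • ⊤ : Submodule C N) := by
  refine Submodule.smul_induction_on hy ?_ ?_
  · intro r hr n _
    rw [smul_smul]
    exact Submodule.smul_mem_smul (hmε r hr) Submodule.mem_top
  · intro a b ha hb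
    rw [smul_add]
    exact Submodule.add_mem _ ha hb

theorem mem_sup_span_smul {N : Type*} [AddCommGroup N] [Module C N] (I : Ideal C) (ε : C) (y : N)
    (hy : y ∈ ((I ⊔ Ideal.span {ε}) • ⊤ : Submodule C N)) :
    ∃ t : N, y - ε • t ∈ (I • ⊤ : Submodule C N) := by
  refine Submodule.smul_induction_on hy ?_ ?_
  · intro r hr n _
    obtain ⟨a, ha, b, hb, rfl⟩ := Submodule.mem_sup.mp hr
    obtain ⟨d, rfl⟩ := Ideal.mem_span_singleton'.mp hb
    refine ⟨d • n, ?_⟩
    have : (a + d * ε) • n - ε • d • n = a • n := by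
      rw [add_smul, smul_smul, mul_comm d ε]; abel
    rw [this]
    exact Submodule.smul_mem_smul ha Submodule.mem_top
  · rintro a b ⟨t, ht⟩ ⟨t', ht'⟩
    refine ⟨t + t', ?_⟩
    have : a + b - ε • (t + t') = (a - ε • t) + (b - ε • t') := by
      rw [smul_add]; abel
    rw [this]
    exact Submodule.add_mem _ ht ht'

variable [∀ i, Module.Flat C (M i)]

theorem step (hu : ∀ e, ρ e (u (src e)) = u (tgt e)) (m I : Ideal C) (ε : C)
    (hcolon : ∀ c, ε * c ∈ I → c ∈ m) (hmε : ∀ c ∈ m, ε * c ∈ I)
    (hm : P M src tgt ρ u m) (hI' : P M src tgt ρ u (I ⊔ Ideal.span {ε})) :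
    P M src tgt ρ u I := by
  have hle : ∀ (N : Type w) [AddCommGroup N] [Module C N],
      (I • ⊤ : Submodule C N) ≤ ((I ⊔ Ideal.span {ε}) • ⊤ : Submodule C N) :=
    fun N _ _ => Submodule.smul_mono_left le_sup_left
  constructor
  · intro s hs
    have hs' : Compat M src tgt ρ (I ⊔ Ideal.span {ε}) s := fun e => hle _ (hs e)
    obtain ⟨c, hc⟩ := hI'.1 s hs'
    choose t ht using fun i => mem_sup_span_smul I ε (s i - c • u i) (hc i)
    have htc : Compat M src tgt ρ m t := by
      intro e
      apply mem_smul_top_of_smul_mem I m ε hcolon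
      have h1 : ε • (ρ e (t (src e)) - t (tgt e)) =
          (ρ e (s (src e)) - s (tgt e)) -
            (ρ e (s (src e) - c • u (src e) - ε • t (src e)) -
              (s (tgt e) - c • u (tgt e) - ε • t (tgt e))) := by
        simp only [map_sub, map_smul, hu e, smul_sub]
        abel
      rw [h1]
      refine Submodule.sub_mem _ (hs e) (Submodule.sub_mem _ ?_ (ht _))
      exact map_smul_top (ρ e) I _ (ht _)
    obtain ⟨b, hb⟩ := hm.1 t htc
    refine ⟨c + ε * b, fun i => ?_⟩
    have h2 : s i - (c + ε * b) • u i =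
        (s i - c • u i - ε • t i) + ε • (t i - b • u i) := by
      rw [add_smul, smul_sub, mul_smul]; abel
    rw [h2]
    exact Submodule.add_mem _ (ht i) (smul_mem_of_mem_smul I m ε hmε _ (hb i))
  · intro c hc
    have hc' : c ∈ I ⊔ Ideal.span {ε} := hI'.2 c fun i => hle _ (hc i)
    obtain ⟨a, ha, b', hb', rfl⟩ := Submodule.mem_sup.mp hc'
    obtain ⟨b, rfl⟩ := Ideal.mem_span_singleton'.mp hb'
    have hb : b ∈ m := by
      apply hm.2
      intro i
      apply mem_smul_top_of_smul_mem I m ε hcolon
      have h3 : ε • b • u i = (a + b * ε) • u i - a • u i := by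
        rw [add_smul, smul_smul, mul_comm b ε]; abel
      rw [h3]
      exact Submodule.sub_mem _ (hc i) (Submodule.smul_mem_smul ha Submodule.mem_top)
    have : b * ε ∈ I := by rw [mul_comm]; exact hmε b hb
    exact I.add_mem ha this

theorem main [IsLocalRing C] [IsArtinianRing C] (hu : ∀ e, ρ e (u (src e)) = u (tgt e))
    (hm : P M src tgt ρ u (IsLocalRing.maximalIdeal C)) :
    P M src tgt ρ u ⊥ := by
  have key : ∀ I : Ideal C, I ≤ IsLocalRing.maximalIdeal C → P M src tgt ρ u I := by
    intro I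
    induction I using IsNoetherian.induction with
    | hgt I ih =>
      intro hIm
      rcases eq_or_lt_of_le hIm with rfl | hlt
      · exact hm
      · -- find the socle element
        have hnil : ∃ n, IsLocalRing.maximalIdeal C ^ n ≤ I := by
          obtain ⟨n, hn⟩ := IsArtinianRing.isNilpotent_jacobson_bot (R := C)
          refine ⟨n, ?_⟩
          rw [IsLocalRing.jacobson_eq_maximalIdeal ⊥ bot_ne_top] at hn
          rw [hn]; exact bot_le
        classical
        let n := Nat.find hnil
        have hn : IsLocalRing.maximalIdeal C ^ n ≤ I := Nat.find_spec hnil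
        have hn0 : n ≠ 0 := by
          intro h0
          rw [h0, pow_zero, Ideal.one_eq_top] at hn
          exact (IsLocalRing.maximalIdeal.isMaximal C).ne_top (top_le_iff.mp (hn.trans hIm))
        have hn1 : n ≠ 1 := by
          intro h1
          rw [h1, pow_one] at hn
          exact absurd hn (not_le_of_gt hlt)
        have hn' : ¬ IsLocalRing.maximalIdeal C ^ (n - 1) ≤ I :=
          Nat.find_min hnil (by omega)
        obtain ⟨ε, hεm, hεI⟩ := Set.not_subset.mp hn'
        have hε_mem : ε ∈ IsLocalRing.maximalIdeal C :=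
          Ideal.pow_le_self (by omega) hεm
        have hmε : ∀ c ∈ IsLocalRing.maximalIdeal C, ε * c ∈ I := by
          intro c hc
          apply hn
          have : n = (n - 1) + 1 := by omega
          rw [this, pow_succ]
          exact Ideal.mul_mem_mul hεm hc
        have hcolon : ∀ c, ε * c ∈ I → c ∈ IsLocalRing.maximalIdeal C := by
          intro c hc
          by_contra hcm
          have hunit : IsUnit c := by
            by_contra hnu
            exact hcm ((IsLocalRing.mem_maximalIdeal c).mpr hnu)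
          obtain ⟨d, rfl⟩ := hunit
          apply hεI
          have := Ideal.mul_mem_right (↑d⁻¹ : C) I hc
          rwa [mul_assoc, Units.mul_inv, mul_one] at this
        have hI'gt : I < I ⊔ Ideal.span {ε} := by
          refine lt_of_le_of_ne le_sup_left fun h => hεI ?_
          rw [h]
          exact Ideal.mem_sup_right (Ideal.mem_span_singleton_self ε)
        have hI'le : I ⊔ Ideal.span {ε} ≤ IsLocalRing.maximalIdeal C :=
          sup_le hIm ((Ideal.span_singleton_le_iff_mem _).mpr hε_mem)
        exact step M src tgt ρ u hu _ I ε hcolon hmε hm (ih _ hI'gt hI'le)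
  exact key ⊥ bot_le

end core

end Groth.Agent.H97.ArtinSec
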