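import Mathlib
import Groth.Agent.H97.ArtinSec

set_option autoImplicit false
universe u

open CategoryTheory CategoryTheory.Limits AlgebraicGeometry Opposite TopologicalSpace

namespace Groth.Agent.H97.ArtinSecGeom

variable {C : Type u} [CommRing C] {X : Scheme.{u}} (g : X ⟶ Spec (CommRingCat.of C))

/-- the structure map `C → Γ(X, U)` -/
noncomputable def cmap (U : X.Opens) : C →+* Γ(X, U) :=
  (X.presheaf.map (homOfLE (le_top : U ≤ ⊤)).op).hom.comp
    ((Scheme.ΓSpecIso (CommRingCat.of C)).inv ≫ g.appTop).hom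

theorem res_cmap {U V : X.Opens} (h : V ≤ U) (c : C) :
    (X.presheaf.map (homOfLE h).op).hom (cmap g U c) = cmap g V c := by
  unfold cmap
  simp only [RingHom.comp_apply]
  rw [← CommRingCat.comp_apply, ← Functor.map_comp]
  rfl

theorem cmap_eq_appLE (U : X.Opens) :
    cmap g U = (g.appLE ⊤ U le_top).hom.comp (Scheme.ΓSpecIso (CommRingCat.of C)).inv.hom := by
  unfold cmap Scheme.Hom.appLE
  rfl

/-- the `C`-algebra structure on sections -/
@[reducible] noncomputable def secAlg (U : X.Opens) : Algebra C Γ(X, U) := (cmap g U).toAlgebra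

theorem flat_sec [Flat g] (U : X.Opens) (hU : IsAffineOpen U) :
    letI := secAlg g U
    Module.Flat C Γ(X, U) := by
  have h1 : (g.appLE ⊤ U le_top).hom.Flat :=
    HasRingHomProperty.appLE (P := @Flat) g inferInstance ⟨⊤, isAffineOpen_top _⟩ ⟨U, hU⟩ le_top
  have h2 : (cmap g U).Flat := by
    rw [cmap_eq_appLE]
    exact RingHom.Flat.comp (RingHom.Flat.of_bijective
      (ConcreteCategory.bijective_of_isIso (Scheme.ΓSpecIso (CommRingCat.of C)).inv)) h1
  exact h2

/-- restriction as a `C`-linear map -/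
noncomputable def resLin {U V : X.Opens} (h : V ≤ U) :
    letI := secAlg g U
    letI := secAlg g V
    Γ(X, U) →ₗ[C] Γ(X, V) :=
  letI := secAlg g U
  letI := secAlg g V
  { toFun := (X.presheaf.map (homOfLE h).op).hom
    map_add' := map_add _
    map_smul' := fun c s => by
      simp only [Algebra.smul_def, map_mul, RingHom.id_apply]
      congr 1
      exact res_cmap g h c }

theorem cmap_top : cmap g ⊤ = ((Scheme.ΓSpecIso (CommRingCat.of C)).inv ≫ g.appTop).hom := by
  unfold cmap
  have : (homOfLE (le_top : (⊤ : X.Opens) ≤ ⊤)).op = 𝟙 _ := rfl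
  rw [this, X.presheaf.map_id]
  rfl

variable (X) in
/-- pairs of affine opens `V ≤ U` -/
abbrev Edge := {p : X.affineOpens × X.affineOpens // p.2.1 ≤ p.1.1}

/-- the statement `C ⧸ I ≅ Sec(I)` for the affine opens of `X` -/
def PX (I : Ideal C) : Prop :=
  letI : ∀ U : X.affineOpens, Algebra C Γ(X, U.1) := fun U => secAlg g U.1
  Groth.Agent.H97.ArtinSec.P (C := C) (fun U : X.affineOpens => Γ(X, U.1))
    (fun e : Edge X => e.1.1) (fun e => e.1.2) (fun e => resLin g e.2) (fun _ => 1) I

theorem PX_bot_of_PX_max [IsLocalRing C] [IsArtinianRing C] [Flat g]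
    (h : PX g (IsLocalRing.maximalIdeal C)) : PX g ⊥ := by
  letI : ∀ U : X.affineOpens, Algebra C Γ(X, U.1) := fun U => secAlg g U.1
  haveI : ∀ U : X.affineOpens, Module.Flat C Γ(X, U.1) := fun U => flat_sec g U.1 U.2
  refine Groth.Agent.H97.ArtinSec.main (C := C) (fun U : X.affineOpens => Γ(X, U.1))
    (fun e : Edge X => e.1.1) (fun e => e.1.2) (fun e => resLin g e.2) (fun _ => 1) ?_ h
  intro e
  exact map_one (X.presheaf.map (homOfLE e.2).op).hom

theorem bijective_of_PX_bot (h : PX g ⊥) :
    Function.Bijective ((Scheme.ΓSpecIso (CommRingCat.of C)).inv ≫ g.appTop) := by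
  letI : ∀ U : X.affineOpens, Algebra C Γ(X, U.1) := fun U => secAlg g U.1
  have hbot : ∀ (U : X.affineOpens) (y : Γ(X, U.1)),
      y ∈ ((⊥ : Ideal C) • ⊤ : Submodule C Γ(X, U.1)) → y = 0 := by
    intro U y hy
    rw [Submodule.bot_smul] at hy
    exact hy
  have hsmul : ∀ (U : X.affineOpens) (c : C), c • (1 : Γ(X, U.1)) = cmap g U.1 c := by
    intro U c
    rw [Algebra.smul_def, mul_one]
    rfl
  constructor
  · rw [injective_iff_map_eq_zero]
    intro c hc
    have hc' : cmap g ⊤ c = 0 := by rw [cmap_top]; exact hc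
    have := h.2 c (fun U => by
      rw [hsmul, ← res_cmap g (le_top : U.1 ≤ ⊤), hc', map_zero]
      exact Submodule.zero_mem _)
    exact this
  · intro s
    have hcompat : Groth.Agent.H97.ArtinSec.Compat (C := C) (fun U : X.affineOpens => Γ(X, U.1))
        (fun e : Edge X => e.1.1) (fun e => e.1.2) (fun e => resLin g e.2) ⊥
        (fun U => (X.presheaf.map (homOfLE (le_top : U.1 ≤ ⊤)).op).hom s) := by
      intro e
      have : resLin g e.2 ((X.presheaf.map (homOfLE (le_top : e.1.1.1 ≤ ⊤)).op).hom s) =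
          (X.presheaf.map (homOfLE (le_top : e.1.2.1 ≤ ⊤)).op).hom s := by
        change (X.presheaf.map (homOfLE e.2).op).hom _ = _
        rw [← CommRingCat.comp_apply, ← Functor.map_comp]
        rfl
      rw [this, sub_self]
      exact Submodule.zero_mem _
    obtain ⟨c, hc⟩ := h.1 _ hcompat
    refine ⟨c, ?_⟩
    have h1 : cmap g ⊤ c = s := by
      refine X.sheaf.eq_of_locally_eq' (fun U : X.affineOpens => U.1) ⊤
        (fun U => homOfLE le_top) (by rw [iSup_affineOpens_eq_top]) _ _ ?_
      intro U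
      have h2 := hbot U _ (hc U)
      rw [hsmul, sub_eq_zero] at h2
      exact (res_cmap g (le_top : U.1 ≤ ⊤) c).trans h2.symm
    rw [cmap_top] at h1
    exact h1

end Groth.Agent.H97.ArtinSecGeom
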