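import Mathlib
import Groth.Agent.H97.ArtinSecGeom

set_option autoImplicit false
universe u

open CategoryTheory CategoryTheory.Limits AlgebraicGeometry Opposite TopologicalSpace

namespace Groth.Agent.H97.ArtinSecFibre

open Groth.Agent.H97.ArtinSecGeom

/-- kernel of the pushout of a surjection -/
theorem pushout_ker {A B A' D : CommRingCat.{u}} {a : A ⟶ B} {q : A ⟶ A'} {b : B ⟶ D} {q' : A' ⟶ D}
    (H : IsPushout a q b q') (hq : Function.Surjective q.hom) (s : B) (hs : b.hom s = 0) :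
    s ∈ Ideal.map a.hom (RingHom.ker q.hom) := by
  let JB := Ideal.map a.hom (RingHom.ker q.hom)
  let π : B ⟶ CommRingCat.of (B ⧸ JB) := CommRingCat.ofHom (Ideal.Quotient.mk JB)
  have hφ : RingHom.ker q.hom ≤ RingHom.ker ((Ideal.Quotient.mk JB).comp a.hom) := by
    intro x hx
    rw [RingHom.mem_ker, RingHom.comp_apply, Ideal.Quotient.eq_zero_iff_mem]
    exact Ideal.mem_map_of_mem _ hx
  let σ : A' ⟶ CommRingCat.of (B ⧸ JB) :=
    CommRingCat.ofHom (RingHom.liftOfSurjective q.hom hq ⟨(Ideal.Quotient.mk JB).comp a.hom, hφ⟩)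
  have hcomm : a ≫ π = q ≫ σ := by
    ext x
    change Ideal.Quotient.mk JB (a.hom x) =
      RingHom.liftOfSurjective q.hom hq ⟨(Ideal.Quotient.mk JB).comp a.hom, hφ⟩ (q.hom x)
    rw [RingHom.liftOfRightInverse_comp_apply]
    rfl
  have h1 : b ≫ H.desc π σ hcomm = π := H.inl_desc _ _ _
  have h2 : π.hom s = 0 := by
    rw [← h1]
    change (H.desc π σ hcomm).hom (b.hom s) = 0
    rw [hs, map_zero]
  exact Ideal.Quotient.eq_zero_iff_mem.mp h2

variable {C : Type u} [CommRing C] [IsLocalRing C] {X X₀ : Scheme.{u}}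
  (g : X ⟶ Spec (CommRingCat.of C)) (i : X₀ ⟶ X)
  (f₀ : X₀ ⟶ Spec (CommRingCat.of (C ⧸ IsLocalRing.maximalIdeal C)))

/-- the open of `X₀` over `U` -/
noncomputable def U0 (U : X.Opens) : X₀.Opens := i ⁻¹ᵁ U ⊓ f₀ ⁻¹ᵁ ⊤

theorem U0_le (U : X.Opens) : U0 i f₀ U ≤ i ⁻¹ᵁ U := inf_le_left

theorem U0_mono {U V : X.Opens} (h : V ≤ U) : U0 i f₀ V ≤ U0 i f₀ U :=
  inf_le_inf_right _ ((Opens.map i.base).monotone h)

theorem mem_U0 {U : X.Opens} (x : X₀) : x ∈ U0 i f₀ U ↔ i.base x ∈ U := by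
  unfold U0
  constructor
  · intro h; exact h.1
  · intro h; exact ⟨h, trivial⟩

/-- the map `Γ(X, U) → Γ(X₀, U₀)` -/
noncomputable def toFib (U : X.Opens) : Γ(X, U) →+* Γ(X₀, U0 i f₀ U) :=
  (i.appLE U (U0 i f₀ U) (U0_le i f₀ U)).hom

theorem toFib_res {U V : X.Opens} (h : V ≤ U) (s : Γ(X, U)) :
    toFib i f₀ V ((X.presheaf.map (homOfLE h).op).hom s) =
      (X₀.presheaf.map (homOfLE (U0_mono i f₀ h)).op).hom (toFib i f₀ U s) := by
  unfold toFib
  rw [← CommRingCat.comp_apply, ← CommRingCat.comp_apply, Scheme.Hom.map_appLE,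
    Scheme.Hom.appLE_map]

omit [IsLocalRing C] in
theorem le_pre_top {Y Z : Scheme.{u}} (h : Y ⟶ Z) (U : Y.Opens) : U ≤ h ⁻¹ᵁ ⊤ := le_top

omit [IsLocalRing C] in
theorem cmap_hom (U : X.Opens) :
    CommRingCat.ofHom (cmap g U) =
      (Scheme.ΓSpecIso (CommRingCat.of C)).inv ≫ g.appLE ⊤ U (le_pre_top g U) := by
  ext c
  rw [cmap_eq_appLE]
  rfl

theorem toFib_cmap_hom
    (hw : i ≫ g = f₀ ≫ Spec.map (CommRingCat.ofHom (Ideal.Quotient.mk (IsLocalRing.maximalIdeal C))))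
    (U : X.Opens) :
    CommRingCat.ofHom (cmap g U) ≫ i.appLE U (U0 i f₀ U) (U0_le i f₀ U) =
      CommRingCat.ofHom (Ideal.Quotient.mk (IsLocalRing.maximalIdeal C)) ≫
        CommRingCat.ofHom (cmap f₀ (U0 i f₀ U)) := by
  rw [cmap_hom, cmap_hom, Category.assoc, Scheme.Hom.appLE_comp_appLE]
  have h1 : (i ≫ g).appLE ⊤ (U0 i f₀ U) (le_pre_top _ _) =
      (Spec.map (CommRingCat.ofHom (Ideal.Quotient.mk (IsLocalRing.maximalIdeal C)))).appLE ⊤ ⊤
          (le_pre_top _ _) ≫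
        f₀.appLE ⊤ (U0 i f₀ U) (le_pre_top _ _) := by
    rw [Scheme.Hom.appLE_comp_appLE]
    congr 1
  rw [h1, ← Category.assoc, ← Category.assoc]
  congr 1
  have h2 : (Spec.map (CommRingCat.ofHom (Ideal.Quotient.mk (IsLocalRing.maximalIdeal C)))).appLE
      ⊤ ⊤ (le_pre_top _ _) = (Spec.map (CommRingCat.ofHom
        (Ideal.Quotient.mk (IsLocalRing.maximalIdeal C)))).appTop := by
    rw [Scheme.Hom.appTop, Scheme.Hom.app_eq_appLE]
    rfl
  rw [h2]
  exact (Scheme.ΓSpecIso_inv_naturality _).symm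

theorem toFib_cmap
    (hw : i ≫ g = f₀ ≫ Spec.map (CommRingCat.ofHom (Ideal.Quotient.mk (IsLocalRing.maximalIdeal C))))
    (U : X.Opens) (c : C) :
    toFib i f₀ U (cmap g U c) =
      cmap f₀ (U0 i f₀ U) (Ideal.Quotient.mk (IsLocalRing.maximalIdeal C) c) :=
  congrArg (fun φ => φ.hom c) (toFib_cmap_hom g i f₀ hw U)

theorem appTop_mk_comp :
    (Spec.map (CommRingCat.ofHom (Ideal.Quotient.mk (IsLocalRing.maximalIdeal C)))).appLE ⊤ ⊤
        (le_pre_top _ _) ≫ (Scheme.ΓSpecIso (CommRingCat.of (C ⧸ IsLocalRing.maximalIdeal C))).hom =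
      (Scheme.ΓSpecIso (CommRingCat.of C)).hom ≫
        CommRingCat.ofHom (Ideal.Quotient.mk (IsLocalRing.maximalIdeal C)) := by
  have h2 : (Spec.map (CommRingCat.ofHom (Ideal.Quotient.mk (IsLocalRing.maximalIdeal C)))).appLE
      ⊤ ⊤ (le_pre_top _ _) = (Spec.map (CommRingCat.ofHom
        (Ideal.Quotient.mk (IsLocalRing.maximalIdeal C)))).appTop := by
    rw [Scheme.Hom.appTop, Scheme.Hom.app_eq_appLE]
    rfl
  rw [h2]
  exact Scheme.ΓSpecIso_naturality _

theorem toFib_eq_zero_of_mem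
    (hw : i ≫ g = f₀ ≫ Spec.map (CommRingCat.ofHom (Ideal.Quotient.mk (IsLocalRing.maximalIdeal C))))
    (U : X.Opens) (s : Γ(X, U))
    (hs : s ∈ Ideal.map (cmap g U) (IsLocalRing.maximalIdeal C)) : toFib i f₀ U s = 0 := by
  have hle : Ideal.map (cmap g U) (IsLocalRing.maximalIdeal C) ≤ RingHom.ker (toFib i f₀ U) := by
    rw [Ideal.map_le_iff_le_comap]
    intro c hc
    rw [Ideal.mem_comap, RingHom.mem_ker, toFib_cmap g i f₀ hw U c]
    have : Ideal.Quotient.mk (IsLocalRing.maximalIdeal C) c = 0 :=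
      Ideal.Quotient.eq_zero_iff_mem.mpr hc
    rw [this, map_zero]
  exact hle hs

theorem mem_of_toFib_eq_zero
    (hsq : IsPullback i f₀ g
      (Spec.map (CommRingCat.ofHom (Ideal.Quotient.mk (IsLocalRing.maximalIdeal C)))))
    (U : X.Opens) (hU : IsAffineOpen U) (s : Γ(X, U)) (hs : toFib i f₀ U s = 0) :
    s ∈ Ideal.map (cmap g U) (IsLocalRing.maximalIdeal C) := by
  have hiso := isIso_pushoutSection_of_isAffineOpen hsq
    (US := ⊤) (UT := ⊤) (UX := U) (UY := U0 i f₀ U) (le_pre_top _ _) (le_pre_top _ _) rfl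
    (isAffineOpen_top _) (isAffineOpen_top _) hU
  have hpo := (isIso_pushoutSection_iff hsq (le_pre_top _ _) (le_pre_top _ _) rfl).mp hiso
  have hq : Function.Surjective ((Spec.map (CommRingCat.ofHom
      (Ideal.Quotient.mk (IsLocalRing.maximalIdeal C)))).appLE ⊤ ⊤ (le_pre_top _ _)).hom := by
    intro y
    obtain ⟨c, hc⟩ := Ideal.Quotient.mk_surjective
      ((Scheme.ΓSpecIso (CommRingCat.of (C ⧸ IsLocalRing.maximalIdeal C))).hom.hom y)
    refine ⟨(Scheme.ΓSpecIso (CommRingCat.of C)).inv.hom c, ?_⟩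
    apply (ConcreteCategory.bijective_of_isIso
      (Scheme.ΓSpecIso (CommRingCat.of (C ⧸ IsLocalRing.maximalIdeal C))).hom).injective
    have h3 := congrArg (fun φ => φ.hom ((Scheme.ΓSpecIso (CommRingCat.of C)).inv.hom c))
      (appTop_mk_comp (C := C))
    simp only [CommRingCat.hom_comp, RingHom.comp_apply] at h3
    refine h3.trans ?_
    rw [← hc]
    congr 1
    exact congrArg (fun φ => φ.hom c) (Scheme.ΓSpecIso (CommRingCat.of C)).inv_hom_id
  have hmem := pushout_ker hpo hq s hs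
  refine (Ideal.map_le_iff_le_comap.mpr ?_) hmem
  intro x hx
  rw [Ideal.mem_comap]
  have hx' : ((Spec.map (CommRingCat.ofHom
      (Ideal.Quotient.mk (IsLocalRing.maximalIdeal C)))).appLE ⊤ ⊤ (le_pre_top _ _)).hom x = 0 := hx
  have h3 := congrArg (fun φ => φ.hom x) (appTop_mk_comp (C := C))
  simp only [CommRingCat.hom_comp, RingHom.comp_apply] at h3
  rw [hx', map_zero] at h3
  have hc : (Scheme.ΓSpecIso (CommRingCat.of C)).hom.hom x ∈ IsLocalRing.maximalIdeal C :=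
    Ideal.Quotient.eq_zero_iff_mem.mp h3.symm
  have hx2 : x = (Scheme.ΓSpecIso (CommRingCat.of C)).inv.hom
      ((Scheme.ΓSpecIso (CommRingCat.of C)).hom.hom x) :=
    (congrArg (fun φ => φ.hom x) (Scheme.ΓSpecIso (CommRingCat.of C)).hom_inv_id).symm
  have h4 : (g.appLE ⊤ U (le_pre_top _ _)).hom x =
      cmap g U ((Scheme.ΓSpecIso (CommRingCat.of C)).hom.hom x) := by
    rw [cmap_eq_appLE]
    conv_lhs => rw [hx2]
    rfl
  rw [h4]
  exact Ideal.mem_map_of_mem _ hc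

end Groth.Agent.H97.ArtinSecFibre
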