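import Mathlib
import Groth.Agent.H97.ArtinSecFibre

set_option autoImplicit false
universe u

open CategoryTheory CategoryTheory.Limits AlgebraicGeometry Opposite TopologicalSpace

namespace Groth.Agent.H97.ArtinSecGlue

open Groth.Agent.H97.ArtinSecGeom Groth.Agent.H97.ArtinSecFibre

variable {C : Type u} [CommRing C] [IsLocalRing C] {X X₀ : Scheme.{u}}
  (g : X ⟶ Spec (CommRingCat.of C)) (i : X₀ ⟶ X)
  (f₀ : X₀ ⟶ Spec (CommRingCat.of (C ⧸ IsLocalRing.maximalIdeal C)))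

theorem cover_U0 : (⊤ : X₀.Opens) ≤ ⨆ U : X.affineOpens, U0 i f₀ U.1 := by
  intro x _
  obtain ⟨U, hU, hxU, -⟩ := Opens.isBasis_iff_nbhd.mp X.isBasis_affineOpens
    (show i.base x ∈ (⊤ : X.Opens) from trivial)
  exact Opens.mem_iSup.mpr ⟨⟨U, hU⟩, (mem_U0 i f₀ x).mpr hxU⟩

theorem glue (t : ∀ U : X.affineOpens, Γ(X₀, U0 i f₀ U.1))
    (ht : ∀ (U V : X.affineOpens) (h : V.1 ≤ U.1),
      (X₀.presheaf.map (homOfLE (U0_mono i f₀ h)).op).hom (t U) = t V) :
    ∃ T : Γ(X₀, ⊤), ∀ U : X.affineOpens,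
      (X₀.presheaf.map (homOfLE (le_top : U0 i f₀ U.1 ≤ ⊤)).op).hom T = t U := by
  have hcompat : TopCat.Presheaf.IsCompatible X₀.presheaf
      (fun U : X.affineOpens => U0 i f₀ U.1) t := by
    intro U V
    refine X₀.sheaf.eq_of_locally_eq'
      (fun W : {W : X.affineOpens // W.1 ≤ U.1 ⊓ V.1} => U0 i f₀ W.1.1) _
      (fun W => homOfLE (le_inf (U0_mono i f₀ (W.2.trans inf_le_left))
        (U0_mono i f₀ (W.2.trans inf_le_right)))) ?_ _ _ ?_
    · intro x hx
      have hxU : i.base x ∈ U.1 := (mem_U0 i f₀ x).mp hx.1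
      have hxV : i.base x ∈ V.1 := (mem_U0 i f₀ x).mp hx.2
      obtain ⟨W, hW, hxW, hWUV⟩ := Opens.isBasis_iff_nbhd.mp X.isBasis_affineOpens
        (show i.base x ∈ U.1 ⊓ V.1 from ⟨hxU, hxV⟩)
      exact Opens.mem_iSup.mpr ⟨⟨⟨W, hW⟩, hWUV⟩, (mem_U0 i f₀ x).mpr hxW⟩
    · intro W
      have h1 := ht U W.1 (W.2.trans inf_le_left)
      have h2 := ht V W.1 (W.2.trans inf_le_right)
      refine Eq.trans ?_ (h1.trans h2.symm) |>.trans ?_
      · change (X₀.presheaf.map _ ≫ X₀.presheaf.map _).hom (t U) = _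
        rw [← Functor.map_comp]
        rfl
      · change _ = (X₀.presheaf.map _ ≫ X₀.presheaf.map _).hom (t V)
        rw [← Functor.map_comp]
        rfl
  obtain ⟨T, hT, -⟩ := X₀.sheaf.existsUnique_gluing' (fun U : X.affineOpens => U0 i f₀ U.1) ⊤
    (fun U => homOfLE le_top) (cover_U0 i f₀) t hcompat
  exact ⟨T, hT⟩

theorem PX_max
    (hsq : IsPullback i f₀ g
      (Spec.map (CommRingCat.ofHom (Ideal.Quotient.mk (IsLocalRing.maximalIdeal C)))))
    (h0 : Function.Bijective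
      ((Scheme.ΓSpecIso (CommRingCat.of (C ⧸ IsLocalRing.maximalIdeal C))).inv ≫ f₀.appTop)) :
    PX g (IsLocalRing.maximalIdeal C) := by
  letI : ∀ U : X.affineOpens, Algebra C Γ(X, U.1) := fun U => secAlg g U.1
  have hw := hsq.w
  have hmem : ∀ (U : X.affineOpens) (y : Γ(X, U.1)),
      y ∈ (IsLocalRing.maximalIdeal C • ⊤ : Submodule C Γ(X, U.1)) ↔
        y ∈ Ideal.map (cmap g U.1) (IsLocalRing.maximalIdeal C) := by
    intro U y
    rw [Ideal.smul_top_eq_map]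
    rfl
  have hsmul : ∀ (U : X.affineOpens) (c : C), c • (1 : Γ(X, U.1)) = cmap g U.1 c := by
    intro U c
    rw [Algebra.smul_def, mul_one]
    rfl
  constructor
  · intro s hs
    have ht : ∀ (U V : X.affineOpens) (h : V.1 ≤ U.1),
        (X₀.presheaf.map (homOfLE (U0_mono i f₀ h)).op).hom (toFib i f₀ U.1 (s U)) =
          toFib i f₀ V.1 (s V) := by
      intro U V h
      rw [← toFib_res]
      have h1 := hs ⟨(U, V), h⟩
      have h2 := toFib_eq_zero_of_mem g i f₀ hw V.1 _ ((hmem V _).mp h1)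
      rw [map_sub, sub_eq_zero] at h2
      exact h2
    obtain ⟨T, hT⟩ := glue i f₀ (fun U => toFib i f₀ U.1 (s U)) ht
    obtain ⟨cbar, hcbar⟩ := h0.surjective T
    obtain ⟨c, rfl⟩ := Ideal.Quotient.mk_surjective cbar
    refine ⟨c, fun U => ?_⟩
    rw [hmem, hsmul]
    apply mem_of_toFib_eq_zero g i f₀ hsq U.1 U.2
    rw [map_sub, toFib_cmap g i f₀ hw, sub_eq_zero, ← hT U, ← hcbar]
    have h3 := res_cmap f₀ (le_top : U0 i f₀ U.1 ≤ ⊤)
      (Ideal.Quotient.mk (IsLocalRing.maximalIdeal C) c)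
    rw [cmap_top] at h3
    exact h3
  · intro c hc
    have h1 : ∀ U : X.affineOpens,
        cmap f₀ (U0 i f₀ U.1) (Ideal.Quotient.mk (IsLocalRing.maximalIdeal C) c) = 0 := by
      intro U
      rw [← toFib_cmap g i f₀ hw]
      apply toFib_eq_zero_of_mem g i f₀ hw
      rw [← hmem, ← hsmul]
      exact hc U
    have h2 : cmap f₀ ⊤ (Ideal.Quotient.mk (IsLocalRing.maximalIdeal C) c) = 0 := by
      refine X₀.sheaf.eq_of_locally_eq' (fun U : X.affineOpens => U0 i f₀ U.1) ⊤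
        (fun U => homOfLE le_top) (cover_U0 i f₀) _ _ ?_
      intro U
      have h3 := res_cmap f₀ (le_top : U0 i f₀ U.1 ≤ ⊤)
        (Ideal.Quotient.mk (IsLocalRing.maximalIdeal C) c)
      refine h3.trans ((h1 U).trans ?_)
      exact (map_zero (X₀.presheaf.map (homOfLE (le_top : U0 i f₀ U.1 ≤ ⊤)).op).hom).symm
    rw [cmap_top] at h2
    have h4 : Ideal.Quotient.mk (IsLocalRing.maximalIdeal C) c = 0 := by
      apply h0.injective
      refine h2.trans ?_
      exact (map_zero ((Scheme.ΓSpecIso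
        (CommRingCat.of (C ⧸ IsLocalRing.maximalIdeal C))).inv ≫ f₀.appTop).hom).symm
    exact Ideal.Quotient.eq_zero_iff_mem.mp h4

theorem main [IsArtinianRing C] [Flat g]
    (hsq : IsPullback i f₀ g
      (Spec.map (CommRingCat.ofHom (Ideal.Quotient.mk (IsLocalRing.maximalIdeal C)))))
    (h0 : Function.Bijective
      ((Scheme.ΓSpecIso (CommRingCat.of (C ⧸ IsLocalRing.maximalIdeal C))).inv ≫ f₀.appTop)) :
    Function.Bijective ((Scheme.ΓSpecIso (CommRingCat.of C)).inv ≫ g.appTop) :=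
  bijective_of_PX_bot g (PX_bot_of_PX_max g (PX_max g i f₀ hsq h0))

end Groth.Agent.H97.ArtinSecGlue
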