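import Mathlib

/-!
# Gluing local isomorphisms over the target into an open immersion
-/

open CategoryTheory Limits AlgebraicGeometry

universe u

namespace Groth.Agent.H97.CartSqSch

theorem isIso_restrict_of_square {X Y U' V' : Scheme.{u}} (φ : X ⟶ Y) (a : U' ⟶ X) (b : V' ⟶ Y)
    [IsOpenImmersion a] [IsOpenImmersion b] (e : U' ⟶ V') [IsIso e] (w : a ≫ φ = e ≫ b)
    (hr : a.opensRange = φ ⁻¹ᵁ b.opensRange) : IsIso (φ ∣_ b.opensRange) := by
  let α : U' ≅ (φ ⁻¹ᵁ b.opensRange : X.Opens) :=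
    IsOpenImmersion.isoOfRangeEq a (φ ⁻¹ᵁ b.opensRange).ι (by
      rw [Scheme.Opens.range_ι, ← hr]; rfl)
  let β : V' ≅ (b.opensRange : Y.Opens) :=
    IsOpenImmersion.isoOfRangeEq b b.opensRange.ι (by rw [Scheme.Opens.range_ι]; rfl)
  have h : φ ∣_ b.opensRange = α.inv ≫ e ≫ β.hom := by
    rw [Iso.eq_inv_comp, ← cancel_mono b.opensRange.ι]
    simp only [Category.assoc, morphismRestrict_ι]
    rw [IsOpenImmersion.isoOfRangeEq_hom_fac, IsOpenImmersion.isoOfRangeEq_hom_fac_assoc, w]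
  rw [h]
  infer_instance

theorem isIso_morphismRestrict_iSup {X Y : Scheme.{u}} (φ : X ⟶ Y) {ι : Type*} (V : ι → Y.Opens)
    (h : ∀ i, IsIso (φ ∣_ V i)) : IsIso (φ ∣_ (⨆ i, V i)) := by
  change MorphismProperty.isomorphisms Scheme.{u} _
  rw [IsZariskiLocalAtTarget.iff_of_iSup_eq_top (P := MorphismProperty.isomorphisms Scheme.{u})
    (fun i => (⨆ i, V i).ι ⁻¹ᵁ V i)]
  · intro i
    rw [(MorphismProperty.isomorphisms Scheme.{u}).arrow_mk_iso_iff (morphismRestrictRestrict φ _ _)]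
    have he : (⨆ i, V i).ι ''ᵁ ((⨆ i, V i).ι ⁻¹ᵁ V i) = V i := by
      rw [Scheme.Hom.image_preimage_eq_opensRange_inf, Scheme.Opens.opensRange_ι]
      exact inf_eq_right.mpr (le_iSup V i)
    rw [(MorphismProperty.isomorphisms Scheme.{u}).arrow_mk_iso_iff (morphismRestrictEq φ he)]
    exact h i
  · rw [← Scheme.Hom.preimage_iSup]
    simp

theorem isOpenImmersion_of_isIso_restrict {X Y : Scheme.{u}} (φ : X ⟶ Y) {ι : Type*}
    (V : ι → Y.Opens) (h : ∀ i, IsIso (φ ∣_ V i)) (W : X.Opens) (hW : W = ⨆ i, φ ⁻¹ᵁ V i) :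
    IsOpenImmersion (W.ι ≫ φ) := by
  have h1 : IsIso (φ ∣_ (⨆ i, V i)) := isIso_morphismRestrict_iSup φ V h
  have hW' : W = φ ⁻¹ᵁ (⨆ i, V i) := by rw [hW, Scheme.Hom.preimage_iSup]
  have h2 : W.ι ≫ φ = (X.isoOfEq hW').hom ≫ (φ ∣_ (⨆ i, V i)) ≫ (⨆ i, V i).ι := by
    rw [morphismRestrict_ι, Scheme.isoOfEq_hom_ι_assoc]
  rw [h2]
  infer_instance

end Groth.Agent.H97.CartSqSch
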