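import Mathlib
import Groth.Prelude.Def_CohB1

/-!
# Charts of projective space over an arbitrary commutative ring

`θ`, `cst`, `xc` are adapted from helper54/helper8's versions (there over a field); here over any
commutative ring.  We show `Away 𝒜 (X i) ≃ MvPolynomial {j // j ≠ i} k` and its compatibility with
base change.
-/

set_option autoImplicit false
universe u
open CategoryTheory CategoryTheory.Limits AlgebraicGeometry TopologicalSpace Opposite
open HomogeneousLocalization

namespace Groth.Agent.H97.ProjChart

section alg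
variable (k : Type u) [CommRing k] (n : ℕ)

local notation "𝒜" => CohB1.polyGrading n k
local notation "S" => MvPolynomial (Fin (n + 1)) k

/-- the linear form with coefficients `c` -/
noncomputable def lin (c : Fin (n + 1) → k) : S := ∑ j, MvPolynomial.C (c j) * MvPolynomial.X j

theorem X_mem (j : Fin (n + 1)) : (MvPolynomial.X j : S) ∈ 𝒜 1 :=
  (MvPolynomial.mem_homogeneousSubmodule 1 _).mpr (MvPolynomial.isHomogeneous_X k j)

theorem C_mem (a : k) : (MvPolynomial.C a : S) ∈ 𝒜 0 :=
  (MvPolynomial.mem_homogeneousSubmodule 0 _).mpr (MvPolynomial.isHomogeneous_C _ a)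

theorem lin_mem (c : Fin (n + 1) → k) : lin k n c ∈ 𝒜 1 := by
  unfold lin
  apply Submodule.sum_mem
  intro j _
  have := SetLike.mul_mem_graded (C_mem k n (c j)) (X_mem k n j)
  rwa [zero_add] at this

/-- constants in a homogeneous localization -/
noncomputable def cst (x : Submonoid S) : k →+* HomogeneousLocalization 𝒜 x :=
  (fromZeroRingHom 𝒜 x).comp (algebraMap k (𝒜 0))

theorem val_cst (x : Submonoid S) (a : k) :
    (cst k n x a).val = Localization.mk (MvPolynomial.C a) 1 := by
  unfold cst
  rw [RingHom.comp_apply]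
  unfold fromZeroRingHom
  simp only [RingHom.coe_mk, MonoidHom.coe_mk, OneHom.coe_mk, val_mk]
  rfl

variable (i : Fin (n + 1))

/-- the coordinate functions `X j / X i` on the chart `D₊(X i)` -/
noncomputable def xc (j : Fin (n + 1)) : Away 𝒜 (MvPolynomial.X i : S) :=
  HomogeneousLocalization.mk ⟨1, ⟨MvPolynomial.X j, X_mem k n j⟩, ⟨MvPolynomial.X i, X_mem k n i⟩,
    Submonoid.mem_powers _⟩

theorem val_xc (j : Fin (n + 1)) :
    (xc k n i j).val = Localization.mk (MvPolynomial.X j) ⟨MvPolynomial.X i, Submonoid.mem_powers _⟩ := rfl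

/-- the element `X i ^ d` of the submonoid of powers -/
noncomputable def powX (d : ℕ) : Submonoid.powers (MvPolynomial.X i : S) :=
  ⟨MvPolynomial.X i ^ d, d, rfl⟩

theorem coe_powX (d : ℕ) : ((powX k n i d : Submonoid.powers (MvPolynomial.X i : S)) : S) =
    MvPolynomial.X i ^ d := rfl

/-- dehomogenization -/
noncomputable def θ : S →+* Away 𝒜 (MvPolynomial.X i : S) :=
  MvPolynomial.eval₂Hom (cst k n _) (xc k n i)

theorem θ_X (j : Fin (n + 1)) : θ k n i (MvPolynomial.X j) = xc k n i j := by
  unfold θ; simp

theorem θ_C (a : k) : θ k n i (MvPolynomial.C a) = cst k n _ a := by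
  unfold θ; simp

theorem loc_mk_prod {R : Type*} [CommRing R] {M : Submonoid R} {ι : Type*} (s : Finset ι)
    (a : ι → R) (b : ι → M) :
    ∏ j ∈ s, Localization.mk (a j) (b j) = Localization.mk (∏ j ∈ s, a j) (∏ j ∈ s, b j) := by
  classical
  induction s using Finset.induction_on with
  | empty => simp [Localization.mk_one]
  | insert j s hj ih =>
    rw [Finset.prod_insert hj, Finset.prod_insert hj, Finset.prod_insert hj, ih, Localization.mk_mul]

theorem val_θ_of_mem (d : ℕ) (g : S) (hg : g ∈ 𝒜 d) :
    (θ k n i g).val = Localization.mk g (powX k n i d) := by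
  have hg' : g.IsHomogeneous d := (MvPolynomial.mem_homogeneousSubmodule d _).mp hg
  unfold θ
  rw [MvPolynomial.coe_eval₂Hom, MvPolynomial.eval₂_eq']
  rw [← HomogeneousLocalization.algebraMap_apply, map_sum]
  have hterm : ∀ α ∈ g.support,
      algebraMap (Away 𝒜 (MvPolynomial.X i : S)) (Localization (Submonoid.powers (MvPolynomial.X i : S)))
        (cst k n _ (g.coeff α) * ∏ j, xc k n i j ^ α j) =
      Localization.mk (MvPolynomial.monomial α (g.coeff α)) (powX k n i d) := by
    intro α hα
    have hdeg : α.degree = d := by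
      by_contra hne
      exact (MvPolynomial.mem_support_iff.mp hα) (hg'.coeff_eq_zero hne)
    rw [map_mul, map_prod, HomogeneousLocalization.algebraMap_apply, val_cst]
    simp only [map_pow, HomogeneousLocalization.algebraMap_apply, val_xc, Localization.mk_pow]
    rw [loc_mk_prod, Localization.mk_mul, MvPolynomial.monomial_eq, Finsupp.prod_fintype _ _ (by simp)]
    congr 1
    apply Subtype.ext
    rw [one_mul, Submonoid.coe_finsetProd, coe_powX]
    simp only [SubmonoidClass.coe_pow]
    rw [Finset.prod_pow_eq_pow_sum]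
    congr 1
    rw [← hdeg, Finsupp.degree_eq_sum]
  rw [Finset.sum_congr rfl hterm, ← Localization.mk_sum]
  congr 1
  exact (MvPolynomial.support_sum_monomial_coeff g)

end alg

end Groth.Agent.H97.ProjChart

namespace Groth.Agent.H97.ProjChart

section alg2
variable (k : Type u) [CommRing k] (n : ℕ)

local notation "𝒜" => CohB1.polyGrading n k
local notation "S" => MvPolynomial (Fin (n + 1)) k

variable (i : Fin (n + 1))

theorem θ_eq_mk (d : ℕ) (g : S) (hg : g ∈ 𝒜 d) :
    θ k n i g = HomogeneousLocalization.mk ⟨d, ⟨g, hg⟩,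
      ⟨MvPolynomial.X i ^ d, by
        have := SetLike.pow_mem_graded d (X_mem k n i)
        rwa [smul_eq_mul, mul_one] at this⟩, (powX k n i d).2⟩ := by
  apply val_injective
  rw [val_θ_of_mem k n i d g hg, val_mk]
  rfl

theorem xc_self' : xc k n i i = 1 := by
  apply val_injective
  rw [val_xc, val_one]
  exact Localization.mk_self (⟨MvPolynomial.X i, Submonoid.mem_powers _⟩ :
    Submonoid.powers (MvPolynomial.X i : S))

theorem θ_surjective : Function.Surjective (θ k n i) := by
  intro z
  obtain ⟨d, g, hg, rfl⟩ := Away.mk_surjective 𝒜 (X_mem k n i) z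
  refine ⟨g, ?_⟩
  apply val_injective
  rw [val_θ_of_mem k n i (d • 1) g hg, Away.val_mk]
  congr 1
  apply Subtype.ext
  rw [coe_powX, smul_eq_mul, mul_one]
end alg2

end Groth.Agent.H97.ProjChart
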