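import Mathlib
import Groth.Prelude.Def_CohB1
import Groth.Agent.H97.ProjChartAlg

/-!
# The chart ring `Away 𝒜 (X i)` of projective space is a polynomial ring, compatibly with base change
-/

set_option autoImplicit false
universe u
open CategoryTheory CategoryTheory.Limits AlgebraicGeometry TopologicalSpace Opposite
open HomogeneousLocalization

namespace Groth.Agent.H97.ProjChart

section chart
variable (k : Type u) [CommRing k] (n : ℕ) (i : Fin (n + 1))

local notation "𝒜" => CohB1.polyGrading n k
local notation "S" => MvPolynomial (Fin (n + 1)) k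

/-- dehomogenization to the polynomial ring in the other variables -/
noncomputable def deh : S →+* MvPolynomial {j : Fin (n + 1) // j ≠ i} k :=
  MvPolynomial.eval₂Hom MvPolynomial.C
    (fun j => if h : j = i then 1 else MvPolynomial.X ⟨j, h⟩)

theorem deh_C (a : k) : deh k n i (MvPolynomial.C a) = MvPolynomial.C a := by
  simp [deh]

theorem deh_X_self : deh k n i (MvPolynomial.X i) = 1 := by
  simp [deh]

theorem deh_X_ne (j : Fin (n + 1)) (h : j ≠ i) :
    deh k n i (MvPolynomial.X j) = MvPolynomial.X ⟨j, h⟩ := by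
  simp [deh, h]

/-- general chart parametrization with prescribed coordinate elements -/
noncomputable def ψgen (x : S) (c : Fin (n + 1) → Away 𝒜 x) :
    MvPolynomial {j : Fin (n + 1) // j ≠ i} k →+* Away 𝒜 x :=
  MvPolynomial.eval₂Hom (cst k n _) (fun j => c j.1)

/-- chart parametrization -/
noncomputable def ψ : MvPolynomial {j : Fin (n + 1) // j ≠ i} k →+*
    Away 𝒜 (MvPolynomial.X i : S) :=
  ψgen k n i _ (xc k n i)

theorem ψ_C (a : k) : ψ k n i (MvPolynomial.C a) = cst k n _ a := by
  simp [ψ, ψgen]

theorem ψ_X (j : {j : Fin (n + 1) // j ≠ i}) : ψ k n i (MvPolynomial.X j) = xc k n i j.1 := by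
  simp [ψ, ψgen]

theorem ψ_comp_deh : (ψ k n i).comp (deh k n i) = θ k n i := by
  apply MvPolynomial.ringHom_ext
  · intro a
    rw [RingHom.comp_apply, deh_C, ψ_C, θ_C]
  · intro j
    rw [RingHom.comp_apply, θ_X]
    by_cases h : j = i
    · subst h
      rw [deh_X_self, map_one, xc_self']
    · rw [deh_X_ne k n i j h, ψ_X]

theorem ψ_surjective : Function.Surjective (ψ k n i) := by
  intro z
  obtain ⟨g, rfl⟩ := θ_surjective k n i z
  exact ⟨deh k n i g, by rw [← ψ_comp_deh]; rfl⟩

/-- the left inverse of `ψ` -/
noncomputable def ρ : Away 𝒜 (MvPolynomial.X i : S) →+*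
    MvPolynomial {j : Fin (n + 1) // j ≠ i} k :=
  (IsLocalization.Away.lift (MvPolynomial.X i : S) (g := deh k n i)
    (by rw [deh_X_self]; exact isUnit_one)).comp
    (algebraMap (Away 𝒜 (MvPolynomial.X i : S))
      (Localization.Away (MvPolynomial.X i : S)))

theorem ρ_cst (a : k) : ρ k n i (cst k n _ a) = MvPolynomial.C a := by
  rw [ρ, RingHom.comp_apply, HomogeneousLocalization.algebraMap_apply, val_cst,
    Localization.mk_one_eq_algebraMap, IsLocalization.Away.lift_eq, deh_C]

theorem ρ_xc (j : {j : Fin (n + 1) // j ≠ i}) :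
    ρ k n i (xc k n i j.1) = MvPolynomial.X j := by
  rw [ρ, RingHom.comp_apply, HomogeneousLocalization.algebraMap_apply, val_xc,
    Localization.mk_eq_mk', IsLocalization.Away.lift, IsLocalization.lift_mk'_spec]
  simp only [deh_X_self, deh_X_ne k n i j.1 j.2, one_mul]

theorem ρ_comp_ψ : (ρ k n i).comp (ψ k n i) = RingHom.id _ := by
  apply MvPolynomial.ringHom_ext
  · intro a
    rw [RingHom.comp_apply, ψ_C, ρ_cst, RingHom.id_apply]
  · intro j
    rw [RingHom.comp_apply, ψ_X, ρ_xc, RingHom.id_apply]

theorem ψ_bijective : Function.Bijective (ψ k n i) := by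
  refine ⟨?_, ψ_surjective k n i⟩
  intro a b hab
  have ha := congrArg (fun f => f a) (ρ_comp_ψ k n i)
  have hb := congrArg (fun f => f b) (ρ_comp_ψ k n i)
  simp only [RingHom.comp_apply, RingHom.id_apply] at ha hb
  rw [← ha, ← hb, hab]

/-- transport: any family with the right values gives a bijective parametrization. -/
theorem ψgen_bijective (x : S) (hx : x = MvPolynomial.X i) (c : Fin (n + 1) → Away 𝒜 x)
    (hc : ∀ j, (c j).val = Localization.mk (MvPolynomial.X j) ⟨x, Submonoid.mem_powers _⟩) :
    Function.Bijective (ψgen k n i x c) := by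
  subst hx
  have : c = xc k n i := by
    funext j
    apply val_injective
    rw [hc j, val_xc]
  rw [this]
  exact ψ_bijective k n i

end chart

end Groth.Agent.H97.ProjChart
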