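import Mathlib
import Groth.Prelude.Def_CohB1
import Groth.Agent.H97.ProjChartIso

/-!
# Base change of the chart rings of projective space
-/

set_option autoImplicit false
universe u
open CategoryTheory CategoryTheory.Limits AlgebraicGeometry TopologicalSpace Opposite
open HomogeneousLocalization

namespace Groth.Agent.H97.ProjChart

section basechange
variable (k R : Type u) [CommRing k] [CommRing R] [Algebra k R] (n : ℕ) (i : Fin (n + 1))

/-- the graded ring homomorphism `k[T] → R[T]` -/
noncomputable def gmap : (CohB1.polyGrading n k) →+*ᵍ (CohB1.polyGrading n R) where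
  toRingHom := MvPolynomial.map (algebraMap k R)
  map_mem := fun hx => (MvPolynomial.mem_homogeneousSubmodule _ _).mpr
    (((MvPolynomial.mem_homogeneousSubmodule _ _).mp hx).map _)

theorem gmap_apply (p : MvPolynomial (Fin (n + 1)) k) :
    gmap k R n p = MvPolynomial.map (algebraMap k R) p := rfl

theorem gmap_X (j : Fin (n + 1)) : gmap k R n (MvPolynomial.X j) = MvPolynomial.X j := by
  rw [gmap_apply, MvPolynomial.map_X]

theorem gmap_C (a : k) : gmap k R n (MvPolynomial.C a) = MvPolynomial.C (algebraMap k R a) := by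
  rw [gmap_apply, MvPolynomial.map_C]

/-- the induced map on chart rings -/
noncomputable abbrev γ : Away (CohB1.polyGrading n k) (MvPolynomial.X i) →+*
    Away (CohB1.polyGrading n R) (gmap k R n (MvPolynomial.X i)) :=
  Away.map (gmap k R n) (MvPolynomial.X i)

theorem γ_cst (a : k) : γ k R n i (cst k n _ a) = cst R n _ (algebraMap k R a) := by
  apply val_injective
  rw [val_cst]
  change Localization.mk (gmap k R n (MvPolynomial.C a)) ⟨gmap k R n 1, _⟩ = _
  rw [gmap_C]
  congr 1
  apply Subtype.ext
  exact map_one _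

theorem val_γ_xc (j : Fin (n + 1)) : (γ k R n i (xc k n i j)).val =
    Localization.mk (MvPolynomial.X j)
      ⟨gmap k R n (MvPolynomial.X i), Submonoid.mem_powers _⟩ := by
  change Localization.mk (gmap k R n (MvPolynomial.X j)) ⟨gmap k R n (MvPolynomial.X i), _⟩ = _
  rw [gmap_X k R n j]

/-- the parametrization of the chart ring over `R` compatible with `γ` -/
noncomputable def ψ' : MvPolynomial {j : Fin (n + 1) // j ≠ i} R →+*
    Away (CohB1.polyGrading n R) (gmap k R n (MvPolynomial.X i)) :=
  ψgen R n i _ (fun j => γ k R n i (xc k n i j))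

theorem ψ'_bijective : Function.Bijective (ψ' k R n i) :=
  ψgen_bijective R n i _ (gmap_X k R n i) _ (val_γ_xc k R n i)

theorem ψ'_C (r : R) : ψ' k R n i (MvPolynomial.C r) = cst R n _ r := by
  simp [ψ', ψgen]

theorem ψ'_X (j : {j : Fin (n + 1) // j ≠ i}) :
    ψ' k R n i (MvPolynomial.X j) = γ k R n i (xc k n i j.1) := by
  simp [ψ', ψgen]

theorem γ_comp_ψ : (γ k R n i).comp (ψ k n i) =
    (ψ' k R n i).comp (MvPolynomial.map (algebraMap k R)) := by
  apply MvPolynomial.ringHom_ext
  · intro a
    rw [RingHom.comp_apply, RingHom.comp_apply, ψ_C, γ_cst, MvPolynomial.map_C, ψ'_C]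
  · intro j
    rw [RingHom.comp_apply, RingHom.comp_apply, ψ_X, MvPolynomial.map_X, ψ'_X]

attribute [local instance] MvPolynomial.algebraMvPolynomial

set_option backward.isDefEq.respectTransparency false in
/-- The square of chart rings is a pushout. -/
theorem isPushout_chart :
    IsPushout (CommRingCat.ofHom (cst k n (Submonoid.powers (MvPolynomial.X i))))
      (CommRingCat.ofHom (algebraMap k R))
      (CommRingCat.ofHom (γ k R n i))
      (CommRingCat.ofHom (cst R n (Submonoid.powers (gmap k R n (MvPolynomial.X i))))) := by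
  have h0 := CommRingCat.isPushout_of_isPushout k
    (MvPolynomial {j : Fin (n + 1) // j ≠ i} k) R (MvPolynomial {j : Fin (n + 1) // j ≠ i} R)
  refine h0.of_iso (Iso.refl _)
    (RingEquiv.ofBijective (ψ k n i) (ψ_bijective k n i)).toCommRingCatIso (Iso.refl _)
    (RingEquiv.ofBijective (ψ' k R n i) (ψ'_bijective k R n i)).toCommRingCatIso ?_ ?_ ?_ ?_
  · ext a
    simp [ψ_C]
  · simp
  · ext1
    exact (γ_comp_ψ k R n i).symm
  · ext r
    simp [ψ'_C]

end basechange

end Groth.Agent.H97.ProjChart
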