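import Mathlib
import Groth.Prelude.Def_CohB1
import Groth.Agent.H97.ProjChartBC
import Groth.Agent.H97.CartSqSch
import Groth.Agent.Lead.Coh.ProjSpaceCover

/-!
# Base change of projective space: `P^n_R = P^n_k ×_k Spec R`
-/

set_option autoImplicit false
universe u
open CategoryTheory CategoryTheory.Limits AlgebraicGeometry TopologicalSpace Opposite
open HomogeneousLocalization

namespace Groth.Agent.H97.ProjChart

section scheme
variable (k R : Type u) [CommRing k] [CommRing R] [Algebra k R] (n : ℕ)

theorem irrelevant_le_map :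
    HomogeneousIdeal.irrelevant (CohB1.polyGrading n R) ≤
      (HomogeneousIdeal.irrelevant (CohB1.polyGrading n k)).map (gmap k R n) := by
  change (HomogeneousIdeal.irrelevant (CohB1.polyGrading n R)).toIdeal ≤
    ((HomogeneousIdeal.irrelevant (CohB1.polyGrading n k)).map (gmap k R n)).toIdeal
  rw [HomogeneousIdeal.toIdeal_map]
  refine (Groth.Agent.Lead.Coh.irrelevant_le_span_X n R).trans ?_
  rw [Ideal.span_le]
  rintro _ ⟨j, rfl⟩
  rw [← gmap_X k R n j]
  refine Ideal.mem_map_of_mem _ ?_
  rw [HomogeneousIdeal.mem_iff, HomogeneousIdeal.mem_irrelevant_iff, GradedRing.proj_apply,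
    DirectSum.decompose_of_mem_ne _ (X_mem k n j) (by norm_num)]

/-- the base change morphism `P^n_R ⟶ P^n_k` -/
noncomputable def projMap : CohB1.ProjSpace n R ⟶ CohB1.ProjSpace n k :=
  Proj.map (gmap k R n) (irrelevant_le_map k R n)

theorem awayMap_cst (s : MvPolynomial (Fin (n + 1)) k) (a : k) :
    Away.map (gmap k R n) s (cst k n _ a) = cst R n _ (algebraMap k R a) := by
  apply val_injective
  rw [val_cst]
  change Localization.mk (gmap k R n (MvPolynomial.C a)) ⟨gmap k R n 1, _⟩ = _
  rw [gmap_C]
  congr 1
  apply Subtype.ext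
  exact map_one _

set_option backward.isDefEq.respectTransparency false in
@[reassoc]
theorem awayι_toSpec (s : MvPolynomial (Fin (n + 1)) k) {d : ℕ}
    (hs : s ∈ CohB1.polyGrading n k d) (hd : 0 < d) :
    Proj.awayι (CohB1.polyGrading n k) s hs hd ≫ CohB1.ProjSpace.toSpec n k =
      Spec.map (CommRingCat.ofHom (cst k n (Submonoid.powers s))) := by
  unfold CohB1.ProjSpace.toSpec
  rw [Proj.awayι_toSpecZero_assoc, ← Spec.map_comp, ← CommRingCat.ofHom_comp]
  rfl

set_option backward.isDefEq.respectTransparency false in
theorem projMap_toSpec : projMap k R n ≫ CohB1.ProjSpace.toSpec n k =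
    CohB1.ProjSpace.toSpec n R ≫ Spec.map (CommRingCat.ofHom (algebraMap k R)) := by
  refine (Proj.mapAffineOpenCover (gmap k R n)
    (irrelevant_le_map k R n)).openCover.hom_ext _ _ fun s => ?_
  simp only [Scheme.AffineOpenCover.openCover_f, Proj.mapAffineOpenCover_f]
  rw [projMap, Proj.awayι_comp_map_assoc (gmap k R n) _ s.1.2 _ s.2.2, awayι_toSpec k n _ s.2.2 s.1.2]
  rw [awayι_toSpec_assoc R n (gmap k R n s.2.1) ((gmap k R n).map_mem s.2.2) s.1.2]
  rw [← Spec.map_comp, ← Spec.map_comp, ← CommRingCat.ofHom_comp, ← CommRingCat.ofHom_comp]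
  congr 2
  refine RingHom.ext fun a => ?_
  exact awayMap_cst k R n _ a

/-- the comparison map to the fibre product -/
noncomputable def toPullback : CohB1.ProjSpace n R ⟶
    pullback (CohB1.ProjSpace.toSpec n k) (Spec.map (CommRingCat.ofHom (algebraMap k R))) :=
  pullback.lift (projMap k R n) (CohB1.ProjSpace.toSpec n R) (projMap_toSpec k R n)

/-- the chart of the fibre product -/
noncomputable def chartB (i : Fin (n + 1)) :
    pullback (Spec.map (CommRingCat.ofHom (cst k n (Submonoid.powers (MvPolynomial.X i)))))
        (Spec.map (CommRingCat.ofHom (algebraMap k R))) ⟶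
      pullback (CohB1.ProjSpace.toSpec n k) (Spec.map (CommRingCat.ofHom (algebraMap k R))) :=
  pullback.map _ _ _ _ (Proj.awayι (CohB1.polyGrading n k) (MvPolynomial.X i) (X_mem k n i)
    Nat.one_pos) (𝟙 _) (𝟙 _)
    ((Category.comp_id _).trans (awayι_toSpec k n _ (X_mem k n i) Nat.one_pos).symm)
    (by rw [Category.comp_id, Category.id_comp])

set_option backward.isDefEq.respectTransparency false in
instance (i : Fin (n + 1)) : IsOpenImmersion (chartB k R n i) := by
  unfold chartB
  exact Scheme.pullback_map_isOpenImmersion _ _ _ _ _ _ _ _ _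

set_option backward.isDefEq.respectTransparency false in
theorem opensRange_chartB (i : Fin (n + 1)) :
    (chartB k R n i).opensRange =
      pullback.fst (CohB1.ProjSpace.toSpec n k) (Spec.map (CommRingCat.ofHom (algebraMap k R)))
        ⁻¹ᵁ (Proj.basicOpen (CohB1.polyGrading n k) (MvPolynomial.X i)) := by
  apply TopologicalSpace.Opens.ext
  rw [Scheme.Hom.coe_opensRange, chartB, Scheme.Pullback.range_map]
  rw [← Proj.opensRange_awayι (CohB1.polyGrading n k) (MvPolynomial.X i) (X_mem k n i)
    Nat.one_pos]
  have h1 : Set.range ⇑(𝟙 (Spec (CommRingCat.of R))) = Set.univ :=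
    Set.range_eq_univ.mpr (fun x => ⟨x, rfl⟩)
  rw [h1, Set.preimage_univ, Set.inter_univ]
  rfl

theorem isPullback_chart (i : Fin (n + 1)) :
    IsPullback (Spec.map (CommRingCat.ofHom (γ k R n i)))
      (Spec.map (CommRingCat.ofHom
        (cst R n (Submonoid.powers (gmap k R n (MvPolynomial.X i))))))
      (Spec.map (CommRingCat.ofHom (cst k n (Submonoid.powers (MvPolynomial.X i)))))
      (Spec.map (CommRingCat.ofHom (algebraMap k R))) :=
  isPullback_SpecMap_of_isPushout _ _ _ _ (isPushout_chart k R n i)

set_option backward.isDefEq.respectTransparency false in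
theorem isIso_toPullback_restrict (i : Fin (n + 1)) :
    IsIso (toPullback k R n ∣_ (chartB k R n i).opensRange) := by
  have hi := isPullback_chart k R n i
  refine CartSqSch.isIso_restrict_of_square (toPullback k R n)
    (Proj.awayι (CohB1.polyGrading n R) (gmap k R n (MvPolynomial.X i))
      ((gmap k R n).map_mem (X_mem k n i)) Nat.one_pos)
    (chartB k R n i) hi.isoPullback.hom ?_ ?_
  · apply pullback.hom_ext
    · rw [Category.assoc, Category.assoc, toPullback, pullback.lift_fst, chartB,
        pullback.lift_fst, hi.isoPullback_hom_fst_assoc, projMap,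
        Proj.awayι_comp_map (gmap k R n) _ Nat.one_pos _ (X_mem k n i)]
    · rw [Category.assoc, Category.assoc, toPullback, pullback.lift_snd, chartB,
        pullback.lift_snd, hi.isoPullback_hom_snd_assoc, Category.comp_id, awayι_toSpec]
  · rw [opensRange_chartB, Proj.opensRange_awayι, ← Scheme.Hom.comp_preimage, toPullback,
      pullback.lift_fst, projMap, Proj.map_preimage_basicOpen]

set_option backward.isDefEq.respectTransparency false in
instance isIso_toPullback : IsIso (toPullback k R n) := by
  change MorphismProperty.isomorphisms Scheme.{u} _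
  rw [IsZariskiLocalAtTarget.iff_of_iSup_eq_top (P := MorphismProperty.isomorphisms Scheme.{u})
    (fun i => (chartB k R n i).opensRange)]
  · intro i
    exact isIso_toPullback_restrict k R n i
  · simp_rw [opensRange_chartB]
    rw [← Scheme.Hom.preimage_iSup]
    have := Groth.Agent.Lead.Coh.iSup_stdOpen n k
    unfold Groth.Agent.Lead.Coh.stdOpen at this
    rw [this]
    simp

/-- **Base change of projective space**: `P^n_R` is the fibre product of `P^n_k` and `Spec R`. -/
theorem isPullback_projMap :
    IsPullback (projMap k R n) (CohB1.ProjSpace.toSpec n R) (CohB1.ProjSpace.toSpec n k)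
      (Spec.map (CommRingCat.ofHom (algebraMap k R))) :=
  IsPullback.of_iso_pullback ⟨projMap_toSpec k R n⟩ (asIso (toPullback k R n))
    (pullback.lift_fst _ _ _) (pullback.lift_snd _ _ _)

end scheme

end Groth.Agent.H97.ProjChart
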