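import Mathlib
import Groth.Prelude.Def_CohB1
import Groth.Agent.H97.ProjBaseChange
import Groth.Agent.S3557

/-!
# `P^n_{Spec R}` (base change of `P^n_ℤ`) is `Proj R[T_0, …, T_n]`
-/

set_option autoImplicit false
universe u
open CategoryTheory CategoryTheory.Limits AlgebraicGeometry TopologicalSpace Opposite

namespace Groth.Agent.H97.ProjChart

section overSpec
variable (R : Type u) [CommRing R] (n : ℕ)

/-- the unique `ULift ℤ`-algebra structure on a ring -/
noncomputable abbrev ulZAlgebra : Algebra (ULift.{u} ℤ) R :=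
  ((Int.castRingHom R).comp (ULift.ringEquiv : ULift.{u} ℤ ≃+* ℤ).toRingHom).toAlgebra

attribute [local instance] ulZAlgebra

theorem specMap_algebraMap_eq_from :
    Spec.map (CommRingCat.ofHom (algebraMap (ULift.{u} ℤ) R)) =
      specULiftZIsTerminal.from (Spec (CommRingCat.of R)) :=
  specULiftZIsTerminal.hom_ext _ _

theorem isPullback_projSpaceOver :
    IsPullback (projMap (ULift.{u} ℤ) R n) (CohB1.ProjSpace.toSpec n R)
      (CohB1.ProjSpace.toSpec n (ULift.{u} ℤ))
      (specULiftZIsTerminal.from (Spec (CommRingCat.of R))) := by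
  have h := isPullback_projMap (ULift.{u} ℤ) R n
  rwa [specMap_algebraMap_eq_from] at h

/-- **Projective space over `Spec R`** (the base change of `P^n_ℤ`) is `Proj R[T_0, …, T_n]`. -/
noncomputable def projSpaceOverIso :
    CohB1.ProjSpaceOver n (Spec (CommRingCat.of R)) ≅ CohB1.ProjSpace n R :=
  (isPullback_projSpaceOver R n).isoPullback.symm

@[reassoc]
theorem projSpaceOverIso_hom_toSpec :
    (projSpaceOverIso R n).hom ≫ CohB1.ProjSpace.toSpec n R =
      CohB1.ProjSpaceOver.toBase n (Spec (CommRingCat.of R)) := by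
  rw [projSpaceOverIso, Iso.symm_hom, Iso.inv_comp_eq]
  exact ((isPullback_projSpaceOver R n).isoPullback_hom_snd).symm

@[reassoc]
theorem projSpaceOverIso_inv_toBase :
    (projSpaceOverIso R n).inv ≫ CohB1.ProjSpaceOver.toBase n (Spec (CommRingCat.of R)) =
      CohB1.ProjSpace.toSpec n R := by
  rw [Iso.inv_comp_eq, projSpaceOverIso_hom_toSpec]

@[reassoc]
theorem projSpaceOverIso_inv_fst :
    (projSpaceOverIso R n).inv ≫ pullback.fst (CohB1.ProjSpace.toSpec n (ULift.{u} ℤ))
      (specULiftZIsTerminal.from (Spec (CommRingCat.of R))) = projMap (ULift.{u} ℤ) R n :=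
  (isPullback_projSpaceOver R n).isoPullback_hom_fst

end overSpec

section integral
variable (R : Type u) [CommRing R] [IsDomain R] (n : ℕ)

theorem isIntegral_projSpace : IsIntegral (CohB1.ProjSpace n R) := by
  unfold CohB1.ProjSpace
  rw [Groth.Agent.S3557.result (R := R) (CohB1.polyGrading n R)]
  · refine ⟨⟨MvPolynomial.X 0, ?_, MvPolynomial.X_ne_zero 0⟩, ?_⟩
    · rw [HomogeneousIdeal.mem_iff, HomogeneousIdeal.mem_irrelevant_iff, GradedRing.proj_apply,
        DirectSum.decompose_of_mem_ne _ (X_mem R n 0) (by norm_num)]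
    · intro f _ g _ hfg
      exact mul_eq_zero.mp hfg
  · intro f _ hf
    exact hf.eq_zero

theorem isIntegral_projSpaceOver :
    IsIntegral (CohB1.ProjSpaceOver n (Spec (CommRingCat.of R))) :=
  have := isIntegral_projSpace R n
  have : Nonempty ↥(CohB1.ProjSpaceOver n (Spec (CommRingCat.of R))) :=
    ⟨(projSpaceOverIso R n).inv (Nonempty.some inferInstance)⟩
  isIntegral_of_isOpenImmersion (projSpaceOverIso R n).hom

instance irreducibleSpace_projSpaceOver :
    IrreducibleSpace (CohB1.ProjSpaceOver n (Spec (CommRingCat.of R))) :=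
  have := isIntegral_projSpaceOver R n
  inferInstance

end integral

end Groth.Agent.H97.ProjChart
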