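import Mathlib
import Groth.Prelude.Def_P1
import Groth.Agent.H97.ProjSpaceOverIso
import Groth.Agent.H48.ProjSpace

/-!
# Finite flat covers of `P^1_S`: clopen subsets containing the fibre over the zero section
-/

set_option autoImplicit false
universe u
open CategoryTheory CategoryTheory.Limits AlgebraicGeometry

namespace Groth.Agent.H97.P1Fin

theorem isPullback_exists_preimage {P X Y Z : Scheme.{u}} {fst : P ⟶ X} {snd : P ⟶ Y}
    {f : X ⟶ Z} {g : Y ⟶ Z} (h : IsPullback fst snd f g) (x : X) (y : Y) (hxy : f x = g y) :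
    ∃ p : P, fst p = x ∧ snd p = y := by
  obtain ⟨z, hz1, hz2⟩ := Scheme.Pullback.exists_preimage_pullback x y hxy
  refine ⟨h.isoPullback.inv z, ?_, ?_⟩
  · rw [← Scheme.Hom.comp_apply, h.isoPullback_inv_fst, hz1]
  · rw [← Scheme.Hom.comp_apply, h.isoPullback_inv_snd, hz2]

/-- A clopen subset of `P^n_S` meeting a fibre contains the whole fibre. -/
theorem fibre_subset_of_isClopen (n : ℕ) (S : Scheme.{u}) (Z : Set ↥(CohB1.ProjSpaceOver n S))
    (hZ : IsClopen Z) (z z' : ↥(CohB1.ProjSpaceOver n S)) (hz : z ∈ Z)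
    (hzz' : CohB1.ProjSpaceOver.toBase n S z' = CohB1.ProjSpaceOver.toBase n S z) : z' ∈ Z := by
  set s := CohB1.ProjSpaceOver.toBase n S z with hs
  have hP := H48.isPullback_projSpaceOverMap n (S.fromSpecResidueField s)
  have hirr : IrreducibleSpace
      ↥(CohB1.ProjSpaceOver n (Spec (CommRingCat.of (S.residueField s)))) :=
    ProjChart.irreducibleSpace_projSpaceOver (S.residueField s) n
  let pt : ↥(Spec (S.residueField s)) := Classical.arbitrary _
  have hpt : S.fromSpecResidueField s pt = s := Scheme.fromSpecResidueField_apply _ _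
  obtain ⟨y, hy1, -⟩ := isPullback_exists_preimage hP z pt (by rw [hpt])
  obtain ⟨y', hy1', -⟩ := isPullback_exists_preimage hP z' pt (by rw [hpt, hzz'])
  have hcl : IsClopen ((H48.projSpaceOverMap n (S.fromSpecResidueField s)) ⁻¹' Z) :=
    hZ.preimage (H48.projSpaceOverMap n (S.fromSpecResidueField s)).continuous
  rcases isClopen_iff.mp hcl with h | h
  · exfalso
    have : y ∈ (H48.projSpaceOverMap n (S.fromSpecResidueField s)) ⁻¹' Z := by
      rw [Set.mem_preimage, hy1]; exact hz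
    rw [h] at this
    exact this
  · have : y' ∈ (H48.projSpaceOverMap n (S.fromSpecResidueField s)) ⁻¹' Z := by
      rw [h]; trivial
    rw [Set.mem_preimage, hy1'] at this
    exact this

theorem sect_toBase (S : Scheme.{u}) (i : Fin (1 + 1)) :
    P1.sect S i ≫ CohB1.ProjSpaceOver.toBase 1 S = 𝟙 S := by
  unfold P1.sect CohB1.ProjSpaceOver.toBase
  exact pullback.lift_snd _ _ _

theorem main (S X : Scheme.{u})
    (g : X ⟶ CohB1.ProjSpaceOver 1 S) [IsFinite g] [Flat g] [LocallyOfFinitePresentation g]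
    (W : Set X) (hW : IsClopen W)
    (h0 : ∀ x : X, g x ∈ Set.range (P1.sect S 0) → x ∈ W) : W = Set.univ := by
  by_contra hne
  obtain ⟨x, hx⟩ := (Set.ne_univ_iff_exists_notMem W).mp hne
  have hZ : IsClopen (g '' Wᶜ) :=
    ⟨g.isClosedMap _ hW.compl.1, g.isOpenMap _ hW.compl.2⟩
  have hz : g x ∈ g '' Wᶜ := ⟨x, hx, rfl⟩
  let s := CohB1.ProjSpaceOver.toBase 1 S (g x)
  have hsect : CohB1.ProjSpaceOver.toBase 1 S (P1.sect S 0 s) = s := by
    rw [← Scheme.Hom.comp_apply, sect_toBase]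
    rfl
  obtain ⟨x', hx', hgx'⟩ := fibre_subset_of_isClopen 1 S _ hZ (g x) (P1.sect S 0 s) hz hsect
  exact hx' (h0 x' (hgx' ▸ ⟨s, rfl⟩))

end Groth.Agent.H97.P1Fin

namespace Groth.Agent.H97.P1Fin

theorem finrank_eq (S X T : Scheme.{u})
    (g : X ⟶ CohB1.ProjSpaceOver 1 S) (f : T ⟶ X)
    [IsFinite g] [Flat g] [LocallyOfFinitePresentation g]
    [IsFinite f] [Flat f] [LocallyOfFinitePresentation f] (r : ℕ)
    (h : ∀ x : X, g x ∈ Set.range (P1.sect S 0) → f.finrank x = r) (x : X) :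
    f.finrank x = r := by
  have hcl : IsClopen (f.finrank ⁻¹' {r}) :=
    (Scheme.Hom.isLocallyConstant_finrank f).isClopen_fiber r
  have := main S X g (f.finrank ⁻¹' {r}) hcl (fun x hx => h x hx)
  have hx : x ∈ f.finrank ⁻¹' {r} := by rw [this]; trivial
  exact hx

end Groth.Agent.H97.P1Fin
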