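import Mathlib
import Groth.Prelude.Def_CohB1
import Groth.Agent.H97.P1Fin

/-!
# Properness of projective space over any base, and connectedness of `P^n_S`
-/

set_option autoImplicit false
universe u
open CategoryTheory CategoryTheory.Limits AlgebraicGeometry TopologicalSpace Opposite

namespace Groth.Agent.H97.ProjProper

section proper
variable (k : Type u) [CommRing k] (n : ℕ)

instance isScalarTower_zero :
    IsScalarTower k (CohB1.polyGrading n k 0) (MvPolynomial (Fin (n + 1)) k) :=
  IsScalarTower.of_algebraMap_eq (R := k) (S := CohB1.polyGrading n k 0)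
    (A := MvPolynomial (Fin (n + 1)) k) (fun _ => rfl)

instance finiteType_zero :
    Algebra.FiniteType (CohB1.polyGrading n k 0) (MvPolynomial (Fin (n + 1)) k) :=
  Algebra.FiniteType.of_restrictScalars_finiteType k (CohB1.polyGrading n k 0)
    (MvPolynomial (Fin (n + 1)) k)

theorem algebraMap_zero_bijective :
    Function.Bijective (algebraMap k (CohB1.polyGrading n k 0)) := by
  constructor
  · intro a b h
    exact MvPolynomial.C_injective _ _ (congrArg Subtype.val h)
  · rintro ⟨g, hg⟩
    have hg' : g ∈ (1 : Submodule k (MvPolynomial (Fin (n + 1)) k)) := by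
      rw [← MvPolynomial.homogeneousSubmodule_zero]
      exact hg
    rw [Submodule.mem_one] at hg'
    obtain ⟨a, rfl⟩ := hg'
    exact ⟨a, Subtype.ext rfl⟩

instance isIso_specMap_zero :
    IsIso (Spec.map (CommRingCat.ofHom (algebraMap k (CohB1.polyGrading n k 0)))) := by
  have : IsIso (CommRingCat.ofHom (algebraMap k (CohB1.polyGrading n k 0))) :=
    (ConcreteCategory.isIso_iff_bijective _).mpr (algebraMap_zero_bijective k n)
  infer_instance

/-- `P^n_R → Spec R` is proper, for any commutative ring. -/
instance isProper_toSpec : IsProper (CohB1.ProjSpace.toSpec n k) := by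
  unfold CohB1.ProjSpace.toSpec
  have h1 : IsProper (Proj.toSpecZero (CohB1.polyGrading n k)) := inferInstance
  have h2 : IsProper (Spec.map (CommRingCat.ofHom (algebraMap k (CohB1.polyGrading n k 0)))) :=
    inferInstance
  exact MorphismProperty.comp_mem _ _ _ h1 h2

end proper

/-- `P^n_S → S` is proper, for any scheme `S`. -/
instance isProper_toBase (n : ℕ) (S : Scheme.{u}) : IsProper (CohB1.ProjSpaceOver.toBase n S) := by
  unfold CohB1.ProjSpaceOver.toBase
  exact MorphismProperty.pullback_snd (P := @IsProper) _ _ inferInstance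

theorem toBase_surjective (n : ℕ) (S : Scheme.{u}) :
    Function.Surjective (CohB1.ProjSpaceOver.toBase n S) := by
  intro s
  -- the fibre over `s` is `P^n_{κ(s)}`, which is nonempty
  have hP := H48.isPullback_projSpaceOverMap n (S.fromSpecResidueField s)
  have hirr : IrreducibleSpace
      ↥(CohB1.ProjSpaceOver n (Spec (CommRingCat.of (S.residueField s)))) :=
    ProjChart.irreducibleSpace_projSpaceOver (S.residueField s) n
  obtain ⟨y⟩ := hirr.toNonempty
  refine ⟨H48.projSpaceOverMap n (S.fromSpecResidueField s) y, ?_⟩
  rw [← Scheme.Hom.comp_apply, hP.w, Scheme.Hom.comp_apply, Scheme.fromSpecResidueField_apply]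

/-- `P^n_S` is preconnected if `S` is. -/
instance preconnectedSpace_projSpaceOver (n : ℕ) (S : Scheme.{u}) [PreconnectedSpace S] :
    PreconnectedSpace ↥(CohB1.ProjSpaceOver n S) := by
  rw [preconnectedSpace_iff_clopen]
  intro A hA
  by_cases hne : A.Nonempty
  · right
    -- the image of `A` and of its complement are disjoint closed sets covering `S`
    set π := CohB1.ProjSpaceOver.toBase n S with hπ
    have hA1 : IsClosed (π '' A) := π.isClosedMap _ hA.1
    have hA2 : IsClosed (π '' Aᶜ) := π.isClosedMap _ hA.compl.1
    have hdisj : Disjoint (π '' A) (π '' Aᶜ) := by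
      rw [Set.disjoint_left]
      rintro _ ⟨a, ha, rfl⟩ ⟨b, hb, hab⟩
      exact hb (P1Fin.fibre_subset_of_isClopen n S A hA a b ha hab)
    have hcov : π '' A ∪ π '' Aᶜ = Set.univ := by
      rw [← Set.image_union, Set.union_compl_self, Set.image_univ]
      exact Set.range_eq_univ.mpr (toBase_surjective n S)
    have hclopen : IsClopen (π '' A) := by
      refine ⟨hA1, ?_⟩
      have : π '' A = (π '' Aᶜ)ᶜ := by
        ext s
        constructor
        · intro hs hs'
          exact Set.disjoint_left.mp hdisj hs hs'
        · intro hs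
          have : s ∈ π '' A ∪ π '' Aᶜ := by rw [hcov]; trivial
          exact this.resolve_right hs
      rw [this]
      exact hA2.isOpen_compl
    rcases isClopen_iff.mp hclopen with h | h
    · exfalso
      obtain ⟨a, ha⟩ := hne
      have : π a ∈ π '' A := ⟨a, ha, rfl⟩
      rw [h] at this
      exact this
    · rw [Set.eq_univ_iff_forall]
      intro b
      have : π b ∈ π '' A := by rw [h]; trivial
      obtain ⟨a, ha, hab⟩ := this
      exact P1Fin.fibre_subset_of_isClopen n S A hA a b ha hab.symm
  · left
    exact Set.not_nonempty_iff_eq_empty.mp hne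

end Groth.Agent.H97.ProjProper
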