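import Mathlib

/-!
# Open immersions and intermediate subrings

If `B' → C → B` are ring maps with `C → B` injective and `Spec B → Spec B'` an open immersion,
then `Spec B → Spec C` is an open immersion (it is the base change of `Spec B → Spec B'` along
`Spec C → Spec B'`).
-/

namespace Groth.Agent.H97.OpenImmFactor

open AlgebraicGeometry CategoryTheory TensorProduct

universe u

theorem flat_of_isOpenImmersion {B' B : Type u} [CommRing B'] [CommRing B] [Algebra B' B]
    (h : IsOpenImmersion (Spec.map (CommRingCat.ofHom (algebraMap B' B)))) : Module.Flat B' B := by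
  have h1 : Flat (Spec.map (CommRingCat.ofHom (algebraMap B' B))) := inferInstance
  rw [Flat.SpecMap_iff] at h1
  exact RingHom.flat_algebraMap_iff.mp h1

theorem isEpi_of_isOpenImmersion {B' B : Type u} [CommRing B'] [CommRing B] [Algebra B' B]
    (h : IsOpenImmersion (Spec.map (CommRingCat.ofHom (algebraMap B' B)))) :
    Algebra.IsEpi B' B := by
  rw [← CommRingCat.epi_iff_epi]
  have h1 : Mono (Spec.map (CommRingCat.ofHom (algebraMap B' B))) := inferInstance
  have h2 : Mono (CommRingCat.ofHom (algebraMap B' B)).op :=
    Functor.mono_of_mono_map Scheme.Spec h1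
  exact unop_epi_of_mono (CommRingCat.ofHom (algebraMap B' B)).op

theorem isPushout_of_isOpenImmersion {B' C B : Type u} [CommRing B'] [CommRing C] [CommRing B]
    [Algebra B' C] [Algebra C B] [Algebra B' B] [IsScalarTower B' C B]
    (hinj : Function.Injective (algebraMap C B))
    (h : IsOpenImmersion (Spec.map (CommRingCat.ofHom (algebraMap B' B)))) :
    Algebra.IsPushout B' B C B := by
  have hflat := flat_of_isOpenImmersion h
  have hepi := isEpi_of_isOpenImmersion h
  constructor
  let ι : C →ₗ[B'] B := (IsScalarTower.toAlgHom B' C B).toLinearMap
  have hι : Function.Injective ι := hinj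
  have h1 : Function.Injective (ι.lTensor B) :=
    Module.Flat.lTensor_preserves_injective_linearMap ι hι
  have h2 : Function.Injective (TensorProduct.lift (LinearMap.mul B' B)) :=
    Algebra.IsEpi.injective_lift_mul
  show Function.Bijective _
  constructor
  · have key : ∀ z : B ⊗[B'] C,
        TensorProduct.lift (((Algebra.linearMap B <| Module.End B (C →ₗ[B'] B)).flip
          (IsScalarTower.toAlgHom B' C B).toLinearMap).restrictScalars B') z =
        TensorProduct.lift (LinearMap.mul B' B) (ι.lTensor B z) := by
      intro z
      induction z using TensorProduct.induction_on with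
      | zero => simp
      | add x y hx hy => simp only [map_add, hx, hy]
      | tmul b c => simp [ι]
    intro x y hxy
    rw [key, key] at hxy
    exact h1 (h2 hxy)
  · intro b
    refine ⟨b ⊗ₜ 1, ?_⟩
    simp

theorem isOpenImmersion_of_factor {B' C B : Type u} [CommRing B'] [CommRing C] [CommRing B]
    [Algebra B' C] [Algebra C B] [Algebra B' B] [IsScalarTower B' C B]
    (hinj : Function.Injective (algebraMap C B))
    (h : IsOpenImmersion (Spec.map (CommRingCat.ofHom (algebraMap B' B)))) :
    IsOpenImmersion (Spec.map (CommRingCat.ofHom (algebraMap C B))) := by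
  have hpo := isPushout_of_isOpenImmersion hinj h
  have h1 := CommRingCat.isPushout_of_isPushout B' B C B
  have hpb := isPullback_SpecMap_of_isPushout _ _ _ _ h1
  exact MorphismProperty.of_isPullback (P := @IsOpenImmersion) hpb h

end Groth.Agent.H97.OpenImmFactor
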