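import Mathlib
import Groth.Agent.H11.DiscEtale

/-!
# Purity for finite flat algebras over a local ring of dimension ≥ 2

A finite flat algebra over a Noetherian local ring of dimension at least two which is étale over
the punctured spectrum is étale: the discriminant is a unit by Krull's principal ideal theorem.
-/

namespace Groth.Agent.H97.PurityFlat

open TensorProduct

universe u v

section trace

variable {A : Type u} {B : Type v} [CommRing A] [CommRing B] [Algebra A B]
  (K : Type*) [CommRing K] [Algebra A K]

theorem trace_one_tmul [Module.Free A B] [Module.Finite A B] (x : B) :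
    Algebra.trace K (K ⊗[A] B) (1 ⊗ₜ x) = algebraMap A K (Algebra.trace A B x) := by
  rw [Algebra.trace_apply, Algebra.trace_apply, ← LinearMap.trace_baseChange]
  congr 1
  ext y
  simp

theorem discr_baseChange {ι : Type*} [Fintype ι] [DecidableEq ι] (b : Module.Basis ι A B) :
    Algebra.discr K (b.baseChange K) = algebraMap A K (Algebra.discr A b) := by
  have : Module.Finite A B := Module.Finite.of_basis b
  have : Module.Free A B := Module.Free.of_basis b
  rw [Algebra.discr_def, Algebra.discr_def, RingHom.map_det]
  congr 1
  ext i j
  simp only [Algebra.traceMatrix_apply, Algebra.traceForm_apply, Module.Basis.baseChange_apply,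
    RingHom.mapMatrix_apply, Matrix.map_apply]
  rw [Algebra.TensorProduct.tmul_mul_tmul, one_mul, trace_one_tmul]

end trace

attribute [local instance] Algebra.TensorProduct.rightAlgebra in
theorem etale_of_punctured (A : Type u) (B : Type v) [CommRing A] [CommRing B]
    [Algebra A B] [IsNoetherianRing A] [IsLocalRing A] (hdim : (2 : WithBot ℕ∞) ≤ ringKrullDim A)
    [Module.Finite A B] [Module.Flat A B]
    (h : ∀ q : PrimeSpectrum B, q.asIdeal.comap (algebraMap A B) ≠ IsLocalRing.maximalIdeal A →
      Algebra.IsEtaleAt A q.asIdeal) :
    Algebra.Etale A B := by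
  classical
  have hfree : Module.Free A B := Module.free_of_flat_of_isLocalRing
  let b := Module.finBasis A B
  rw [Groth.Agent.H11.DiscFree.etale_iff_isUnit_discr b]
  -- key: the discriminant avoids every non-maximal prime
  have key : ∀ p : Ideal A, p.IsPrime → p ≠ IsLocalRing.maximalIdeal A →
      Algebra.discr A b ∉ p := by
    intro p hp hpm
    have h1 : ∀ x : Ω[B⁄A], ∃ s : A, s ∉ p ∧ s • x = 0 := by
      intro x
      by_contra hcon
      push_neg at hcon
      let J : Ideal B := (Submodule.span B {x}).annihilator
      have hdisj : Disjoint (J : Set B) (Algebra.algebraMapSubmonoid B p.primeCompl : Set B) := by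
        rw [Set.disjoint_left]
        rintro _ hJ ⟨s, hs, rfl⟩
        apply hcon s hs
        have : algebraMap A B s • x = 0 := by
          rw [← Submodule.mem_annihilator_span_singleton]
          exact hJ
        rw [← this, algebraMap_smul]
      obtain ⟨q, hq, hJq, hqdisj⟩ := Ideal.exists_le_prime_disjoint J _ hdisj
      have hqm : q.comap (algebraMap A B) ≠ IsLocalRing.maximalIdeal A := by
        intro heq
        apply hpm
        have hle : IsLocalRing.maximalIdeal A ≤ p := by
          intro a ha
          by_contra hap
          have haq : algebraMap A B a ∈ q := by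
            rw [← heq] at ha
            exact ha
          exact Set.disjoint_left.mp hqdisj haq ⟨a, hap, rfl⟩
        exact le_antisymm (IsLocalRing.le_maximalIdeal hp.ne_top) hle
      have het : Algebra.FormallyEtale A (Localization.AtPrime q) := h ⟨q, hq⟩ hqm
      have hunr : (⟨q, hq⟩ : PrimeSpectrum B) ∈ Algebra.unramifiedLocus A B := by
        show Algebra.FormallyUnramified A (Localization.AtPrime q)
        infer_instance
      rw [Algebra.unramifiedLocus_eq_compl_support, Set.mem_compl_iff,
        Module.notMem_support_iff'] at hunr
      obtain ⟨t, htq, htx⟩ := hunr x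
      apply htq
      apply hJq
      show t ∈ (Submodule.span B {x}).annihilator
      rw [Submodule.mem_annihilator_span_singleton]
      exact htx
    have h2 : Subsingleton (p.ResidueField ⊗[A] Ω[B⁄A]) := by
      rw [subsingleton_iff_forall_eq 0]
      intro z
      induction z using TensorProduct.induction_on with
      | zero => rfl
      | tmul c x =>
        obtain ⟨s, hs, hsx⟩ := h1 x
        have hu : IsUnit (algebraMap A p.ResidueField s) := by
          rw [isUnit_iff_ne_zero, Ne, Ideal.algebraMap_residueField_eq_zero]
          exact hs
        obtain ⟨u, hu'⟩ := hu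
        have e1 : c = s • (c * ↑u⁻¹) := by
          rw [Algebra.smul_def, ← hu', mul_comm, mul_assoc, Units.inv_mul, mul_one]
        rw [e1, TensorProduct.smul_tmul, hsx, tmul_zero]
      | add x y hx hy => rw [hx, hy, add_zero]
    have h3 : Algebra.FormallyUnramified p.ResidueField (p.ResidueField ⊗[A] B) := by
      rw [Algebra.formallyUnramified_iff]
      exact (KaehlerDifferential.tensorKaehlerEquivBase A p.ResidueField B
        (p.ResidueField ⊗[A] B)).symm.toEquiv.subsingleton
    have h4 : Algebra.Etale p.ResidueField (p.ResidueField ⊗[A] B) := by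
      have : Module.FinitePresentation p.ResidueField (p.ResidueField ⊗[A] B) :=
        Module.finitePresentation_of_projective _ _
      exact Algebra.Etale.of_formallyUnramified_of_flat
    have h5 := (Groth.Agent.H11.DiscFree.etale_iff_isUnit_discr (b.baseChange p.ResidueField)).mp h4
    rw [discr_baseChange, isUnit_iff_ne_zero, Ne, Ideal.algebraMap_residueField_eq_zero] at h5
    exact h5
  -- Krull's principal ideal theorem
  by_contra hd
  have hdm : Algebra.discr A b ∈ IsLocalRing.maximalIdeal A :=
    (IsLocalRing.mem_maximalIdeal _).mpr hd
  have hle : Ideal.span {Algebra.discr A b} ≤ IsLocalRing.maximalIdeal A := by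
    rw [Ideal.span_singleton_le_iff_mem]
    exact hdm
  obtain ⟨p, hpmin, hpm⟩ := Ideal.exists_minimalPrimes_le hle
  have hpp : p.IsPrime := hpmin.1.1
  have hdp : Algebra.discr A b ∈ p := hpmin.1.2 (Ideal.mem_span_singleton_self _)
  have hht : p.height ≤ 1 :=
    Ideal.height_le_one_of_isPrincipal_of_mem_minimalPrimes _ p hpmin
  by_cases hpeq : p = IsLocalRing.maximalIdeal A
  · rw [hpeq] at hht
    have h6 : ((IsLocalRing.maximalIdeal A).height : WithBot ℕ∞) = ringKrullDim A :=
      IsLocalRing.maximalIdeal_height_eq_ringKrullDim
    rw [← h6] at hdim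
    have h7 : (2 : ℕ∞) ≤ (IsLocalRing.maximalIdeal A).height := by
      have : ((2 : ℕ∞) : WithBot ℕ∞) ≤ ((IsLocalRing.maximalIdeal A).height : WithBot ℕ∞) := hdim
      exact WithBot.coe_le_coe.mp this
    have h8 : (2 : ℕ∞) ≤ 1 := h7.trans hht
    exact absurd h8 (by decide)
  · exact key p hpp hpeq hdp

end Groth.Agent.H97.PurityFlat
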