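import Mathlib

/-!
# Pushforward of modules along a topological embedding is faithful; right exactness of pullback
-/

set_option autoImplicit false
universe u

open AlgebraicGeometry CategoryTheory Limits

namespace Groth.Agent.H97.PushFaithful

theorem pushforward_faithful {S T : Scheme.{u}} (f : S ⟶ T) (hf : Topology.IsInducing f) :
    (Scheme.Modules.pushforward f).Faithful where
  map_injective := by
    intro M N φ φ' h
    apply Scheme.Modules.hom_ext
    intro V
    obtain ⟨U, hU, hUV⟩ := hf.isOpen_iff.mp V.2
    obtain rfl : f ⁻¹ᵁ ⟨U, hU⟩ = V := TopologicalSpace.Opens.ext hUV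
    have := congrArg (fun χ => Scheme.Modules.Hom.app χ ⟨U, hU⟩) h
    simpa [Scheme.Modules.pushforward_map_app] using this

/-- A right exact additive functor between abelian categories: the kernel comparison map of an
epimorphism is an epimorphism. -/
theorem epi_kernelComparison {C D : Type*} [Category C] [Category D] [Abelian C] [Abelian D]
    (F : C ⥤ D) [F.Additive] [PreservesFiniteColimits F] {X Y : C} (ψ : X ⟶ Y) [Epi ψ] :
    Epi (kernelComparison ψ F) := by
  let S : ShortComplex C := ShortComplex.mk (kernel.ι ψ) ψ (kernel.condition ψ)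
  have hS : S.Exact := ShortComplex.exact_of_f_is_kernel _ (kernelIsKernel ψ)
  have hS' : (S.map F).Exact :=
    hS.map_of_epi_of_preservesCokernel F (inferInstanceAs (Epi ψ)) inferInstance
  have hz : F.map (kernel.ι ψ) ≫ F.map ψ = 0 := by
    rw [← F.map_comp, kernel.condition, F.map_zero]
  have h : Epi (kernel.lift (F.map ψ) (F.map (kernel.ι ψ)) hz) := hS'.epi_kernelLift
  have h2 : kernel.lift (F.map ψ) (F.map (kernel.ι ψ)) hz = kernelComparison ψ F := by
    apply (cancel_mono (kernel.ι (F.map ψ))).mp
    rw [kernelComparison_comp_ι]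
    exact kernel.lift_ι _ _ _
  rwa [h2] at h

end Groth.Agent.H97.PushFaithful
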