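import Mathlib
import Groth.Agent.H25.GeomIrrComp
import Groth.Agent.H25.FTResidue
import Groth.Agent.H25.GenFibre

set_option autoImplicit false
universe u
open CategoryTheory CategoryTheory.Limits AlgebraicGeometry
attribute [local instance] Curv2.resAlgebra

namespace Groth.Agent.H97.FibCount

variable (k : Type u) [Field k] (X : Scheme.{u}) [X.Over (Spec (CommRingCat.of k))]
  [LocallyOfFiniteType (X ↘ Spec (CommRingCat.of k))]

/-- closed points of a locally finite type `k`-scheme have residue field finite over `k` -/
theorem finite_residueField_of_isClosed (x : X) (hx : IsClosed ({x} : Set X)) :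
    Module.Finite k (X.residueField x) := by
  have : IsClosedImmersion (X.fromSpecResidueField x) :=
    isClosed_singleton_iff_isClosedImmersion.mp hx
  have : LocallyOfFiniteType (X.fromSpecResidueField x ≫ (X ↘ Spec (CommRingCat.of k))) :=
    inferInstance
  have h := Groth.Agent.H25.GenFibre.fromSpecResidueField_comp k X x
  have hft : LocallyOfFiniteType
      (Spec.map (CommRingCat.ofHom (algebraMap k (X.residueField x)))) := by
    rw [← h]; infer_instance
  have hfin : IsFinite (Spec.map (CommRingCat.ofHom (algebraMap k (X.residueField x)))) :=
    isFinite_iff_locallyOfFiniteType_of_jacobsonSpace.mpr hft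
  have := (IsFinite.SpecMap_iff _).mp hfin
  exact this

/-- over a perfect field, if the residue field at `x` is finite over `k`, the fibre of
`X_{k̄} → X` over `x` has `[κ(x) : k]` points. -/
theorem card_fibre_of_finite [PerfectField k] (x : X) [Module.Finite k (X.residueField x)] :
    Nat.card ↥((Curv2.bcFst k X (AlgebraicClosure k)).base ⁻¹' {x}) =
      Module.finrank k (X.residueField x) := by
  have := Groth.Agent.H25.FTResidue.finiteDimensional_separableClosure k X x
  have h := Groth.Agent.H25.GeomIrrComp.card_fibre_of_splits k X (AlgebraicClosure k) x
    (fun a => IsAlgClosed.splits _)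
  rw [h]
  have : Algebra.IsAlgebraic k (X.residueField x) := Algebra.IsAlgebraic.of_finite _ _
  have : Algebra.IsSeparable k (X.residueField x) :=
    Algebra.IsAlgebraic.isSeparable_of_perfectField
  have htop : separableClosure k (X.residueField x) = ⊤ :=
    (separableClosure.eq_top_iff (F := k) (E := X.residueField x)).mpr inferInstance
  rw [htop]
  exact IntermediateField.finrank_top'

theorem encard_fibre_of_finite [PerfectField k] (x : X) [Module.Finite k (X.residueField x)] :
    ((Curv2.bcFst k X (AlgebraicClosure k)).base ⁻¹' {x}).encard =
      (Module.finrank k (X.residueField x) : ℕ∞) := by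
  have h := card_fibre_of_finite k X x
  have hpos : 0 < Module.finrank k (X.residueField x) := Module.finrank_pos
  have hfin : ((Curv2.bcFst k X (AlgebraicClosure k)).base ⁻¹' {x}).Finite := by
    have : Finite ↥((Curv2.bcFst k X (AlgebraicClosure k)).base ⁻¹' {x}) :=
      Nat.finite_of_card_ne_zero (by omega)
    exact Set.toFinite _
  rw [← hfin.cast_ncard_eq, ← h, Nat.card_coe_set_eq]

end Groth.Agent.H97.FibCount
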