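import Mathlib

/-!
# A functor preserving finite coproducts and filtered colimits preserves all coproducts
-/

namespace Groth.Agent.H97.CoprodFiltered

open CategoryTheory CategoryTheory.Limits CategoryTheory.Limits.CoproductsFromFiniteFiltered

universe w v₁ v₂ u₁ u₂

variable {C : Type u₁} [Category.{v₁} C] {D : Type u₂} [Category.{v₂} D] (F : C ⥤ D)
  {J : Type w} [HasFiniteCoproducts C] [PreservesFiniteCoproducts F]

variable (K : Discrete J ⥤ C)

/-- inclusion of a summand into a finite subcoproduct -/
noncomputable def inc (S : Finset (Discrete J)) (x : S) :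
    K.obj x.1 ⟶ (liftToFinsetObj K).obj S :=
  Sigma.ι (fun x : S => K.obj x) x

theorem inc_map {S T : Finset (Discrete J)} (h : S ⟶ T) (x : S) :
    inc K S x ≫ (liftToFinsetObj K).map h = inc K T ⟨x.1, h.down.down x.2⟩ := by
  simp [liftToFinsetObj, inc]

/-- the colimit property of the image of a finite subcoproduct -/
noncomputable def finIsColimit (S : Finset (Discrete J)) :
    IsColimit (F.mapCocone (Cofan.mk (∐ fun x : S => K.obj x) (Sigma.ι fun x : S => K.obj x))) :=
  isColimitOfPreserves F (coproductIsCoproduct (fun x : S => K.obj x))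

/-- cocone on a finite sub-diagram induced by a cocone on the whole diagram -/
def legCocone (s : Cocone (K ⋙ F)) (S : Finset (Discrete J)) :
    Cocone ((Discrete.functor fun x : S => K.obj x) ⋙ F) where
  pt := s.pt
  ι := Discrete.natTrans (fun x => s.ι.app x.as.1)

/-- leg of the induced cocone -/
noncomputable def legDesc (s : Cocone (K ⋙ F)) (S : Finset (Discrete J)) :
    F.obj ((liftToFinsetObj K).obj S) ⟶ s.pt :=
  (finIsColimit F K S).desc (legCocone F K s S)

theorem ι_legDesc (s : Cocone (K ⋙ F)) (S : Finset (Discrete J)) (x : S) :
    F.map (inc K S x) ≫ legDesc F K s S = s.ι.app x.1 :=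
  (finIsColimit F K S).fac (legCocone F K s S) ⟨x⟩

theorem legDesc_ext (S : Finset (Discrete J)) {Z : D}
    (a b : F.obj ((liftToFinsetObj K).obj S) ⟶ Z)
    (h : ∀ x : S, F.map (inc K S x) ≫ a = F.map (inc K S x) ≫ b) : a = b :=
  (finIsColimit F K S).hom_ext (fun ⟨x⟩ => h x)

/-- the induced cocone over the lifted diagram -/
noncomputable def liftCocone (s : Cocone (K ⋙ F)) : Cocone (liftToFinsetObj K ⋙ F) where
  pt := s.pt
  ι :=
    { app := fun S => legDesc F K s S
      naturality := by
        intro S T h
        apply legDesc_ext F K S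
        intro x
        simp only [Functor.comp_obj, Functor.comp_map, Functor.const_obj_obj,
          Functor.const_obj_map, Category.comp_id]
        rw [← F.map_comp_assoc, inc_map, ι_legDesc, ι_legDesc] }

variable [HasColimitsOfShape (Finset (Discrete J)) C]
  [PreservesColimitsOfShape (Finset (Discrete J)) F]

/-- the image of the colimit of the lifted diagram is a colimit -/
noncomputable def bigIsColimit :
    IsColimit (F.mapCocone (colimit.cocone (liftToFinsetObj K))) :=
  isColimitOfPreserves F (colimit.isColimit _)

theorem cocone_ι_app (j : Discrete J) :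
    (liftToFinsetColimitCocone K).cocone.ι.app j =
      inc K {j} ⟨j, by simp⟩ ≫ colimit.ι (liftToFinsetObj K) {j} := rfl

theorem inc_colimit_ι (S : Finset (Discrete J)) (x : S) :
    inc K S x ≫ colimit.ι (liftToFinsetObj K) S =
      inc K {x.1} ⟨x.1, by simp⟩ ≫ colimit.ι (liftToFinsetObj K) {x.1} := by
  have hle : ({x.1} : Finset (Discrete J)) ≤ S := Finset.singleton_subset_iff.2 x.2
  rw [← colimit.w (liftToFinsetObj K) (homOfLE hle), ← Category.assoc, inc_map]

set_option backward.defeqAttrib.useBackward true in
set_option backward.isDefEq.respectTransparency false in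
/-- the image of the canonical coproduct cocone is a colimit cocone -/
noncomputable def mapCoconeIsColimit :
    IsColimit (F.mapCocone (liftToFinsetColimitCocone K).cocone) where
  desc s := (bigIsColimit F K).desc (liftCocone F K s)
  fac s j := by
    rw [Functor.mapCocone_ι_app, cocone_ι_app, F.map_comp, Category.assoc]
    have h1 := (bigIsColimit F K).fac (liftCocone F K s) {j}
    rw [Functor.mapCocone_ι_app] at h1
    erw [h1]
    exact ι_legDesc F K s {j} ⟨j, by simp⟩
  uniq s m hm := by
    apply (bigIsColimit F K).hom_ext
    intro S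
    rw [(bigIsColimit F K).fac]
    apply legDesc_ext F K S
    intro x
    erw [ι_legDesc]
    have h2 := hm x.1
    rw [Functor.mapCocone_ι_app, cocone_ι_app, ← inc_colimit_ι K S x, F.map_comp,
      Category.assoc] at h2
    exact h2

theorem preservesColimitsOfShape_discrete : PreservesColimitsOfShape (Discrete J) F where
  preservesColimit {K} :=
    preservesColimit_of_preserves_colimit_cocone (liftToFinsetColimitCocone K).isColimit
      (mapCoconeIsColimit F K)

end Groth.Agent.H97.CoprodFiltered
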