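import Groth.Prelude.Def_W4c1hurwitzcptBd
import Mathlib

set_option autoImplicit false

namespace Groth.Agent.H97

open W4c1hurwitzcpt

universe u

variable {p : ℕ} [NeZero p] {k : Type u} [Field k]

theorem val_smul (r : PowerSeries k) (y : RootDisk p k) :
    RootDisk.val (r • y) = PowerSeries.expand p (NeZero.ne p) r * RootDisk.val y := by
  rw [Algebra.smul_def, map_mul]
  rfl

theorem order_val_smul (r : PowerSeries k) (y : RootDisk p k) :
    PowerSeries.order (RootDisk.val (r • y)) =
      p • PowerSeries.order r + PowerSeries.order (RootDisk.val y) := by
  rw [val_smul, PowerSeries.order_mul, PowerSeries.order_expand]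

theorem val_injective : Function.Injective (RootDisk.val : RootDisk p k → PowerSeries k) :=
  RootDisk.val.injective

end Groth.Agent.H97
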