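import Groth.Prelude.Def_RedSub
import Mathlib

/-!
Dictionary between `RedSub.posRoots / negRoots` (closure membership) and Mathlib's
`RootPairing.Base.IsPos` (height), plus conjugation formula for `reflectionPerm` along `wordPerm`.
-/

set_option autoImplicit false

namespace Groth.Agent.H97.RedSubPos

variable {idx M N : Type} [AddCommGroup M] [AddCommGroup N]

lemma exists_nat_sum (P : RootPairing idx ℤ M N) (b : P.Base) :
    ∀ m ∈ AddSubmonoid.closure (P.root '' (b.support : Set idx)),
      ∃ f : idx → ℕ, m = ∑ j ∈ b.support, f j • P.root j := by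
  classical
  intro m hm
  refine AddSubmonoid.closure_induction ?_ ⟨0, by simp⟩ ?_ hm
  · rintro - ⟨j, hj, rfl⟩
    refine ⟨Pi.single j 1, ?_⟩
    rw [Finset.sum_eq_single_of_mem j hj]
    · simp
    · intro k _ hk
      simp [Pi.single_eq_of_ne hk]
  · rintro _ _ _ _ ⟨f, hf'⟩ ⟨g, hg'⟩
    exact ⟨f + g, by simp [hf', hg', add_smul, Finset.sum_add_distrib]⟩

lemma isPos_of_mem_posRoots (P : RootPairing idx ℤ M N) (b : P.Base) (a : idx)
    (ha : a ∈ RedSub.posRoots P b) : b.IsPos a := by
  obtain ⟨f, hf⟩ := exists_nat_sum P b _ ha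
  have hf' : P.root a = ∑ j ∈ b.support, ((f j : ℤ)) • P.root j := by
    rw [hf]; simp
  rw [RootPairing.Base.isPos_iff', RootPairing.Base.height_eq_sum hf']
  exact Finset.sum_nonneg (fun j _ => by positivity)

lemma not_isPos_of_mem_negRoots (P : RootPairing idx ℤ M N) (b : P.Base) (a : idx)
    (ha : a ∈ RedSub.negRoots P b) : ¬ b.IsPos a := by
  obtain ⟨f, hf⟩ := exists_nat_sum P b _ ha
  have hf' : P.root a = ∑ j ∈ b.support, (-(f j : ℤ)) • P.root j := by
    rw [← neg_neg (P.root a), hf]; simp
  rw [RootPairing.Base.isPos_iff, RootPairing.Base.height_eq_sum hf', not_lt]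
  exact Finset.sum_nonpos (fun j _ => by simp)

lemma mem_posRoots_iff (P : RootPairing idx ℤ M N) (b : P.Base) (a : idx) :
    a ∈ RedSub.posRoots P b ↔ b.IsPos a := by
  refine ⟨isPos_of_mem_posRoots P b a, fun h => ?_⟩
  rcases b.root_mem_or_neg_mem a with h1 | h1
  · exact h1
  · exact absurd h (not_isPos_of_mem_negRoots P b a h1)

lemma mem_negRoots_iff (P : RootPairing idx ℤ M N) (b : P.Base) (a : idx) :
    a ∈ RedSub.negRoots P b ↔ ¬ b.IsPos a := by
  refine ⟨not_isPos_of_mem_negRoots P b a, fun h => ?_⟩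
  rcases b.root_mem_or_neg_mem a with h1 | h1
  · exact absurd (isPos_of_mem_posRoots P b a h1) h
  · exact h1

lemma mem_posRoots_or_mem_negRoots (P : RootPairing idx ℤ M N) (b : P.Base) (a : idx) :
    a ∈ RedSub.posRoots P b ∨ a ∈ RedSub.negRoots P b := b.root_mem_or_neg_mem a

lemma not_mem_posRoots_and_negRoots (P : RootPairing idx ℤ M N) (b : P.Base) (a : idx)
    (h1 : a ∈ RedSub.posRoots P b) (h2 : a ∈ RedSub.negRoots P b) : False :=
  not_isPos_of_mem_negRoots P b a h2 (isPos_of_mem_posRoots P b a h1)

lemma reflectionPerm_reflectionPerm (P : RootPairing idx ℤ M N) (j i : idx) :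
    P.reflectionPerm (P.reflectionPerm j i) =
      P.reflectionPerm j * P.reflectionPerm i * P.reflectionPerm j := by
  ext k
  apply P.root.injective
  simp only [Equiv.Perm.coe_mul, Function.comp_apply, RootPairing.root_reflectionPerm,
    RootPairing.reflection_reflectionPerm, LinearEquiv.mul_apply]

lemma wordPerm_cons (P : RootPairing idx ℤ M N) (x : idx) (l : List idx) :
    RedSub.wordPerm P (x :: l) = P.reflectionPerm x * RedSub.wordPerm P l := by
  simp [RedSub.wordPerm]

lemma wordPerm_append (P : RootPairing idx ℤ M N) (l l' : List idx) :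
    RedSub.wordPerm P (l ++ l') = RedSub.wordPerm P l * RedSub.wordPerm P l' := by
  simp [RedSub.wordPerm]

lemma wordPerm_reverse (P : RootPairing idx ℤ M N) (l : List idx) :
    RedSub.wordPerm P l.reverse = (RedSub.wordPerm P l)⁻¹ := by
  induction l with
  | nil => simp [RedSub.wordPerm]
  | cons x l ih =>
    rw [List.reverse_cons, wordPerm_append, ih, wordPerm_cons P x l, mul_inv_rev,
      RootPairing.reflectionPerm_inv]
    simp [RedSub.wordPerm]

/-- Conjugation formula: `s_{w a} = w s_a w⁻¹` for `w` a word in reflections. -/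
lemma reflectionPerm_wordPerm (P : RootPairing idx ℤ M N) (l : List idx) (a : idx) :
    P.reflectionPerm (RedSub.wordPerm P l a) =
      RedSub.wordPerm P l * P.reflectionPerm a * (RedSub.wordPerm P l)⁻¹ := by
  induction l with
  | nil => simp [RedSub.wordPerm]
  | cons x l ih =>
    rw [wordPerm_cons, Equiv.Perm.mul_apply, reflectionPerm_reflectionPerm, ih, mul_inv_rev,
      RootPairing.reflectionPerm_inv]
    simp only [mul_assoc]

/-- A simple reflection permutes the positive roots other than the simple root itself. -/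
lemma reflectionPerm_mem_posRoots [Finite idx] (P : RootPairing idx ℤ M N) [P.IsReduced]
    (b : P.Base) {a j : idx} (ha : a ∈ RedSub.posRoots P b) (hj : j ∈ b.support) (hne : a ≠ j) :
    P.reflectionPerm j a ∈ RedSub.posRoots P b := by
  rw [mem_posRoots_iff] at ha ⊢
  exact ha.reflectionPerm hj hne

end Groth.Agent.H97.RedSubPos
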