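import Groth.Prelude.Def_W4c1limliniiiiRamP1
import Mathlib

set_option autoImplicit false

namespace Groth.Agent.H97

open Polynomial

universe u

variable {k : Type u} [Field k]

/-- core computation: for `s0(a) ≠ 0`, `s1(a) = 0`, the order of vanishing of the Wronskian at `a`
is one less than that of `s1`, provided it is less than the characteristic. -/
theorem wronskian_core (p : ℕ) [CharP k p] (a : k) (s0 s1 : k[X]) (h0 : s0.eval a ≠ 0)
    (h1a : s1.eval a = 0) (hW : wronskian s0 s1 ≠ 0) (e : ℕ)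
    (he : (wronskian s0 s1).rootMultiplicity a + 1 = e) (hp : p = 0 ∨ e - 1 < p) :
    s1 ≠ 0 ∧ rootMultiplicity a s1 = e ∧ ¬ p ∣ e := by
  have h1 : s1 ≠ 0 := by
    rintro rfl
    exact hW (wronskian_zero_right _)
  refine ⟨h1, ?_⟩
  obtain ⟨u, hu, hudvd⟩ := exists_eq_pow_rootMultiplicity_mul_and_not_dvd s1 h1 a
  set m := rootMultiplicity a s1 with hm
  have hmpos : 0 < m := (rootMultiplicity_pos h1).mpr h1a
  have hua : u.eval a ≠ 0 := by
    intro h
    exact hudvd (dvd_iff_isRoot.mpr h)
  obtain ⟨m', hm'⟩ : ∃ m', m = m' + 1 := ⟨m - 1, by omega⟩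
  set B : k[X] := C (m : k) * s0 * u + (X - C a) * (s0 * derivative u - derivative s0 * u) with hB
  have hWB : wronskian s0 s1 = (X - C a) ^ m' * B := by
    rw [wronskian]
    conv_lhs => rw [hu]
    have hmc : (m : k) = (m' : k) + 1 := by rw [hm']; push_cast; rfl
    rw [derivative_mul, derivative_X_sub_C_pow, hB, hmc, hm']
    simp only [Nat.add_sub_cancel]
    rw [pow_succ]
    simp only [Nat.cast_add, Nat.cast_one, map_add, map_one, map_natCast]
    ring
  have hBa : B.eval a = (m : k) * s0.eval a * u.eval a := by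
    simp [hB]
  by_cases hmk : (m : k) = 0
  · exfalso
    -- then (X - a)^m ∣ W
    have hdvd : (X - C a) ^ m ∣ wronskian s0 s1 := by
      rw [hWB, hm', pow_succ]
      apply mul_dvd_mul_left
      rw [hB, hmk]
      simp
    have hle := (le_rootMultiplicity_iff hW).mpr hdvd
    have hpm : p ∣ m := (CharP.cast_eq_zero_iff k p m).mp hmk
    rcases hp with hp | hp
    · rw [hp, zero_dvd_iff] at hpm
      omega
    · have := Nat.le_of_dvd hmpos hpm
      omega
  · have hBne : B.eval a ≠ 0 := by
      rw [hBa]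
      exact mul_ne_zero (mul_ne_zero hmk h0) hua
    have hB0 : B ≠ 0 := by
      rintro h
      rw [h] at hBne
      simp at hBne
    have hmult : (wronskian s0 s1).rootMultiplicity a = m' := by
      rw [hWB, rootMultiplicity_mul (by rw [← hWB]; exact hW), rootMultiplicity_X_sub_C_pow,
        rootMultiplicity_eq_zero hBne, add_zero]
    have hem : m = e := by omega
    refine ⟨hem, ?_⟩
    intro hpe
    apply hmk
    rw [hem]
    exact (CharP.cast_eq_zero_iff k p e).mpr hpe

/-- ramification index from a normalised basis -/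
theorem hasRamIdx_of_basis (p : ℕ) [CharP k p] (a : k) (s0 s1 : k[X]) (h0 : s0.eval a ≠ 0)
    (h1a : s1.eval a = 0) (hW : wronskian s0 s1 ≠ 0) (e : ℕ)
    (he : (wronskian s0 s1).rootMultiplicity a + 1 = e) (hp : p = 0 ∨ e - 1 < p) :
    W4c1limliniiii.HasRamIdx (Submodule.span k {s0, s1}) a e ∧ ¬ p ∣ e := by
  obtain ⟨h1, hm, hpe⟩ := wronskian_core p a s0 s1 h0 h1a hW e he hp
  refine ⟨⟨⟨s1, Submodule.subset_span (by simp), h1, hm.ge⟩, ?_⟩, hpe⟩
  intro s hs hs0
  rw [Submodule.mem_span_pair] at hs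
  obtain ⟨α, β, rfl⟩ := hs
  by_cases hα : α = 0
  · subst hα
    rw [zero_smul, zero_add] at hs0 ⊢
    have hβ : β ≠ 0 := by
      rintro rfl
      simp at hs0
    rw [smul_eq_C_mul, rootMultiplicity_mul (by rw [← smul_eq_C_mul]; exact hs0),
      rootMultiplicity_eq_zero (by simpa using hβ), zero_add, hm]
  · rw [rootMultiplicity_eq_zero]
    · exact Nat.zero_le _
    · simp only [IsRoot.def, eval_add, eval_smul, smul_eq_mul, h1a, mul_zero, add_zero]
      exact mul_ne_zero hα h0

end Groth.Agent.H97
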