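import Mathlib

/-!
# Isomorphisms of adic completions

A ring map `ψ : Â → B̂` compatible with `φ : A → B` is bijective as soon as
`A/Iⁿ → B/Jⁿ` is bijective for all `n`.
-/

namespace Groth.Agent.H97.ComplIso

open AdicCompletion

theorem ker_evalₐ {B : Type*} [CommRing B] (𝔟 : Ideal B) (h : 𝔟.FG) (n : ℕ) :
    RingHom.ker (AdicCompletion.evalₐ 𝔟 n : AdicCompletion 𝔟 B →+* B ⧸ 𝔟 ^ n) =
      (𝔟.map (algebraMap B (AdicCompletion 𝔟 B))) ^ n := by
  ext x
  trans x ∈ (AdicCompletion.eval 𝔟 B n).ker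
  · have eq : (𝔟 ^ n • ⊤ : Ideal B) = 𝔟 ^ n := by simp
    rw [RingHom.mem_ker, LinearMap.mem_ker]
    have hx : (AdicCompletion.evalₐ 𝔟 n : AdicCompletion 𝔟 B →+* B ⧸ 𝔟 ^ n) x =
        Ideal.Quotient.factor (le_of_eq eq) (AdicCompletion.eval 𝔟 B n x) :=
      (AdicCompletion.factor_eval_eq_evalₐ 𝔟 x (le_of_eq eq)).symm
    rw [hx]
    have hinj : Function.Injective (Ideal.Quotient.factor (le_of_eq eq)) := by
      rw [RingHom.injective_iff_ker_eq_bot, Ideal.Quotient.factor_ker]
      exact Ideal.map_mk_eq_bot_of_le (le_of_eq eq.symm)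
    exact map_eq_zero_iff _ hinj
  · rw [← AdicCompletion.pow_smul_top_eq_ker_eval h, Ideal.smul_top_eq_map, ← Ideal.map_pow]
    rfl

variable {A B : Type*} [CommRing A] [CommRing B] (I : Ideal A) (J : Ideal B) (φ : A →+* B)
  (ψ : AdicCompletion I A →+* AdicCompletion J B)
  (hψ : ∀ a, ψ (of I A a) = of J B (φ a))

include hψ in
theorem evalₐ_map_eq_zero (hI : I.FG) (hIJ : I.map φ ≤ J) (n : ℕ) (x : AdicCompletion I A)
    (hx : evalₐ I n x = 0) : evalₐ J n (ψ x) = 0 := by
  have h1 : x ∈ Ideal.map (algebraMap A (AdicCompletion I A)) (I ^ n) := by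
    rw [Ideal.map_pow, ← ker_evalₐ I hI n]
    exact hx
  have h2 : Ideal.map (algebraMap A (AdicCompletion I A)) (I ^ n) ≤
      Ideal.comap ψ (RingHom.ker (evalₐ J n : AdicCompletion J B →+* B ⧸ J ^ n)) := by
    rw [Ideal.map_le_iff_le_comap]
    intro a ha
    rw [Ideal.mem_comap, Ideal.mem_comap, RingHom.mem_ker]
    show evalₐ J n (ψ (of I A a)) = 0
    rw [hψ a, evalₐ_of, Ideal.Quotient.eq_zero_iff_mem]
    apply Ideal.pow_right_mono hIJ n
    rw [← Ideal.map_pow]
    exact Ideal.mem_map_of_mem _ ha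
  exact h2 h1

include hψ in
theorem evalₐ_map_of_eq (hI : I.FG) (hIJ : I.map φ ≤ J) (n : ℕ) (x : AdicCompletion I A) (a : A)
    (hx : evalₐ I n x = Ideal.Quotient.mk _ a) :
    evalₐ J n (ψ x) = Ideal.Quotient.mk _ (φ a) := by
  have h0 : evalₐ I n (x - of I A a) = 0 := by
    rw [map_sub, hx, evalₐ_of, sub_self]
  have := evalₐ_map_eq_zero I J φ ψ hψ hI hIJ n _ h0
  rw [map_sub, map_sub, hψ, evalₐ_of, sub_eq_zero] at this
  exact this

include hψ in
theorem bijective_of_cauchy (hI : I.FG) (hIJ : I.map φ ≤ J)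
    (hsurj : ∀ n (b : B), ∃ a : A, φ a - b ∈ J ^ n)
    (hinj : ∀ n (a : A), φ a ∈ J ^ n → a ∈ I ^ n) : Function.Bijective ψ := by
  constructor
  · rw [injective_iff_map_eq_zero]
    intro x hx
    apply ext_evalₐ
    intro n
    obtain ⟨a, ha⟩ := Ideal.Quotient.mk_surjective (evalₐ I n x)
    have h1 := evalₐ_map_of_eq I J φ ψ hψ hI hIJ n x a ha.symm
    rw [hx, _root_.map_zero] at h1
    rw [_root_.map_zero, ← ha, Ideal.Quotient.eq_zero_iff_mem]
    exact hinj n a (Ideal.Quotient.eq_zero_iff_mem.mp h1.symm)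
  · intro y
    obtain ⟨g, rfl⟩ := AdicCompletion.mk_surjective J B y
    choose a ha using fun n => hsurj n (g.val n)
    have hcauchy : ∀ n, a n ≡ a (n + 1) [SMOD (I ^ n • ⊤ : Submodule A A)] := by
      intro n
      rw [SModEq.sub_mem]
      have hmem : a n - a (n + 1) ∈ I ^ n := by
        apply hinj n
        have hg : g.val n - g.val (n + 1) ∈ J ^ n := by
          have := g.property (Nat.le_succ n)
          rw [SModEq.sub_mem] at this
          simpa using this
        have h2 : φ (a (n + 1)) - g.val (n + 1) ∈ J ^ n :=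
          Ideal.pow_le_pow_right (Nat.le_succ n) (ha (n + 1))
        have : φ (a n - a (n + 1)) = (φ (a n) - g.val n) + (g.val n - g.val (n + 1)) -
            (φ (a (n + 1)) - g.val (n + 1)) := by rw [map_sub]; ring
        rw [this]
        exact (J ^ n).sub_mem ((J ^ n).add_mem (ha n) hg) h2
      simpa using hmem
    refine ⟨AdicCompletion.mk I A (AdicCauchySequence.mk I A a hcauchy), ?_⟩
    apply ext_evalₐ
    intro n
    rw [evalₐ_map_of_eq I J φ ψ hψ hI hIJ n _ (a n) (by rw [evalₐ_mk]; rfl), evalₐ_mk,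
      Ideal.Quotient.eq]
    exact ha n


omit ψ in
theorem exists_sub_mem_pow (hJ : J = I.map φ) (h1 : ∀ b : B, ∃ a, φ a - b ∈ J) :
    ∀ (n : ℕ) (b : B), ∃ a, φ a - b ∈ J ^ n := by
  intro n
  induction n with
  | zero => intro b; exact ⟨0, by simp⟩
  | succ n ih =>
    have claim : ∀ x ∈ J ^ n, ∃ a, φ a - x ∈ J ^ (n + 1) := by
      intro x hx
      have hx' : x ∈ Submodule.span B (φ '' (I ^ n : Ideal A)) := by
        have : J ^ n = Ideal.span (φ '' (I ^ n : Ideal A)) := by
          rw [hJ, ← Ideal.map_pow]; rfl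
        rw [this] at hx
        exact hx
      have hspan : ∀ y ∈ Submodule.span B (φ '' (I ^ n : Ideal A)), y ∈ J ^ n := by
        intro y hy
        have : J ^ n = Ideal.span (φ '' (I ^ n : Ideal A)) := by
          rw [hJ, ← Ideal.map_pow]; rfl
        rw [this]
        exact hy
      induction hx' using Submodule.span_induction with
      | mem y hy =>
        obtain ⟨i, _, rfl⟩ := hy
        exact ⟨i, by simp⟩
      | zero => exact ⟨0, by simp⟩
      | add y z hy hz ihy ihz =>
        obtain ⟨a, ha⟩ := ihy (hspan y hy)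
        obtain ⟨a', ha'⟩ := ihz (hspan z hz)
        refine ⟨a + a', ?_⟩
        have : φ (a + a') - (y + z) = (φ a - y) + (φ a' - z) := by rw [map_add]; ring
        rw [this]
        exact Ideal.add_mem _ ha ha'
      | smul c y hy ihy =>
        obtain ⟨ay, hay⟩ := ihy (hspan y hy)
        obtain ⟨ac, hac⟩ := h1 c
        refine ⟨ac * ay, ?_⟩
        have : φ (ac * ay) - c • y = φ ac * (φ ay - y) + (φ ac - c) * y := by
          rw [map_mul, smul_eq_mul]; ring
        rw [this]
        refine Ideal.add_mem _ (Ideal.mul_mem_left _ _ hay) ?_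
        rw [pow_succ']
        exact Ideal.mul_mem_mul hac (hspan y hy)
    intro b
    obtain ⟨a₀, ha₀⟩ := ih b
    obtain ⟨a₁, ha₁⟩ := claim (b - φ a₀) (by
      have : b - φ a₀ = -(φ a₀ - b) := by ring
      rw [this]; exact (J ^ n).neg_mem ha₀)
    refine ⟨a₁ + a₀, ?_⟩
    have : φ (a₁ + a₀) - b = φ a₁ - (b - φ a₀) := by rw [map_add]; ring
    rw [this]
    exact ha₁

/-- flat local homomorphism of Noetherian local rings with `m_A B = m_B` and trivial residue
extension induces an isomorphism on completions. -/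
theorem bijective_of_flat {A B : Type*} [CommRing A]
    [CommRing B] [IsLocalRing A] [IsLocalRing B] [IsNoetherianRing A]
    [Algebra A B] [IsLocalHom (algebraMap A B)] [Module.Flat A B]
    (hm : Ideal.map (algebraMap A B) (IsLocalRing.maximalIdeal A) = IsLocalRing.maximalIdeal B)
    (hk : Function.Surjective (IsLocalRing.ResidueField.map (algebraMap A B)))
    (ψ : AdicCompletion (IsLocalRing.maximalIdeal A) A →+* AdicCompletion (IsLocalRing.maximalIdeal B) B)
    (hψ : ψ.comp (algebraMap A (AdicCompletion (IsLocalRing.maximalIdeal A) A)) =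
      (algebraMap B (AdicCompletion (IsLocalRing.maximalIdeal B) B)).comp (algebraMap A B)) :
    Function.Bijective ψ := by
  have hff : Module.FaithfullyFlat A B := Module.FaithfullyFlat.of_flat_of_isLocalHom
  have hψ' : ∀ a, ψ (of _ A a) = of _ B (algebraMap A B a) := fun a => RingHom.congr_fun hψ a
  have h1 : ∀ b : B, ∃ a, algebraMap A B a - b ∈ IsLocalRing.maximalIdeal B := by
    intro b
    obtain ⟨r, hr⟩ := hk (IsLocalRing.residue B b)
    obtain ⟨a, rfl⟩ := IsLocalRing.residue_surjective r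
    refine ⟨a, ?_⟩
    rw [← IsLocalRing.residue_eq_zero_iff, map_sub, sub_eq_zero, ← hr]
    rfl
  refine bijective_of_cauchy _ _ (algebraMap A B) ψ hψ' (IsNoetherian.noetherian _) hm.le
    (exists_sub_mem_pow _ _ _ hm.symm h1) ?_
  intro n a ha
  rw [← hm, ← Ideal.map_pow] at ha
  have := Ideal.comap_map_eq_self_of_faithfullyFlat (B := B) (IsLocalRing.maximalIdeal A ^ n)
  rw [← this]
  exact ha

end Groth.Agent.H97.ComplIso
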