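import Mathlib

/-!
# Field-valued points of `Proj 𝒜` from evaluation homomorphisms

For a graded ring `𝒜` on `A`, a ring hom `E : A →+* K` to a field and `s` homogeneous of positive
degree with `E s ≠ 0`, we get `ev : Away 𝒜 s →+* K` and a point `pt : Spec K ⟶ Proj 𝒜`.
-/

set_option autoImplicit false
universe u
open CategoryTheory AlgebraicGeometry HomogeneousLocalization

namespace Groth.Agent.H97.ProjPt

section general
variable {A : Type u} [CommRing A] {σ : Type u} [SetLike σ A] [AddSubgroupClass σ A]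
  (𝒜 : ℕ → σ) [GradedRing 𝒜] {K : Type u} [Field K]

/-- evaluation on the degree zero part of the localization -/
noncomputable def ev (E : A →+* K) (s : A) (hs : E s ≠ 0) : Away 𝒜 s →+* K :=
  (IsLocalization.Away.lift (S := Localization.Away s) s (g := E) (IsUnit.mk0 _ hs)).comp
    (algebraMap (Away 𝒜 s) (Localization.Away s))

theorem ev_of_val (E : A →+* K) (s : A) (hs : E s ≠ 0) (z : Away 𝒜 s) (g : A)
    (t : Submonoid.powers s) (h : z.val = Localization.mk g t) :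
    ev 𝒜 E s hs z * E t = E g := by
  unfold ev
  rw [RingHom.comp_apply, HomogeneousLocalization.algebraMap_apply, h,
    Localization.mk_eq_mk']
  have := (IsLocalization.lift_mk'_spec (M := Submonoid.powers s) (S := Localization.Away s)
    (g := E) (hg := fun y => by
      obtain ⟨m, hm⟩ := y.2
      rw [← hm, map_pow]
      exact (IsUnit.mk0 _ hs).pow m) g _ t).mp rfl
  rw [mul_comm]
  exact this.symm

theorem ev_mk (E : A →+* K) (s : A) (hs : E s ≠ 0)
    (x : NumDenSameDeg 𝒜 (Submonoid.powers s)) :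
    ev 𝒜 E s hs (HomogeneousLocalization.mk x) * E x.den = E x.num :=
  ev_of_val 𝒜 E s hs _ x.num ⟨x.den, x.den_mem⟩ (val_mk x)

omit [AddSubgroupClass σ A] [GradedRing 𝒜] in
theorem den_ne (E : A →+* K) (s : A) (hs : E s ≠ 0)
    (x : NumDenSameDeg 𝒜 (Submonoid.powers s)) : E x.den ≠ 0 := by
  obtain ⟨m, hm⟩ := x.den_mem
  rw [← hm, map_pow]
  exact pow_ne_zero m hs

theorem ev_eq_iff (E : A →+* K) (s : A) (hs : E s ≠ 0)
    (x : NumDenSameDeg 𝒜 (Submonoid.powers s)) (v : K) :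
    ev 𝒜 E s hs (HomogeneousLocalization.mk x) = v ↔ E x.num = v * E x.den := by
  rw [← ev_mk 𝒜 E s hs x]
  constructor
  · rintro rfl; rfl
  · intro h
    exact mul_right_cancel₀ (den_ne 𝒜 E s hs x) h

variable {B : Type u} [CommRing B] {τ : Type u} [SetLike τ B] [AddSubgroupClass τ B]
  (ℬ : ℕ → τ) [GradedRing ℬ]

theorem ev_comp_map (f : 𝒜 →+*ᵍ ℬ) (E' : B →+* K) (s : A) (hs : E' (f s) ≠ 0) :
    (ev ℬ E' (f s) hs).comp (Away.map f s) = ev 𝒜 (E'.comp f.toRingHom) s hs := by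
  refine RingHom.ext fun z => ?_
  obtain ⟨x, rfl⟩ := HomogeneousLocalization.mk_surjective z
  rw [RingHom.comp_apply]
  symm
  rw [ev_eq_iff]
  change E' (f x.num) = _ * E' (f x.den)
  unfold Away.map
  rw [HomogeneousLocalization.map_mk]
  exact (ev_mk ℬ E' (f s) hs ⟨x.deg, ⟨f x.num, f.map_mem x.num.2⟩, ⟨f x.den, f.map_mem x.den.2⟩,
    by obtain ⟨m, hm⟩ := x.den_mem; exact ⟨m, by
      change f s ^ m = f x.den
      rw [← map_pow]
      exact congrArg f hm⟩⟩).symm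

/-- the `K`-point of `Proj 𝒜` given by an evaluation hom -/
noncomputable def pt (E : A →+* K) (s : A) {d : ℕ} (hsd : s ∈ 𝒜 d) (hd : 0 < d) (hs : E s ≠ 0) :
    Spec (CommRingCat.of K) ⟶ Proj 𝒜 :=
  Spec.map (CommRingCat.ofHom (ev 𝒜 E s hs)) ≫ Proj.awayι 𝒜 s hsd hd

theorem pt_map (f : 𝒜 →+*ᵍ ℬ) (hf) (E' : B →+* K) (s : A) {d : ℕ} (hsd : s ∈ 𝒜 d) (hd : 0 < d)
    (hs : E' (f s) ≠ 0) :
    pt ℬ E' (f s) (f.map_mem hsd) hd hs ≫ Proj.map f hf =
      pt 𝒜 (E'.comp f.toRingHom) s hsd hd hs := by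
  unfold pt
  rw [Category.assoc, Proj.awayι_comp_map f hf hd s hsd, ← Category.assoc, ← Spec.map_comp,
    ← CommRingCat.ofHom_comp, ev_comp_map]

omit [AddSubgroupClass τ B] in
theorem pt_mem_basicOpen (E : A →+* K) (s : A) {d : ℕ} (hsd : s ∈ 𝒜 d) (hd : 0 < d)
    (hs : E s ≠ 0) (t : A) {e : ℕ} (hte : t ∈ 𝒜 e) (he : 0 < e) (ht : E t ≠ 0)
    (y : Spec (CommRingCat.of K)) :
    (pt 𝒜 E s hsd hd hs).base y ∈ Proj.basicOpen 𝒜 t := by
  have h1 := Proj.awayι_preimage_basicOpen 𝒜 hsd hd hte he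
  change y ∈ (pt 𝒜 E s hsd hd hs) ⁻¹ᵁ Proj.basicOpen 𝒜 t
  unfold pt
  rw [Scheme.Hom.comp_preimage, h1]
  change ev 𝒜 E s hs (Away.isLocalizationElem hsd hte) ∉ y.asIdeal
  intro hmem
  have hne : ev 𝒜 E s hs (Away.isLocalizationElem hsd hte) ≠ 0 := by
    intro h0
    have := ev_mk 𝒜 E s hs ⟨e • d, ⟨t ^ d, by
      convert! SetLike.pow_mem_graded d hte using 2; exact mul_comm _ _⟩, ⟨s ^ e, by
        exact SetLike.pow_mem_graded e hsd⟩, ⟨e, rfl⟩⟩
    unfold Away.isLocalizationElem Away.mk at h0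
    rw [h0, zero_mul] at this
    exact pow_ne_zero d ht (by rw [← map_pow]; exact this.symm)
  exact y.2.ne_top (Ideal.eq_top_of_isUnit_mem _ hmem (IsUnit.mk0 _ hne))

end general

end Groth.Agent.H97.ProjPt
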