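import Mathlib
import Groth.Prelude.Def_CohB1
import Groth.Agent.H97.ProjPt
import Groth.Agent.H97.ProjBaseChange

/-!
# Field-valued points of projective space `Proj k[T_0, …, T_n]`
-/

set_option autoImplicit false
universe u
open CategoryTheory AlgebraicGeometry HomogeneousLocalization

namespace Groth.Agent.H97.ProjPt

section poly
variable (k : Type u) [CommRing k] (K : Type u) [Field K] [Algebra k K] (n : ℕ)

local notation "𝒜" => CohB1.polyGrading n k
local notation "S" => MvPolynomial (Fin (n + 1)) k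

/-- evaluation at a vector with entries in `K` -/
noncomputable def E (α : Fin (n + 1) → K) : S →+* K := MvPolynomial.eval₂Hom (algebraMap k K) α

theorem E_C (α : Fin (n + 1) → K) (a : k) :
    E k K n α (MvPolynomial.C a) = algebraMap k K a := by
  unfold E; simp

theorem E_X (α : Fin (n + 1) → K) (j : Fin (n + 1)) : E k K n α (MvPolynomial.X j) = α j := by
  unfold E; simp

variable {k K n}

omit [Algebra k K] in
theorem ev_cst (Ev : S →+* K) (s : S) (hs : Ev s ≠ 0) (a : k) :
    ev 𝒜 Ev s hs (ProjChart.cst k n _ a) = Ev (MvPolynomial.C a) := by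
  have := ev_of_val 𝒜 Ev s hs (ProjChart.cst k n _ a) (MvPolynomial.C a) 1
    (ProjChart.val_cst k n _ a)
  rwa [OneMemClass.coe_one, map_one, mul_one] at this

set_option backward.isDefEq.respectTransparency false in
theorem pt_toSpec (Ev : S →+* K) (hE : ∀ a, Ev (MvPolynomial.C a) = algebraMap k K a) (s : S)
    {d : ℕ} (hsd : s ∈ 𝒜 d) (hd : 0 < d) (hs : Ev s ≠ 0) :
    pt 𝒜 Ev s hsd hd hs ≫ CohB1.ProjSpace.toSpec n k =
      Spec.map (CommRingCat.ofHom (algebraMap k K)) := by
  unfold pt
  rw [Category.assoc, ProjChart.awayι_toSpec k n s hsd hd, ← Spec.map_comp,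
    ← CommRingCat.ofHom_comp]
  congr 2
  refine RingHom.ext fun a => ?_
  rw [RingHom.comp_apply, ev_cst, hE]

set_option backward.isDefEq.respectTransparency false in
theorem exists_eq_pt (A' : Spec (CommRingCat.of K) ⟶ CohB1.ProjSpace n k)
    (hA : A' ≫ CohB1.ProjSpace.toSpec n k = Spec.map (CommRingCat.ofHom (algebraMap k K)))
    (i : Fin (n + 1))
    (hi : Set.range A'.base ⊆ (Proj.basicOpen 𝒜 (MvPolynomial.X i) : Set (Proj 𝒜))) :
    ∃ (α : Fin (n + 1) → K) (h : E k K n α (MvPolynomial.X i) ≠ 0), α i = 1 ∧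
      A' = pt 𝒜 (E k K n α) (MvPolynomial.X i) (ProjChart.X_mem k n i) Nat.one_pos h := by
  have hr : Set.range A'.base ⊆ Set.range
      (Proj.awayι 𝒜 (MvPolynomial.X i) (ProjChart.X_mem k n i) Nat.one_pos).base := by
    have h0 := congrArg (fun U : (Proj 𝒜).Opens => (U : Set (Proj 𝒜)))
      (Proj.opensRange_awayι 𝒜 (MvPolynomial.X i) (ProjChart.X_mem k n i) Nat.one_pos)
    simp only [Scheme.Hom.coe_opensRange] at h0
    rw [h0]
    exact hi
  have hl := IsOpenImmersion.lift_fac
    (Proj.awayι 𝒜 (MvPolynomial.X i) (ProjChart.X_mem k n i) Nat.one_pos) A' hr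
  set l := IsOpenImmersion.lift
    (Proj.awayι 𝒜 (MvPolynomial.X i) (ProjChart.X_mem k n i) Nat.one_pos) A' hr with hldef
  obtain ⟨φ', hφ'⟩ : ∃ φ' : CommRingCat.of (Away 𝒜 (MvPolynomial.X i : S)) ⟶ CommRingCat.of K,
      Spec.map φ' = l := ⟨Spec.preimage l, Spec.map_preimage l⟩
  have hφc : φ'.hom.comp (ProjChart.cst k n _) = algebraMap k K := by
    have h1 : Spec.map (CommRingCat.ofHom (ProjChart.cst k n (Submonoid.powers
        (MvPolynomial.X i : S))) ≫ φ') = Spec.map (CommRingCat.ofHom (algebraMap k K)) := by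
      rw [Spec.map_comp, hφ', ← ProjChart.awayι_toSpec k n _ (ProjChart.X_mem k n i) Nat.one_pos,
        ← Category.assoc, hl, hA]
    have h2 := Spec.map_injective h1
    exact congrArg CommRingCat.Hom.hom h2
  have hαi : φ'.hom (ProjChart.xc k n i i) = 1 := by
    rw [ProjChart.xc_self', map_one]
  have h : E k K n (fun j => φ'.hom (ProjChart.xc k n i j)) (MvPolynomial.X i) ≠ 0 := by
    rw [E_X, hαi]
    exact one_ne_zero
  refine ⟨fun j => φ'.hom (ProjChart.xc k n i j), h, hαi, ?_⟩
  have key : φ'.hom = ev 𝒜 (E k K n (fun j => φ'.hom (ProjChart.xc k n i j)))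
      (MvPolynomial.X i) h := by
    have hθ : φ'.hom.comp (ProjChart.θ k n i) =
        (ev 𝒜 (E k K n (fun j => φ'.hom (ProjChart.xc k n i j))) (MvPolynomial.X i) h).comp
          (ProjChart.θ k n i) := by
      apply MvPolynomial.ringHom_ext
      · intro a
        rw [RingHom.comp_apply, RingHom.comp_apply, ProjChart.θ_C, ev_cst, E_C]
        exact RingHom.congr_fun hφc a
      · intro j
        rw [RingHom.comp_apply, RingHom.comp_apply, ProjChart.θ_X]
        have := ev_of_val 𝒜 (E k K n (fun j => φ'.hom (ProjChart.xc k n i j)))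
          (MvPolynomial.X i) h (ProjChart.xc k n i j) (MvPolynomial.X j)
          ⟨MvPolynomial.X i, Submonoid.mem_powers _⟩ (ProjChart.val_xc k n i j)
        rw [E_X, E_X, hαi, mul_one] at this
        exact this.symm
    refine RingHom.ext fun z => ?_
    obtain ⟨p, rfl⟩ := ProjChart.θ_surjective k n i z
    exact RingHom.congr_fun hθ p
  rw [← hl, ← hφ']
  unfold pt
  congr 2
  exact CommRingCat.hom_ext key

end poly

end Groth.Agent.H97.ProjPt
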