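import Mathlib
import Groth.Prelude.Def_CohB1
import Groth.Agent.H97.ProjPtPoly

/-!
# Lines in projective space through two `K`-points
-/

set_option autoImplicit false
universe u
open CategoryTheory AlgebraicGeometry HomogeneousLocalization

namespace Groth.Agent.H97.ProjPt

section general
variable {A : Type u} [CommRing A] {σ : Type u} [SetLike σ A] [AddSubgroupClass σ A]
  (𝒜 : ℕ → σ) [GradedRing 𝒜] {K : Type u} [Field K]

theorem pt_congr (E₁ E₂ : A →+* K) (h : E₁ = E₂) (s : A) {d : ℕ} (hsd : s ∈ 𝒜 d) (hd : 0 < d)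
    (hs₁ : E₁ s ≠ 0) (hs₂ : E₂ s ≠ 0) :
    pt 𝒜 E₁ s hsd hd hs₁ = pt 𝒜 E₂ s hsd hd hs₂ := by
  subst h
  rfl

end general

section line
variable (k : Type u) [CommRing k] (K : Type u) [Field K] [Algebra k K] (n : ℕ)
variable (M : Fin (n + 1) → Fin 2 → K)

/-- the graded ring hom `k[X_0..X_n] → K[T_0, T_1]`, `X_j ↦ M j 0 T_0 + M j 1 T_1` -/
noncomputable def lam : (CohB1.polyGrading n k) →+*ᵍ (CohB1.polyGrading 1 K) where
  toRingHom := MvPolynomial.eval₂Hom (MvPolynomial.C.comp (algebraMap k K))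
    (fun j => ProjChart.lin K 1 (M j))
  map_mem := fun {d x} hx => by
    have := ((MvPolynomial.mem_homogeneousSubmodule _ _).mp hx).eval₂
      (MvPolynomial.C.comp (algebraMap k K)) (fun j => ProjChart.lin K 1 (M j)) (n := 1)
      (fun r => MvPolynomial.isHomogeneous_C _ _)
      (fun j => (MvPolynomial.mem_homogeneousSubmodule 1 _).mp (ProjChart.lin_mem K 1 (M j)))
    rw [one_mul] at this
    exact (MvPolynomial.mem_homogeneousSubmodule _ _).mpr this

theorem lam_C (a : k) :
    lam k K n M (MvPolynomial.C a) = MvPolynomial.C (algebraMap k K a) := by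
  change MvPolynomial.eval₂Hom _ _ _ = _
  simp

theorem lam_X (j : Fin (n + 1)) :
    lam k K n M (MvPolynomial.X j) = ProjChart.lin K 1 (M j) := by
  change MvPolynomial.eval₂Hom _ _ _ = _
  simp

theorem lin_two (c : Fin 2 → K) : ProjChart.lin K 1 c =
    MvPolynomial.C (c 0) * MvPolynomial.X 0 + MvPolynomial.C (c 1) * MvPolynomial.X 1 := by
  unfold ProjChart.lin
  rw [Fin.sum_univ_two]

theorem X_mem_irrelevant (j : Fin (n + 1)) : (MvPolynomial.X j : MvPolynomial (Fin (n + 1)) k) ∈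
    (HomogeneousIdeal.irrelevant (CohB1.polyGrading n k)).toIdeal := by
  rw [HomogeneousIdeal.mem_iff, HomogeneousIdeal.mem_irrelevant_iff, GradedRing.proj_apply,
    DirectSum.decompose_of_mem_ne _ (ProjChart.X_mem k n j) (by norm_num)]

theorem irrelevant_le_map_lam (j j' : Fin (n + 1))
    (hdet : M j 0 * M j' 1 - M j' 0 * M j 1 ≠ 0) :
    HomogeneousIdeal.irrelevant (CohB1.polyGrading 1 K) ≤
      (HomogeneousIdeal.irrelevant (CohB1.polyGrading n k)).map (lam k K n M) := by
  change (HomogeneousIdeal.irrelevant (CohB1.polyGrading 1 K)).toIdeal ≤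
    ((HomogeneousIdeal.irrelevant (CohB1.polyGrading n k)).map (lam k K n M)).toIdeal
  rw [HomogeneousIdeal.toIdeal_map]
  refine (Groth.Agent.Lead.Coh.irrelevant_le_span_X 1 K).trans ?_
  rw [Ideal.span_le]
  have hmem : ∀ j, lam k K n M (MvPolynomial.X j) ∈
      Ideal.map (lam k K n M) (HomogeneousIdeal.irrelevant (CohB1.polyGrading n k)).toIdeal :=
    fun j => Ideal.mem_map_of_mem _ (X_mem_irrelevant k n j)
  have hC : (MvPolynomial.C (M j 0 * M j' 1 - M j' 0 * M j 1)⁻¹ : MvPolynomial (Fin 2) K) *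
      (MvPolynomial.C (M j 0) * MvPolynomial.C (M j' 1) -
        MvPolynomial.C (M j' 0) * MvPolynomial.C (M j 1)) = 1 := by
    rw [← map_mul, ← map_mul, ← map_sub, ← map_mul, inv_mul_cancel₀ hdet, map_one]
  rintro _ ⟨l, rfl⟩
  fin_cases l
  · have : (MvPolynomial.X 0 : MvPolynomial (Fin 2) K) =
        MvPolynomial.C (M j 0 * M j' 1 - M j' 0 * M j 1)⁻¹ *
          (MvPolynomial.C (M j' 1) * lam k K n M (MvPolynomial.X j) -
            MvPolynomial.C (M j 1) * lam k K n M (MvPolynomial.X j')) := by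
      rw [lam_X, lam_X, lin_two, lin_two]
      calc (MvPolynomial.X 0 : MvPolynomial (Fin 2) K) = 1 * MvPolynomial.X 0 := (one_mul _).symm
        _ = _ := by rw [← hC]; ring
    change (MvPolynomial.X 0 : MvPolynomial (Fin 2) K) ∈ _
    rw [this]
    exact Ideal.mul_mem_left _ _ (Ideal.sub_mem _ (Ideal.mul_mem_left _ _ (hmem j))
      (Ideal.mul_mem_left _ _ (hmem j')))
  · have : (MvPolynomial.X 1 : MvPolynomial (Fin 2) K) =
        MvPolynomial.C (M j 0 * M j' 1 - M j' 0 * M j 1)⁻¹ *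
          (MvPolynomial.C (M j 0) * lam k K n M (MvPolynomial.X j') -
            MvPolynomial.C (M j' 0) * lam k K n M (MvPolynomial.X j)) := by
      rw [lam_X, lam_X, lin_two, lin_two]
      calc (MvPolynomial.X 1 : MvPolynomial (Fin 2) K) = 1 * MvPolynomial.X 1 := (one_mul _).symm
        _ = _ := by rw [← hC]; ring
    change (MvPolynomial.X 1 : MvPolynomial (Fin 2) K) ∈ _
    rw [this]
    exact Ideal.mul_mem_left _ _ (Ideal.sub_mem _ (Ideal.mul_mem_left _ _ (hmem j'))
      (Ideal.mul_mem_left _ _ (hmem j)))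

theorem E_comp_lam (c : Fin 2 → K) :
    (E K K 1 c).comp (lam k K n M).toRingHom =
      E k K n (fun j => M j 0 * c 0 + M j 1 * c 1) := by
  apply MvPolynomial.ringHom_ext
  · intro a
    rw [RingHom.comp_apply]
    change E K K 1 c (lam k K n M (MvPolynomial.C a)) = _
    rw [lam_C, E_C, E_C]
    rfl
  · intro j
    rw [RingHom.comp_apply]
    change E K K 1 c (lam k K n M (MvPolynomial.X j)) = _
    rw [lam_X, lin_two, E_X, map_add, map_mul, map_mul, E_C, E_C, E_X, E_X]
    rfl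

theorem awayMap_lam_cst (s : MvPolynomial (Fin (n + 1)) k) (a : k) :
    Away.map (lam k K n M) s (ProjChart.cst k n _ a) = ProjChart.cst K 1 _ (algebraMap k K a) := by
  apply val_injective
  rw [ProjChart.val_cst]
  change Localization.mk (lam k K n M (MvPolynomial.C a)) ⟨lam k K n M 1, _⟩ = _
  rw [lam_C]
  congr 1
  apply Subtype.ext
  exact map_one _

set_option backward.isDefEq.respectTransparency false in
theorem map_lam_toSpec (hl : HomogeneousIdeal.irrelevant (CohB1.polyGrading 1 K) ≤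
      (HomogeneousIdeal.irrelevant (CohB1.polyGrading n k)).map (lam k K n M)) :
    (Proj.map (lam k K n M) hl : CohB1.ProjSpace 1 K ⟶ CohB1.ProjSpace n k) ≫
      CohB1.ProjSpace.toSpec n k =
    CohB1.ProjSpace.toSpec 1 K ≫ Spec.map (CommRingCat.ofHom (algebraMap k K)) := by
  refine (Proj.mapAffineOpenCover (lam k K n M) hl).openCover.hom_ext _ _ fun s => ?_
  simp only [Scheme.AffineOpenCover.openCover_f, Proj.mapAffineOpenCover_f]
  rw [Proj.awayι_comp_map_assoc (lam k K n M) _ s.1.2 _ s.2.2,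
    ProjChart.awayι_toSpec k n _ s.2.2 s.1.2]
  rw [ProjChart.awayι_toSpec_assoc K 1 (lam k K n M s.2.1) ((lam k K n M).map_mem s.2.2) s.1.2]
  rw [← Spec.map_comp, ← Spec.map_comp, ← CommRingCat.ofHom_comp, ← CommRingCat.ofHom_comp]
  congr 2
  refine RingHom.ext fun a => ?_
  exact awayMap_lam_cst k K n M _ a

theorem specMap_algebraMap_self :
    Spec.map (CommRingCat.ofHom (algebraMap K K)) = 𝟙 (Spec (CommRingCat.of K)) := by
  rw [Algebra.algebraMap_self]
  exact Spec.map_id _

set_option backward.isDefEq.respectTransparency false in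
theorem exists_line (α β : Fin (n + 1) → K) (ia ib j j' : Fin (n + 1))
    (ha : E k K n α (MvPolynomial.X ia) ≠ 0) (hb : E k K n β (MvPolynomial.X ib) ≠ 0)
    (hdet : α j * β j' - α j' * β j ≠ 0) :
    ∃ (L : CohB1.ProjSpace 1 K ⟶ CohB1.ProjSpace n k)
      (sa sb : Spec (CommRingCat.of K) ⟶ CohB1.ProjSpace 1 K),
      L ≫ CohB1.ProjSpace.toSpec n k =
        CohB1.ProjSpace.toSpec 1 K ≫ Spec.map (CommRingCat.ofHom (algebraMap k K)) ∧
      sa ≫ CohB1.ProjSpace.toSpec 1 K = 𝟙 _ ∧ sb ≫ CohB1.ProjSpace.toSpec 1 K = 𝟙 _ ∧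
      sa ≫ L = pt (CohB1.polyGrading n k) (E k K n α) (MvPolynomial.X ia)
        (ProjChart.X_mem k n ia) Nat.one_pos ha ∧
      sb ≫ L = pt (CohB1.polyGrading n k) (E k K n β) (MvPolynomial.X ib)
        (ProjChart.X_mem k n ib) Nat.one_pos hb := by
  set M : Fin (n + 1) → Fin 2 → K := fun j => ![α j, β j] with hM
  have hl := irrelevant_le_map_lam k K n M j j' (by simpa [hM] using hdet)
  have e0 : (E K K 1 ![1, 0]).comp (lam k K n M).toRingHom = E k K n α := by
    rw [E_comp_lam]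
    congr 1
    funext j
    simp [hM]
  have e1 : (E K K 1 ![0, 1]).comp (lam k K n M).toRingHom = E k K n β := by
    rw [E_comp_lam]
    congr 1
    funext j
    simp [hM]
  have ha' : E K K 1 ![1, 0] (lam k K n M (MvPolynomial.X ia)) ≠ 0 := by
    have h0 := RingHom.congr_fun e0 (MvPolynomial.X ia)
    rw [RingHom.comp_apply] at h0
    change E K K 1 ![1, 0] (lam k K n M (MvPolynomial.X ia)) = _ at h0
    rw [h0]
    exact ha
  have hb' : E K K 1 ![0, 1] (lam k K n M (MvPolynomial.X ib)) ≠ 0 := by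
    have h0 := RingHom.congr_fun e1 (MvPolynomial.X ib)
    rw [RingHom.comp_apply] at h0
    change E K K 1 ![0, 1] (lam k K n M (MvPolynomial.X ib)) = _ at h0
    rw [h0]
    exact hb
  refine ⟨Proj.map (lam k K n M) hl,
    pt (CohB1.polyGrading 1 K) (E K K 1 ![1, 0]) (lam k K n M (MvPolynomial.X ia))
      ((lam k K n M).map_mem (ProjChart.X_mem k n ia)) Nat.one_pos ha',
    pt (CohB1.polyGrading 1 K) (E K K 1 ![0, 1]) (lam k K n M (MvPolynomial.X ib))
      ((lam k K n M).map_mem (ProjChart.X_mem k n ib)) Nat.one_pos hb',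
    map_lam_toSpec k K n M hl, ?_, ?_, ?_, ?_⟩
  · rw [pt_toSpec (k := K) (K := K) _ (fun a => E_C K K 1 _ a), specMap_algebraMap_self]
  · rw [pt_toSpec (k := K) (K := K) _ (fun a => E_C K K 1 _ a), specMap_algebraMap_self]
  · rw [pt_map (CohB1.polyGrading n k) (CohB1.polyGrading 1 K) (lam k K n M) hl
      (E K K 1 ![1, 0]) (MvPolynomial.X ia) (ProjChart.X_mem k n ia) Nat.one_pos ha']
    exact pt_congr _ _ _ e0 _ _ _ _ _
  · rw [pt_map (CohB1.polyGrading n k) (CohB1.polyGrading 1 K) (lam k K n M) hl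
      (E K K 1 ![0, 1]) (MvPolynomial.X ib) (ProjChart.X_mem k n ib) Nat.one_pos hb']
    exact pt_congr _ _ _ e1 _ _ _ _ _

end line

end Groth.Agent.H97.ProjPt
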