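import Mathlib
import Groth.Prelude.Def_W4c5nonratstablectREq
import Groth.Agent.H97.ProjLine
import Groth.Agent.H97.ProjSpaceOverIso

/-!
# Any two `K`-points of an open of `P^n_k` are directly R-linked
-/

set_option autoImplicit false
universe u
open CategoryTheory AlgebraicGeometry

namespace Groth.Agent.H97.REqProj

variable (k : Type u) [Field k] (K : Type u) [Field K] [Algebra k K]

theorem elemLink_of_line {X : Scheme.{u}} (f : X ⟶ Spec (CommRingCat.of k)) (V : X.Opens)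
    (A B : REq.Pts (V.ι ≫ f) K) (L : REq.P1K K ⟶ X)
    (hL : L ≫ f = REq.P1K.toSpec K ≫ REq.specMap k K)
    (sa sb : Spec (CommRingCat.of K) ⟶ REq.P1K K)
    (hsa : sa ≫ REq.P1K.toSpec K = 𝟙 _) (hsb : sb ≫ REq.P1K.toSpec K = 𝟙 _)
    (haL : sa ≫ L = A.1 ≫ V.ι) (hbL : sb ≫ L = B.1 ≫ V.ι) :
    REq.ElemLink (V.ι ≫ f) K A B := by
  have hr : ∀ (s : Spec (CommRingCat.of K) ⟶ REq.P1K K) (C : REq.Pts (V.ι ≫ f) K),
      s ≫ L = C.1 ≫ V.ι → Set.range s.base ⊆ Set.range (L ⁻¹ᵁ V).ι.base := by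
    intro s C hs
    rw [Scheme.Opens.range_ι]
    rintro _ ⟨y, rfl⟩
    change L.base (s.base y) ∈ V
    have h1 : L.base (s.base y) = (C.1 ≫ V.ι).base y := by
      rw [← hs]
      rfl
    rw [h1]
    exact (C.1.base y).2
  refine ⟨L ⁻¹ᵁ V, L ∣_ V, IsOpenImmersion.lift (L ⁻¹ᵁ V).ι sa (hr sa A haL),
    IsOpenImmersion.lift (L ⁻¹ᵁ V).ι sb (hr sb B hbL), ?_, ?_, ?_, ?_, ?_⟩
  · rw [← Category.assoc, morphismRestrict_ι, Category.assoc, hL]
  · rw [IsOpenImmersion.lift_fac_assoc, hsa]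
  · rw [IsOpenImmersion.lift_fac_assoc, hsb]
  · rw [← cancel_mono V.ι, Category.assoc, morphismRestrict_ι, IsOpenImmersion.lift_fac_assoc, haL]
  · rw [← cancel_mono V.ι, Category.assoc, morphismRestrict_ι, IsOpenImmersion.lift_fac_assoc, hbL]

open ProjPt in
set_option backward.isDefEq.respectTransparency false in
theorem main (n : ℕ) (V : (CohB1.ProjSpaceOver n (Spec (CommRingCat.of k))).Opens)
    (A B : REq.Pts (V.ι ≫ CohB1.ProjSpaceOver.toBase n (Spec (CommRingCat.of k))) K) :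
    REq.ElemLink (V.ι ≫ CohB1.ProjSpaceOver.toBase n (Spec (CommRingCat.of k))) K A B := by
  have hA' : (A.1 ≫ V.ι ≫ (ProjChart.projSpaceOverIso k n).hom) ≫ CohB1.ProjSpace.toSpec n k =
      Spec.map (CommRingCat.ofHom (algebraMap k K)) := by
    rw [Category.assoc, Category.assoc, ProjChart.projSpaceOverIso_hom_toSpec]
    exact A.2
  have hB' : (B.1 ≫ V.ι ≫ (ProjChart.projSpaceOverIso k n).hom) ≫ CohB1.ProjSpace.toSpec n k =
      Spec.map (CommRingCat.ofHom (algebraMap k K)) := by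
    rw [Category.assoc, Category.assoc, ProjChart.projSpaceOverIso_hom_toSpec]
    exact B.2
  generalize hA'def : A.1 ≫ V.ι ≫ (ProjChart.projSpaceOverIso k n).hom = A' at hA'
  generalize hB'def : B.1 ≫ V.ι ≫ (ProjChart.projSpaceOverIso k n).hom = B' at hB'
  have key : (∃ (L : CohB1.ProjSpace 1 K ⟶ CohB1.ProjSpace n k)
      (sa sb : Spec (CommRingCat.of K) ⟶ CohB1.ProjSpace 1 K),
      L ≫ CohB1.ProjSpace.toSpec n k =
        CohB1.ProjSpace.toSpec 1 K ≫ Spec.map (CommRingCat.ofHom (algebraMap k K)) ∧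
      sa ≫ CohB1.ProjSpace.toSpec 1 K = 𝟙 _ ∧ sb ≫ CohB1.ProjSpace.toSpec 1 K = 𝟙 _ ∧
      sa ≫ L = A' ∧ sb ≫ L = B') →
      REq.ElemLink (V.ι ≫ CohB1.ProjSpaceOver.toBase n (Spec (CommRingCat.of k))) K A B := by
    rintro ⟨L0, sa, sb, h1, h2, h3, h4, h5⟩
    refine elemLink_of_line k K _ V A B
      ((ProjChart.projSpaceOverIso K 1).hom ≫ L0 ≫ (ProjChart.projSpaceOverIso k n).inv) ?_
      (sa ≫ (ProjChart.projSpaceOverIso K 1).inv) (sb ≫ (ProjChart.projSpaceOverIso K 1).inv)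
      ?_ ?_ ?_ ?_
    · rw [Category.assoc, Category.assoc, ProjChart.projSpaceOverIso_inv_toBase, h1,
        ← Category.assoc, ProjChart.projSpaceOverIso_hom_toSpec]
    · rw [Category.assoc, ProjChart.projSpaceOverIso_inv_toBase, h2]
    · rw [Category.assoc, ProjChart.projSpaceOverIso_inv_toBase, h3]
    · rw [Category.assoc, Iso.inv_hom_id_assoc, ← Category.assoc, h4, ← hA'def, Category.assoc,
        Category.assoc, Iso.hom_inv_id, Category.comp_id]
    · rw [Category.assoc, Iso.inv_hom_id_assoc, ← Category.assoc, h5, ← hB'def, Category.assoc,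
        Category.assoc, Iso.hom_inv_id, Category.comp_id]
  have y0 : Spec (CommRingCat.of K) := (default : PrimeSpectrum K)
  have hchart : ∀ C' : Spec (CommRingCat.of K) ⟶ CohB1.ProjSpace n k,
      ∃ i, C'.base y0 ∈ Proj.basicOpen (CohB1.polyGrading n k) (MvPolynomial.X i) := by
    intro C'
    have h0 : C'.base y0 ∈ (⊤ : (CohB1.ProjSpace n k).Opens) := trivial
    rw [← Groth.Agent.Lead.Coh.iSup_stdOpen n k] at h0
    exact TopologicalSpace.Opens.mem_iSup.mp h0
  have hsub : ∀ (C' : Spec (CommRingCat.of K) ⟶ CohB1.ProjSpace n k) (i : Fin (n + 1)),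
      C'.base y0 ∈ Proj.basicOpen (CohB1.polyGrading n k) (MvPolynomial.X i) →
      Set.range C'.base ⊆ (Proj.basicOpen (CohB1.polyGrading n k) (MvPolynomial.X i) :
        Set (Proj (CohB1.polyGrading n k))) := by
    rintro C' i h _ ⟨y, rfl⟩
    have : y = y0 := Subsingleton.elim (α := PrimeSpectrum K) y y0
    rw [this]
    exact h
  obtain ⟨i, hi⟩ := hchart A'
  obtain ⟨α, ha, hαi, hAeq⟩ := exists_eq_pt A' hA' i (hsub A' i hi)
  by_cases hBi : B'.base y0 ∈ Proj.basicOpen (CohB1.polyGrading n k) (MvPolynomial.X i)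
  · obtain ⟨β, hb, hβi, hBeq⟩ := exists_eq_pt B' hB' i (hsub B' i hBi)
    by_cases hαβ : α = β
    · have hAB : A' = B' := by
        rw [hAeq, hBeq]
        exact pt_congr _ _ _ (by rw [hαβ]) _ _ _ _ _
      have h00 : E K K 1 ![1, 0] (MvPolynomial.X 0) ≠ 0 := by
        rw [E_X]
        simp
      refine key ⟨CohB1.ProjSpace.toSpec 1 K ≫ A',
        pt (CohB1.polyGrading 1 K) (E K K 1 ![1, 0]) (MvPolynomial.X 0)
          (ProjChart.X_mem K 1 0) Nat.one_pos h00,
        pt (CohB1.polyGrading 1 K) (E K K 1 ![1, 0]) (MvPolynomial.X 0)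
          (ProjChart.X_mem K 1 0) Nat.one_pos h00, ?_, ?_, ?_, ?_, ?_⟩
      · rw [Category.assoc, hA']
      · rw [pt_toSpec (k := K) (K := K) _ (fun a => E_C K K 1 _ a), specMap_algebraMap_self]
      · rw [pt_toSpec (k := K) (K := K) _ (fun a => E_C K K 1 _ a), specMap_algebraMap_self]
      · rw [← Category.assoc, pt_toSpec (k := K) (K := K) _ (fun a => E_C K K 1 _ a),
          specMap_algebraMap_self, Category.id_comp]
      · rw [← Category.assoc, pt_toSpec (k := K) (K := K) _ (fun a => E_C K K 1 _ a),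
          specMap_algebraMap_self, Category.id_comp, hAB]
    · obtain ⟨j, hj⟩ := Function.ne_iff.mp hαβ
      obtain ⟨L, sa, sb, h1, h2, h3, h4, h5⟩ := exists_line k K n α β i i i j ha hb (by
        rw [hαi, hβi, one_mul, mul_one]
        intro h
        exact hj (sub_eq_zero.mp h).symm)
      exact key ⟨L, sa, sb, h1, h2, h3, h4.trans hAeq.symm, h5.trans hBeq.symm⟩
  · obtain ⟨i', hi'⟩ := hchart B'
    obtain ⟨β, hb, hβi', hBeq⟩ := exists_eq_pt B' hB' i' (hsub B' i' hi')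
    have hβi : β i = 0 := by
      by_contra hne
      apply hBi
      rw [hBeq]
      exact pt_mem_basicOpen (CohB1.polyGrading n k) (E k K n β) (MvPolynomial.X i')
        (ProjChart.X_mem k n i') Nat.one_pos hb (MvPolynomial.X i) (ProjChart.X_mem k n i)
        Nat.one_pos (by rw [E_X]; exact hne) y0
    obtain ⟨L, sa, sb, h1, h2, h3, h4, h5⟩ := exists_line k K n α β i i' i i' ha hb (by
      rw [hαi, hβi', hβi, mul_zero, sub_zero, one_mul]
      exact one_ne_zero)
    exact key ⟨L, sa, sb, h1, h2, h3, h4.trans hAeq.symm, h5.trans hBeq.symm⟩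

end Groth.Agent.H97.REqProj
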