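import Mathlib
import Groth.Prelude.Def_W4c5nonratstablectREq
import Groth.Agent.H97.REqProj

/-!
# Direct R-links on opens of affine space, and through retractions
-/

set_option autoImplicit false
universe u
open CategoryTheory AlgebraicGeometry HomogeneousLocalization

namespace Groth.Agent.H97.REqAffine

variable (k : Type u) [Field k] (K : Type u) [Field K] [Algebra k K]

theorem elemLink_of_retract {X Y : Scheme.{u}} (f : X ⟶ Spec (CommRingCat.of k))
    (g : Y ⟶ Spec (CommRingCat.of k)) (e : X ⟶ Y) (e' : Y ⟶ X) (he : e ≫ e' = 𝟙 X)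
    (hg : e ≫ g = f) (hf : e' ≫ f = g) (A B : REq.Pts f K)
    (h : REq.ElemLink g K ⟨A.1 ≫ e, by rw [Category.assoc, hg]; exact A.2⟩
      ⟨B.1 ≫ e, by rw [Category.assoc, hg]; exact B.2⟩) :
    REq.ElemLink f K A B := by
  obtain ⟨U, h, a, b, h1, h2, h3, h4, h5⟩ := h
  refine ⟨U, h ≫ e', a, b, ?_, h2, h3, ?_, ?_⟩
  · rw [Category.assoc, hf, h1]
  · rw [← Category.assoc, h4]
    change (A.1 ≫ e) ≫ e' = A.1
    rw [Category.assoc, he, Category.comp_id]
  · rw [← Category.assoc, h5]
    change (B.1 ≫ e) ≫ e' = B.1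
    rw [Category.assoc, he, Category.comp_id]

section chart
variable (n : ℕ)

/-- `k[x_1..x_n] ≃ (k[X_0..X_n]_{X_0})_0` -/
noncomputable def chartEquiv : MvPolynomial (Fin n) k ≃+*
    Away (CohB1.polyGrading n k) (MvPolynomial.X 0 : MvPolynomial (Fin (n + 1)) k) :=
  (MvPolynomial.renameEquiv k (finSuccAboveEquiv (0 : Fin (n + 1)))).toRingEquiv.trans
    (RingEquiv.ofBijective (ProjChart.ψ k n 0) (ProjChart.ψ_bijective k n 0))

theorem chartEquiv_C (a : k) : chartEquiv k n (MvPolynomial.C a) = ProjChart.cst k n _ a := by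
  unfold chartEquiv
  rw [RingEquiv.trans_apply]
  change ProjChart.ψ k n 0 (MvPolynomial.rename _ (MvPolynomial.C a)) = _
  rw [MvPolynomial.rename_C, ProjChart.ψ_C]

/-- the standard chart `A^n_k ⟶ P^n_k` -/
noncomputable def chart : Spec (CommRingCat.of (MvPolynomial (Fin n) k)) ⟶
    CohB1.ProjSpaceOver n (Spec (CommRingCat.of k)) :=
  (Scheme.Spec.mapIso (chartEquiv k n).toCommRingCatIso.op).inv ≫
    (Proj.awayι (CohB1.polyGrading n k) (MvPolynomial.X 0) (ProjChart.X_mem k n 0) Nat.one_pos ≫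
      (ProjChart.projSpaceOverIso k n).inv)

instance : IsOpenImmersion (chart k n) := by
  unfold chart
  infer_instance

set_option backward.isDefEq.respectTransparency false in
theorem chart_toBase : chart k n ≫ CohB1.ProjSpaceOver.toBase n (Spec (CommRingCat.of k)) =
    Spec.map (CommRingCat.ofHom (algebraMap k (MvPolynomial (Fin n) k))) := by
  unfold chart
  rw [Category.assoc, Category.assoc, ProjChart.projSpaceOverIso_inv_toBase,
    ProjChart.awayι_toSpec k n _ (ProjChart.X_mem k n 0) Nat.one_pos]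
  change Spec.map (CommRingCat.ofHom (chartEquiv k n).symm.toRingHom) ≫ _ = _
  rw [← Spec.map_comp, ← CommRingCat.ofHom_comp]
  congr 2
  refine RingHom.ext fun a => ?_
  rw [RingHom.comp_apply]
  change (chartEquiv k n).symm (ProjChart.cst k n _ a) = _
  rw [← chartEquiv_C, RingEquiv.symm_apply_apply]
  rfl

end chart

theorem main (n : ℕ) (V : (Spec (CommRingCat.of (MvPolynomial (Fin n) k))).Opens)
    (A B : REq.Pts (V.ι ≫ Spec.map (CommRingCat.ofHom (algebraMap k (MvPolynomial (Fin n) k)))) K) :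
    REq.ElemLink (V.ι ≫ Spec.map (CommRingCat.ofHom (algebraMap k (MvPolynomial (Fin n) k)))) K
      A B := by
  have hg : ((chart k n).isoImage V).hom ≫ ((chart k n) ''ᵁ V).ι ≫
      CohB1.ProjSpaceOver.toBase n (Spec (CommRingCat.of k)) =
      V.ι ≫ Spec.map (CommRingCat.ofHom (algebraMap k (MvPolynomial (Fin n) k))) := by
    rw [Scheme.Hom.isoImage_hom_ι_assoc, chart_toBase]
  refine elemLink_of_retract k K _ (((chart k n) ''ᵁ V).ι ≫
      CohB1.ProjSpaceOver.toBase n (Spec (CommRingCat.of k)))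
    ((chart k n).isoImage V).hom ((chart k n).isoImage V).inv (Iso.hom_inv_id _) hg ?_ A B ?_
  · rw [← hg, Iso.inv_hom_id_assoc]
  · exact REqProj.main k K n _ _ _

end Groth.Agent.H97.REqAffine
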