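import Mathlib

set_option autoImplicit false

namespace Groth.Agent.H97

open TensorProduct

universe u v w

section Generator

variable (R : Type u) [CommRing R] (M : Type v) [AddCommGroup M] [Module R M]
  [Module.Finite R M] [Module.Projective R M] [FaithfulSMul R M]

/-- a faithful finitely generated projective module is a generator: `1` is in the trace ideal. -/
theorem exists_contractLeft_eq_one : ∃ t : Module.Dual R M ⊗[R] M, contractLeft R M t = 1 := by
  classical
  obtain ⟨n, f, g, _, _, hfg⟩ := Module.Finite.exists_comp_eq_id_of_projective R M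
  let T : Ideal R := LinearMap.range (contractLeft R M)
  have hle : (⊤ : Submodule R M) ≤ T • ⊤ := by
    intro m _
    have h1 : m = f (g m) := by
      have := LinearMap.congr_fun hfg m
      simpa using this.symm
    have h2 : g m = ∑ i, (g m i) • (Pi.single i (1 : R) : Fin n → R) := by
      ext j
      simp [Finset.sum_apply, Pi.single_apply]
    rw [h1, h2, map_sum]
    refine Submodule.sum_mem _ fun i _ => ?_
    rw [map_smul]
    refine Submodule.smul_mem_smul ?_ Submodule.mem_top
    exact ⟨((LinearMap.proj i : (Fin n → R) →ₗ[R] R) ∘ₗ g) ⊗ₜ[R] m, by simp⟩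
  obtain ⟨r, hr1, hr2⟩ := Submodule.exists_sub_one_mem_and_smul_eq_zero_of_fg_of_le_smul T
    (⊤ : Submodule R M) Module.Finite.fg_top hle
  have hr0 : r = 0 := by
    apply FaithfulSMul.eq_of_smul_eq_smul (α := M)
    intro m
    rw [hr2 m Submodule.mem_top, zero_smul]
  rw [hr0, zero_sub] at hr1
  have h1 : (1 : R) ∈ T := by simpa using T.neg_mem hr1
  exact h1

variable {R M} in
/-- detecting zero by tensoring with a generator. -/
theorem eq_zero_of_forall_tmul_eq_zero {N : Type w} [AddCommGroup N] [Module R N] (x : N)
    (h : ∀ m : M, m ⊗ₜ[R] x = 0) : x = 0 := by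
  obtain ⟨t, ht⟩ := exists_contractLeft_eq_one R M
  -- the map `M* ⊗ M → N`, `f ⊗ m ↦ f m • x` factors through `m ⊗ x`
  let Φ : Module.Dual R M ⊗[R] M →ₗ[R] N :=
    (LinearMap.toSpanSingleton R N x) ∘ₗ contractLeft R M
  have hΦ : Φ = 0 := by
    apply TensorProduct.ext'
    intro f m
    simp only [Φ, LinearMap.comp_apply, contractLeft_apply, LinearMap.toSpanSingleton_apply,
      LinearMap.zero_apply]
    have := congrArg ((TensorProduct.lid R N) ∘ (LinearMap.rTensor N f)) (h m)
    simpa using this
  have := LinearMap.congr_fun hΦ t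
  simpa [Φ, ht] using this

end Generator


section EndAzumaya

variable (R : Type u) [CommRing R]
    (P : Type v) [AddCommGroup P] [Module R P] [Module.Finite R P] [Module.Projective R P]
    [FaithfulSMul R P]

/-- `End_R(P)` is Azumaya for a faithful finitely generated projective module `P`. -/
theorem isAzumaya_end : IsAzumaya R (Module.End R P) := by
  classical
  let φ : Module.Dual R P ⊗[R] P ≃ₗ[R] Module.End R P := dualTensorHomEquiv R P P
  have hproj : Module.Projective R (Module.End R P) := Module.Projective.of_equiv φ
  have hfin : Module.Finite R (Module.End R P) := Module.Finite.equiv φ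
  have hfaith : FaithfulSMul R (Module.End R P) := by
    refine ⟨fun {r₁ r₂} h => ?_⟩
    apply FaithfulSMul.eq_of_smul_eq_smul (α := P)
    intro p
    have := LinearMap.congr_fun (h (1 : Module.End R P)) p
    simpa using this
  refine { bij := ?_ }
  let G : (Module.Dual R P ⊗[R] P) ⊗[R] (Module.Dual R P ⊗[R] P) ≃ₗ[R]
      (Module.End R P) ⊗[R] (Module.End R P)ᵐᵒᵖ :=
    TensorProduct.congr φ (φ ≪≫ₗ MulOpposite.opLinearEquiv R)
  let ψ : Module.Dual R P ⊗[R] P ≃ₗ[R] Module.End R (Module.Dual R P) :=
    TensorProduct.comm R _ _ ≪≫ₗ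
      TensorProduct.congr (Module.evalEquiv R P) (LinearEquiv.refl R (Module.Dual R P)) ≪≫ₗ
      dualTensorHomEquiv R (Module.Dual R P) (Module.Dual R P)
  let H : (Module.Dual R P ⊗[R] P) ⊗[R] (Module.Dual R P ⊗[R] P) ≃ₗ[R]
      Module.End R (Module.End R P) :=
    TensorProduct.comm R _ _ ≪≫ₗ TensorProduct.congr ψ φ ≪≫ₗ
      homTensorHomEquiv R (Module.Dual R P) P (Module.Dual R P) P ≪≫ₗ φ.conj
  have key : (AlgHom.mulLeftRight R (Module.End R P)).toLinearMap ∘ₗ G.toLinearMap =
      H.toLinearMap := by
    apply TensorProduct.ext'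
    intro x y
    induction x using TensorProduct.induction_on with
    | zero => simp
    | add x₁ x₂ h₁ h₂ => rw [TensorProduct.add_tmul, map_add, map_add, h₁, h₂]
    | tmul f p =>
      induction y using TensorProduct.induction_on with
      | zero => simp
      | add y₁ y₂ h₁ h₂ => rw [TensorProduct.tmul_add, map_add, map_add, h₁, h₂]
      | tmul g q =>
        apply LinearMap.ext
        intro e
        obtain ⟨t, rfl⟩ := φ.surjective e
        induction t using TensorProduct.induction_on with
        | zero => simp
        | add t₁ t₂ h₁ h₂ => rw [map_add, map_add, map_add, h₁, h₂]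
        | tmul h r =>
          apply LinearMap.ext
          intro x
          simp [G, H, ψ, φ, LinearEquiv.conj_apply_apply, dualTensorHom_apply]
          simp only [smul_smul]
          congr 1
          ring
  have hbij : Function.Bijective ((AlgHom.mulLeftRight R (Module.End R P)).toLinearMap ∘ₗ
      G.toLinearMap) := by
    rw [key]
    exact H.bijective
  have h2 : Function.Bijective (⇑(AlgHom.mulLeftRight R (Module.End R P)) ∘ ⇑G) := hbij
  exact (Function.Bijective.of_comp_iff _ G.bijective).mp h2

end EndAzumaya

end Groth.Agent.H97
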