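import Mathlib

/-!
# Uncountable Nullstellensatz trick

Over an uncountable algebraically closed field `k`, a finitely generated `k`-algebra `A` with a
prime `p` and countably many elements `a n ∉ p` has a maximal ideal avoiding all the `a n`.
-/

namespace Groth.Agent.H97.UncountNSS

open Cardinal

universe u

theorem algebraMap_surjective_of_rank_le_aleph0 (k F : Type u) [Field k] [IsAlgClosed k]
    [Uncountable k] [Field F] [Algebra k F] (h : Module.rank k F ≤ ℵ₀) :
    Function.Surjective (algebraMap k F) := by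
  intro x
  by_contra hx
  have htr : Transcendental k x := by
    intro halg
    apply hx
    have hint : IsIntegral k x := halg.isIntegral
    have hdeg : (minpoly k x).degree = 1 :=
      IsAlgClosed.degree_eq_one_of_irreducible k (minpoly.irreducible hint)
    exact minpoly.mem_range_of_degree_eq_one k x hdeg
  have h2 := htr.linearIndependent_sub_inv.cardinal_lift_le_rank
  rw [lift_id, lift_id] at h2
  have h3 : #k ≤ ℵ₀ := h2.trans h
  rw [Cardinal.mk_le_aleph0_iff] at h3
  exact not_countable h3

theorem exists_maximal_not_mem (k A : Type u) [Field k] [IsAlgClosed k] [Uncountable k]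
    [CommRing A] [Algebra k A] [Algebra.FiniteType k A] (a : ℕ → A) (p : Ideal A) [p.IsPrime]
    (h : ∀ n, a n ∉ p) : ∃ m : Ideal A, m.IsMaximal ∧ ∀ n, a n ∉ m := by
  classical
  let S : Submonoid A := Submonoid.closure (Set.range a)
  have hS : S ≤ p.primeCompl := Submonoid.closure_le.mpr (by rintro _ ⟨n, rfl⟩; exact h n)
  let B := Localization S
  have hnt : Nontrivial B := by
    rw [← not_subsingleton_iff_nontrivial, IsLocalization.subsingleton_iff (M := S)]
    intro h0
    exact hS h0 (zero_mem p)
  obtain ⟨M, hM⟩ := Ideal.exists_maximal B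
  let F := B ⧸ M
  let _ : Field F := Ideal.Quotient.field M
  let ψ : A →ₐ[k] F := (IsScalarTower.toAlgHom k B F).comp (IsScalarTower.toAlgHom k A B)
  have hψ : ∀ x, ψ x = Ideal.Quotient.mk M (algebraMap A B x) := fun x => rfl
  obtain ⟨t, ht⟩ := (Algebra.FiniteType.out : (⊤ : Subalgebra k A).FG)
  let G : Set F := ψ '' (t : Set A) ∪ Set.range (fun n => (ψ (a n))⁻¹)
  have hGc : G.Countable := (t.countable_toSet.image _).union (Set.countable_range _)
  have hinv : ∀ s ∈ S, (ψ s)⁻¹ ∈ Algebra.adjoin k G := by
    intro s hs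
    induction hs using Submonoid.closure_induction with
    | mem x hx =>
      obtain ⟨n, rfl⟩ := hx
      exact Algebra.subset_adjoin (Or.inr ⟨n, rfl⟩)
    | one => simp
    | mul x y _ _ hx hy =>
      rw [map_mul, mul_inv]
      exact mul_mem hx hy
  have hA : ∀ x : A, ψ x ∈ Algebra.adjoin k G := by
    intro x
    have hx : x ∈ Algebra.adjoin k (t : Set A) := by rw [ht]; trivial
    have : ψ x ∈ (Algebra.adjoin k (t : Set A)).map ψ := ⟨x, hx, rfl⟩
    rw [AlgHom.map_adjoin] at this
    exact Algebra.adjoin_mono Set.subset_union_left this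
  have htop : Algebra.adjoin k G = ⊤ := by
    rw [eq_top_iff]
    rintro y -
    obtain ⟨b, rfl⟩ := Ideal.Quotient.mk_surjective y
    obtain ⟨x, s, rfl⟩ := IsLocalization.exists_mk'_eq S b
    have hs0 : ψ s ≠ 0 := by
      intro h0
      have hu : IsUnit (algebraMap A B s) := IsLocalization.map_units B s
      have : IsUnit (ψ (s : A)) := hu.map (Ideal.Quotient.mk M)
      exact this.ne_zero h0
    have : Ideal.Quotient.mk M (IsLocalization.mk' B x s) = ψ x * (ψ s)⁻¹ := by
      rw [eq_mul_inv_iff_mul_eq₀ hs0, hψ, hψ, ← map_mul, IsLocalization.mk'_spec]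
    rw [this]
    exact mul_mem (hA x) (hinv s s.2)
  have hrank : Module.rank k F ≤ ℵ₀ := by
    have h1 := Algebra.rank_adjoin_le (R := k) G
    rw [htop, Subalgebra.rank_top] at h1
    refine h1.trans (max_le ?_ le_rfl)
    rwa [Cardinal.mk_le_aleph0_iff, Set.countable_coe_iff]
  have hsurj := algebraMap_surjective_of_rank_le_aleph0 k F hrank
  have hψs : Function.Surjective ψ := by
    intro y
    obtain ⟨c, rfl⟩ := hsurj y
    exact ⟨algebraMap k A c, by simp⟩
  refine ⟨RingHom.ker ψ.toRingHom, RingHom.ker_isMaximal_of_surjective ψ.toRingHom hψs, ?_⟩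
  intro n hn
  have h0 : ψ (a n) = 0 := hn
  have hu : IsUnit (algebraMap A B (a n)) :=
    IsLocalization.map_units B (⟨a n, Submonoid.subset_closure ⟨n, rfl⟩⟩ : S)
  have : IsUnit (ψ (a n)) := hu.map (Ideal.Quotient.mk M)
  exact this.ne_zero h0

end Groth.Agent.H97.UncountNSS
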