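import Mathlib
import Groth.Agent.H97.UncountNSS

/-!
# Density of closed points outside countably many closed subsets (uncountable alg. closed field)
-/

namespace Groth.Agent.H97.UncountDense

open AlgebraicGeometry CategoryTheory TopologicalSpace

universe u

theorem dense_closedPoints_compl (k : Type u) [Field k] [IsAlgClosed k] [Uncountable k]
    (V : Scheme.{u}) (sV : V ⟶ Spec (CommRingCat.of k)) [IrreducibleSpace V]
    [LocallyOfFiniteType sV] (Z : ℕ → TopologicalSpace.Closeds V)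
    (hZ : ∀ n, (Z n : Set V) ≠ Set.univ) :
    Dense {x : V | IsClosed ({x} : Set V) ∧ ∀ n, x ∉ Z n} := by
  classical
  have hJ : JacobsonSpace V := LocallyOfFiniteType.jacobsonSpace sV
  rw [dense_iff_inter_open]
  rintro W hW ⟨w, hw⟩
  obtain ⟨U, hU, hwU, hUW⟩ :=
    Opens.isBasis_iff_nbhd.mp V.isBasis_affineOpens (show w ∈ (⟨W, hW⟩ : Opens V) from hw)
  have hU' : IsAffineOpen U := hU
  let g : Spec Γ(V, U) ⟶ V := hU'.fromSpec
  have hrange : Set.range g.base = (U : Set V) := hU'.range_fromSpec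
  let φ : CommRingCat.of k ⟶ Γ(V, U) := Spec.preimage (g ≫ sV)
  have hφ : Spec.map φ = g ≫ sV := Spec.map_preimage _
  have hft : LocallyOfFiniteType (Spec.map φ) := by rw [hφ]; infer_instance
  have hft' : RingHom.FiniteType φ.hom :=
    (HasRingHomProperty.Spec_iff (P := @LocallyOfFiniteType)).mp hft
  letI : Algebra k Γ(V, U) := φ.hom.toAlgebra
  have : Algebra.FiniteType k Γ(V, U) := hft'
  -- generic point
  let ξ : V := genericPoint V
  have hξ : closure ({ξ} : Set V) = Set.univ := (genericPoint_spec V).def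
  have hξU : ξ ∈ (U : Set V) := by
    rw [(genericPoint_spec V).mem_open_set_iff U.isOpen]
    exact ⟨w, trivial, hwU⟩
  have hξZ : ∀ n, ξ ∉ (Z n : Set V) := by
    intro n hn
    apply hZ n
    rw [Set.eq_univ_iff_forall]
    intro y
    have : closure ({ξ} : Set V) ⊆ (Z n : Set V) :=
      (Z n).isClosed.closure_subset_iff.mpr (Set.singleton_subset_iff.mpr hn)
    exact this (hξ ▸ Set.mem_univ y)
  obtain ⟨p, hp⟩ : ξ ∈ Set.range g.base := hrange ▸ hξU
  have hclosed : ∀ n, IsClosed (g.base ⁻¹' (Z n : Set V)) :=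
    fun n => (Z n).isClosed.preimage g.continuous
  choose I hI using fun n => (PrimeSpectrum.isClosed_iff_zeroLocus_ideal _).mp (hclosed n)
  have hI' : ∀ (n : ℕ) (q : PrimeSpectrum Γ(V, U)),
      g.base q ∈ (Z n : Set V) ↔ ((I n : Ideal Γ(V, U)) : Set Γ(V, U)) ⊆ q.asIdeal :=
    fun n q => (Set.ext_iff.mp (hI n) q).trans (PrimeSpectrum.mem_zeroLocus q _)
  have hpn : ∀ n, ∃ a ∈ I n, a ∉ (p : PrimeSpectrum Γ(V, U)).asIdeal := by
    intro n
    have h1 : ¬ g.base p ∈ (Z n : Set V) := by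
      intro h
      exact hξZ n (hp ▸ h)
    rw [hI' n p, Set.not_subset] at h1
    exact h1
  choose a ha using hpn
  obtain ⟨m, hm, hma⟩ := Groth.Agent.H97.UncountNSS.exists_maximal_not_mem k Γ(V, U) a
    (p : PrimeSpectrum Γ(V, U)).asIdeal (fun n => (ha n).2)
  let y : PrimeSpectrum Γ(V, U) := ⟨m, hm.isPrime⟩
  refine ⟨g.base y, hUW ?_, ?_, ?_⟩
  · have : g.base y ∈ Set.range g.base := ⟨y, rfl⟩
    rw [hrange] at this
    exact this
  · have h2 := g.isOpenEmbedding.preimage_closedPoints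
    have h3 : y ∈ closedPoints (PrimeSpectrum Γ(V, U)) :=
      (PrimeSpectrum.isClosed_singleton_iff_isMaximal y).mpr hm
    have h4 : y ∈ g.base ⁻¹' closedPoints V := h2.symm ▸ h3
    exact h4
  · intro n hn
    have h1 : g.base y ∈ (Z n : Set V) := hn
    rw [hI' n y] at h1
    exact hma n (h1 (ha n).1)

end Groth.Agent.H97.UncountDense
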