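import Mathlib
import Groth.Prelude.Def_W4c1gvcharpAbut

/-!
# A vanishing criterion for morphisms of abutments
-/

open CategoryTheory CategoryTheory.Limits

universe v u

namespace Groth.Agent.H97.AbutZero

variable {C : Type u} [Category.{v} C] [Abelian C]

section Pages

variable {r₀ : ℤ}

/-- If the object at `pq` on page `r` is zero so is the homology at `pq`. -/
theorem isZero_homology_of_isZero_X {ι : Type*} {c : ComplexShape ι} (K : HomologicalComplex C c)
    (i : ι) (h : IsZero (K.X i)) : IsZero (K.homology i) := by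
  have : (K.sc i).Exact := ShortComplex.exact_of_isZero_X₂ _ h
  exact (ShortComplex.exact_iff_isZero_homology _).mp this

theorem isZero_page (E : CohomologicalSpectralSequence C r₀) (pq : ℤ × ℤ)
    (h : IsZero ((E.page r₀ le_rfl).X pq)) (r : ℤ) (hr : r₀ ≤ r) :
    IsZero ((E.page r hr).X pq) := by
  induction r, hr using Int.leInduction with
  | base => exact h
  | succ r hr ih =>
    exact (isZero_homology_of_isZero_X _ pq ih).of_iso (E.iso r (r + 1) pq rfl hr).symm

theorem homologyMap_eq_zero {ι : Type*} {c : ComplexShape ι} {K L : HomologicalComplex C c}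
    (g : K ⟶ L) (i : ι) (h : g.f i = 0) : HomologicalComplex.homologyMap g i = 0 := by
  rw [← cancel_epi (K.homologyπ i), HomologicalComplex.homologyπ_naturality, comp_zero]
  have : HomologicalComplex.cyclesMap g i = 0 := by
    rw [← cancel_mono (L.iCycles i), HomologicalComplex.cyclesMap_i, h, comp_zero, zero_comp]
  rw [this, zero_comp]

theorem hom_f_eq_zero {E E' : CohomologicalSpectralSequence C r₀} (φ : E ⟶ E') (pq : ℤ × ℤ)
    (h : (φ.hom r₀ le_rfl).f pq = 0) (r : ℤ) (hr : r₀ ≤ r) : (φ.hom r hr).f pq = 0 := by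
  induction r, hr using Int.leInduction with
  | base => exact h
  | succ r hr ih =>
    have := φ.comm r (r + 1) pq rfl hr
    rw [homologyMap_eq_zero _ _ ih, zero_comp] at this
    rw [← cancel_epi (E.iso r (r + 1) pq rfl hr).hom, ← this, comp_zero]

end Pages

section Fil

theorem fil_succ_eq_of_isZero_gr (K : SpSeq.FilObj C) (p : ℤ) (h : IsZero (K.gr p)) :
    K.fil (p + 1) = K.fil p := by
  have hle : K.fil (p + 1) ≤ K.fil p := K.anti (Int.le_add_one le_rfl)
  have hepi : Epi ((K.fil (p + 1)).ofLE (K.fil p) hle) :=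
    Preadditive.epi_of_isZero_cokernel _ h
  have hiso : IsIso ((K.fil (p + 1)).ofLE (K.fil p) hle) := isIso_of_mono_of_epi _
  refine le_antisymm hle ?_
  exact Subobject.le_of_comm (inv ((K.fil (p + 1)).ofLE (K.fil p) hle)) (by
    rw [IsIso.inv_comp_eq, Subobject.ofLE_arrow])

theorem fil_eq_top (K : SpSeq.FilObj C) (a₀ : ℤ) (ha : ∃ a : ℤ, K.fil a = ⊤)
    (h : ∀ i : ℤ, i < a₀ → IsZero (K.gr i)) : K.fil a₀ = ⊤ := by
  obtain ⟨a, ha⟩ := ha
  by_cases hle : a₀ ≤ a
  · exact top_le_iff.mp (ha ▸ K.anti hle)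
  · have key : ∀ n : ℕ, a + n ≤ a₀ → K.fil (a + n) = ⊤ := by
      intro n
      induction n with
      | zero => intro _; simpa using ha
      | succ n ih =>
        intro hn
        have h1 : a + (n : ℤ) < a₀ := by push_cast at hn; omega
        have h2 := fil_succ_eq_of_isZero_gr K (a + n) (h _ h1)
        rw [ih h1.le] at h2
        have h3 : a + ((n + 1 : ℕ) : ℤ) = a + n + 1 := by push_cast; ring
        rw [h3, h2]
    have := key (a₀ - a).toNat (by omega)
    have h4 : a + ((a₀ - a).toNat : ℤ) = a₀ := by omega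
    rwa [h4] at this

theorem fil_eq_bot (K : SpSeq.FilObj C) (a₀ : ℤ) (hb : ∃ b : ℤ, K.fil b = ⊥)
    (h : ∀ i : ℤ, a₀ < i → IsZero (K.gr i)) : K.fil (a₀ + 1) = ⊥ := by
  obtain ⟨b, hb⟩ := hb
  by_cases hle : b ≤ a₀ + 1
  · exact le_bot_iff.mp (hb ▸ K.anti hle)
  · have key : ∀ n : ℕ, a₀ + 1 ≤ b - n → K.fil (b - n) = ⊥ := by
      intro n
      induction n with
      | zero => intro _; simpa using hb
      | succ n ih =>
        intro hn
        have h1 : a₀ < b - ((n + 1 : ℕ) : ℤ) := by omega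
        have h2 := fil_succ_eq_of_isZero_gr K (b - ((n + 1 : ℕ) : ℤ)) (h _ h1)
        have h3 : b - ((n + 1 : ℕ) : ℤ) + 1 = b - n := by push_cast; ring
        rw [h3, ih (by push_cast at hn; omega)] at h2
        exact h2.symm
    have := key (b - (a₀ + 1)).toNat (by omega)
    have h4 : b - ((b - (a₀ + 1)).toNat : ℤ) = a₀ + 1 := by omega
    rwa [h4] at this

theorem filLift_hom_eq_zero {K L : SpSeq.FilObj C} (f : SpSeqMor.FilLift K L) (a₀ : ℤ)
    (hK : K.fil a₀ = ⊤) (hL : L.fil (a₀ + 1) = ⊥) (hgr : f.gr a₀ = 0) : f.hom = 0 := by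
  have h1 : f.lift a₀ ≫ cokernel.π (L.stepLE (Int.le_add_one (le_refl a₀))) = 0 := by
    have e : cokernel.π (K.stepLE (Int.le_add_one (le_refl a₀))) ≫ f.gr a₀ =
        f.lift a₀ ≫ cokernel.π (L.stepLE (Int.le_add_one (le_refl a₀))) :=
      cokernel.π_desc _ _ _
    exact e.symm.trans ((congrArg
      (fun g => cokernel.π (K.stepLE (Int.le_add_one (le_refl a₀))) ≫ g) hgr).trans comp_zero)
  have hz : IsZero (L.step (a₀ + 1)) := by
    change IsZero ((L.fil (a₀ + 1) : Subobject L.obj) : C)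
    rw [hL]
    exact (isZero_zero C).of_iso Subobject.botCoeIsoZero
  have h2 : f.lift a₀ = 0 := by
    rw [← Abelian.monoLift_comp (L.stepLE (Int.le_add_one (le_refl a₀))) (f.lift a₀) h1,
      hz.eq_of_tgt (Abelian.monoLift _ _ _) 0, zero_comp]
  have hiso : IsIso (K.fil a₀).arrow := (Subobject.isIso_arrow_iff_eq_top _).mpr hK
  rw [← cancel_epi (K.fil a₀).arrow, ← f.lift_arrow, h2, zero_comp, comp_zero]

end Fil

section Main

theorem gr_isZero {E : E₂CohomologicalSpectralSequence C} {H : ℤ → C} (a : SpSeq.Abutment E H)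
    (pq : ℤ × ℤ) (h : IsZero ((E.page 2 le_rfl).X pq)) :
    IsZero (SpSeq.grPiece (a.fil (pq.1 + pq.2)) (a.anti (pq.1 + pq.2)) pq.1) :=
  (isZero_page E pq h (a.rk pq) (a.stat pq).1).of_iso (a.β pq).symm

theorem gr_eq_zero {E E' : E₂CohomologicalSpectralSequence C} (φ : E ⟶ E') {H H' : ℤ → C}
    (a : SpSeq.Abutment E H) (a' : SpSeq.Abutment E' H') (f : SpSeqMor.AbutHom φ a a')
    (pq : ℤ × ℤ) (hφ : (φ.hom 2 le_rfl).f pq = 0) : (f.fil (pq.1 + pq.2)).gr pq.1 = 0 := by
  have hk : a.rk pq + ((a'.rk pq - 2).toNat : ℤ) = a'.rk pq + ((a.rk pq - 2).toNat : ℤ) := by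
    have := (a.stat pq).1
    have := (a'.stat pq).1
    omega
  have := f.comm pq _ _ hk
  rw [hom_f_eq_zero φ pq hφ] at this
  simp only [zero_comp, comp_zero] at this
  exact (cancel_epi (a.β pq).hom).mp (this.trans comp_zero.symm)

theorem main (E E' : E₂CohomologicalSpectralSequence C) (φ : E ⟶ E') (H H' : ℤ → C)
    (a : SpSeq.Abutment E H) (a' : SpSeq.Abutment E' H')
    (ha : ∀ n : ℤ, a.IsFinite n) (ha' : ∀ n : ℤ, a'.IsFinite n)
    (f : SpSeqMor.AbutHom φ a a') (l a₀ : ℤ)
    (hE : ∀ i : ℤ, i < a₀ → IsZero ((E.page 2 le_rfl).X (i, l - i)))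
    (hE' : ∀ i : ℤ, a₀ < i → IsZero ((E'.page 2 le_rfl).X (i, l - i)))
    (hφ : (φ.hom 2 le_rfl).f (a₀, l - a₀) = 0) :
    f.hom l = 0 := by
  apply filLift_hom_eq_zero (f.fil l) a₀
  · apply fil_eq_top _ _ (ha l).1
    intro i hi
    have h1 := gr_isZero a (i, l - i) (hE i hi)
    have h : (i, l - i).1 + (i, l - i).2 = l := by show i + (l - i) = l; ring
    rw [h] at h1
    exact h1
  · apply fil_eq_bot _ _ (ha' l).2
    intro i hi
    have h1 := gr_isZero a' (i, l - i) (hE' i hi)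
    have h : (i, l - i).1 + (i, l - i).2 = l := by show i + (l - i) = l; ring
    rw [h] at h1
    exact h1
  · have h1 := gr_eq_zero φ a a' f (a₀, l - a₀) hφ
    have h : (a₀, l - a₀).1 + (a₀, l - a₀).2 = l := by show a₀ + (l - a₀) = l; ring
    rw [h] at h1
    exact h1

end Main

end Groth.Agent.H97.AbutZero
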