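import Mathlib

/-!
# Alternating polynomials in `x_i, y_i` and the alternants `Δ_p`
-/

set_option autoImplicit false
universe u

namespace Groth.Agent.H97.Alternants

open MvPolynomial Equiv

variable (k : Type u) [Field k] (n : ℕ)

/-- the action of a permutation on the polynomial ring -/
noncomputable def act (σ : Perm (Fin n)) :
    MvPolynomial (Fin n × Fin 2) k →ₐ[k] MvPolynomial (Fin n × Fin 2) k :=
  rename (fun v : Fin n × Fin 2 => (σ v.1, v.2))

variable {k n}

lemma act_mul (σ τ : Perm (Fin n)) (f : MvPolynomial (Fin n × Fin 2) k) :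
    act k n (σ * τ) f = act k n σ (act k n τ f) := by
  unfold act
  rw [rename_rename]
  rfl

/-- the monomial attached to an `n`-tuple of exponent pairs -/
noncomputable def mono (p : Fin n → ℕ × ℕ) : MvPolynomial (Fin n × Fin 2) k :=
  ∏ i, (X (i, 0) ^ (p i).1 * X (i, 1) ^ (p i).2)

lemma act_mono (σ : Perm (Fin n)) (p : Fin n → ℕ × ℕ) :
    act k n σ (mono p) = ∏ i, ((X (σ i, 0) : MvPolynomial (Fin n × Fin 2) k) ^ (p i).1 *
      X (σ i, 1) ^ (p i).2) := by
  unfold act mono
  simp only [map_prod, map_mul, map_pow, rename_X]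

lemma act_mono' (σ : Perm (Fin n)) (p : Fin n → ℕ × ℕ) :
    act k n σ (mono p) = mono (k := k) (p ∘ σ.symm) := by
  rw [act_mono]
  unfold mono
  refine Fintype.prod_equiv σ _ _ (fun i => ?_)
  simp

/-- antisymmetrization -/
noncomputable def alt :
    MvPolynomial (Fin n × Fin 2) k →ₗ[k] MvPolynomial (Fin n × Fin 2) k :=
  ∑ σ : Perm (Fin n), ((Perm.sign σ : ℤˣ) : ℤ) • (act k n σ).toLinearMap

lemma alt_apply (f : MvPolynomial (Fin n × Fin 2) k) :
    alt f = ∑ σ : Perm (Fin n), ((Perm.sign σ : ℤˣ) : ℤ) • act k n σ f := by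
  simp [alt]

lemma det_eq_alt (p : Fin n → ℕ × ℕ) :
    (Matrix.of fun i j : Fin n =>
      (X (i, 0) : MvPolynomial (Fin n × Fin 2) k) ^ (p j).1 * X (i, 1) ^ (p j).2).det =
      alt (mono p) := by
  rw [Matrix.det_apply, alt_apply]
  refine Finset.sum_congr rfl (fun σ _ => ?_)
  rw [act_mono, Units.smul_def]
  rfl

lemma act_alt (τ : Perm (Fin n)) (f : MvPolynomial (Fin n × Fin 2) k) :
    act k n τ (alt f) = ((Perm.sign τ : ℤˣ) : ℤ) • alt f := by
  rw [alt_apply, map_sum, Finset.smul_sum]
  refine Fintype.sum_equiv (Equiv.mulLeft τ) _ _ (fun σ => ?_)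
  rw [map_zsmul, ← act_mul, smul_smul]
  congr 1
  simp only [Equiv.coe_mulLeft, Perm.sign_mul, Units.val_mul]
  rw [← mul_assoc, ← Units.val_mul, ← sq, Int.units_sq, Units.val_one, one_mul]

lemma alt_of_alternating (f : MvPolynomial (Fin n × Fin 2) k)
    (hf : ∀ σ : Perm (Fin n), act k n σ f = ((Perm.sign σ : ℤˣ) : ℤ) • f) :
    alt f = (n.factorial : ℤ) • f := by
  rw [alt_apply]
  have : ∀ σ : Perm (Fin n), ((Perm.sign σ : ℤˣ) : ℤ) • act k n σ f = f := by
    intro σ
    rw [hf σ, smul_smul, ← Units.val_mul, ← sq, Int.units_sq, Units.val_one, one_smul]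
  rw [Finset.sum_congr rfl (fun σ _ => this σ), Finset.sum_const, Finset.card_univ,
    Fintype.card_perm, Fintype.card_fin]
  simp

/-- exponent vector of a tuple of pairs -/
noncomputable def E (p : Fin n → ℕ × ℕ) : (Fin n × Fin 2) →₀ ℕ :=
  Finsupp.equivFunOnFinite.symm (fun v => if v.2 = 0 then (p v.1).1 else (p v.1).2)

lemma E_injective : Function.Injective (E (n := n)) := by
  intro p q h
  funext i
  have h0 := DFunLike.congr_fun h (i, 0)
  have h1 := DFunLike.congr_fun h (i, 1)
  simp only [E, Finsupp.equivFunOnFinite_symm_apply_apply] at h0 h1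
  simp at h0 h1
  exact Prod.ext h0 h1

lemma mono_eq_monomial (p : Fin n → ℕ × ℕ) :
    mono (k := k) p = monomial (E p) 1 := by
  rw [monomial_eq, C_1, one_mul, Finsupp.prod_fintype _ _ (fun _ => pow_zero _),
    Fintype.prod_prod_type]
  unfold mono
  refine Finset.prod_congr rfl (fun i _ => ?_)
  rw [Fin.prod_univ_two]
  simp [E]

/-- the tuple of pairs attached to an exponent vector -/
def pairs (d : (Fin n × Fin 2) →₀ ℕ) : Fin n → ℕ × ℕ := fun i => (d (i, 0), d (i, 1))

lemma E_pairs (d : (Fin n × Fin 2) →₀ ℕ) : E (pairs d) = d := by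
  ext ⟨i, j⟩
  simp only [E, pairs, Finsupp.equivFunOnFinite_symm_apply_apply]
  fin_cases j <;> simp

theorem mem_span_iff [CharZero k] (f : MvPolynomial (Fin n × Fin 2) k) :
    (∀ σ : Perm (Fin n),
      rename (fun v : Fin n × Fin 2 => (σ v.1, v.2)) f = ((Perm.sign σ : ℤˣ) : ℤ) • f) ↔
    f ∈ Submodule.span k (Set.range fun p : Fin n → ℕ × ℕ =>
      (Matrix.of fun i j : Fin n =>
        (X (i, 0) : MvPolynomial (Fin n × Fin 2) k) ^ (p j).1 * X (i, 1) ^ (p j).2).det) := by
  constructor
  · intro hf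
    have h1 := alt_of_alternating f hf
    have hn : ((n.factorial : ℤ) : k) ≠ 0 := by
      exact_mod_cast Nat.factorial_ne_zero n
    have h2 : f = ((n.factorial : ℤ) : k)⁻¹ • alt f := by
      rw [h1, ← Int.cast_smul_eq_zsmul k, smul_smul, inv_mul_cancel₀ hn, one_smul]
    rw [h2]
    refine Submodule.smul_mem _ _ ?_
    have h3 : alt f = alt (∑ v ∈ f.support, monomial v (coeff v f)) := by
      rw [support_sum_monomial_coeff f]
    rw [h3, map_sum]
    refine Submodule.sum_mem _ (fun d _ => ?_)
    have : monomial d (coeff d f) = coeff d f • mono (k := k) (pairs d) := by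
      rw [mono_eq_monomial, E_pairs, smul_monomial, smul_eq_mul, mul_one]
    rw [this, map_smul]
    refine Submodule.smul_mem _ _ (Submodule.subset_span ⟨pairs d, ?_⟩)
    exact det_eq_alt _
  · intro hf σ
    induction hf using Submodule.span_induction with
    | mem x hx =>
      obtain ⟨p, rfl⟩ := hx
      change act k n σ _ = _
      dsimp only
      rw [det_eq_alt, act_alt]
    | zero => simp
    | add x y _ _ hx hy => rw [map_add, hx, hy, smul_add]
    | smul c x _ hx => rw [map_smul, hx, smul_comm]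

lemma coeff_mono (p q : Fin n → ℕ × ℕ) :
    coeff (E q) (mono (k := k) p) = if p = q then 1 else 0 := by
  rw [mono_eq_monomial, coeff_monomial]
  by_cases h : p = q
  · simp [h]
  · rw [if_neg h, if_neg (fun h' => h (E_injective h'))]

lemma perm_eq_one_of_strictMono {α : Type*} [LinearOrder α] (p : Fin n → α) (hp : StrictMono p)
    (τ : Perm (Fin n)) (h : StrictMono (p ∘ τ)) : τ = 1 := by
  have hτ : StrictMono τ := by
    intro i j hij
    by_contra hle
    rw [not_lt] at hle
    have := hp.monotone hle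
    exact absurd (h hij) (not_lt.mpr this)
  let e : Fin n ≃o Fin n := hτ.orderIsoOfSurjective τ τ.surjective
  have he : e = OrderIso.refl _ := Subsingleton.elim _ _
  ext i
  have := congrArg (fun (g : Fin n ≃o Fin n) => g i) he
  simpa [e] using congrArg Fin.val this

theorem linearIndependent_det :
    LinearIndependent k (fun p : {p : Fin n → ℕ ×ₗ ℕ // StrictMono p} =>
      (Matrix.of fun i j : Fin n =>
        (X (i, 0) : MvPolynomial (Fin n × Fin 2) k) ^ (ofLex (p.1 j)).1 *
          X (i, 1) ^ (ofLex (p.1 j)).2).det) := by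
  classical
  have key : ∀ p q : {p : Fin n → ℕ ×ₗ ℕ // StrictMono p},
      coeff (E (fun j => ofLex (q.1 j)))
        ((Matrix.of fun i j : Fin n =>
          (X (i, 0) : MvPolynomial (Fin n × Fin 2) k) ^ (ofLex (p.1 j)).1 *
            X (i, 1) ^ (ofLex (p.1 j)).2).det) = if p = q then 1 else 0 := by
    intro p q
    have hdet := det_eq_alt (k := k) (fun j => ofLex (p.1 j))
    rw [hdet, alt_apply, coeff_sum]
    have hterm : ∀ σ : Perm (Fin n),
        coeff (E (fun j => ofLex (q.1 j)))
          (((Perm.sign σ : ℤˣ) : ℤ) • act k n σ (mono (fun j => ofLex (p.1 j)))) =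
          if σ = 1 ∧ p = q then 1 else 0 := by
      intro σ
      rw [← Int.cast_smul_eq_zsmul k, coeff_smul, act_mono', coeff_mono]
      by_cases hσ : (fun j => ofLex (p.1 j)) ∘ σ.symm = fun j => ofLex (q.1 j)
      · have h1 : p.1 ∘ σ.symm = q.1 := by
          funext j
          have := congrFun hσ j
          exact ofLex.injective this
        have hσ1 : σ.symm = 1 := perm_eq_one_of_strictMono p.1 p.2 σ.symm (h1 ▸ q.2)
        have hσ2 : σ = 1 := by
          rw [← Equiv.symm_symm σ, hσ1]; rfl
        have hpq : p = q := by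
          apply Subtype.ext
          rw [← h1, hσ1]; rfl
        rw [if_pos hσ, if_pos ⟨hσ2, hpq⟩, hσ2]
        simp
      · rw [if_neg hσ, if_neg]
        · simp
        · rintro ⟨rfl, rfl⟩
          exact hσ rfl
    rw [Finset.sum_congr rfl (fun σ _ => hterm σ)]
    by_cases hpq : p = q
    · simp [hpq]
    · simp [hpq]
  rw [linearIndependent_iff']
  intro s c hc q hq
  have := congrArg (coeff (E (fun j => ofLex (q.1 j)))) hc
  rw [coeff_sum, coeff_zero] at this
  simp only [coeff_smul, key, smul_eq_mul, mul_ite, mul_one, mul_zero] at this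
  rw [Finset.sum_ite_eq' s q] at this
  simpa [hq] using this

end Groth.Agent.H97.Alternants
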