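import Mathlib

/-!
# Ideals with the Artinian lifting property are generated by an idempotent
-/

set_option autoImplicit false
universe u

namespace Groth.Agent.H97.ArtinLift

open IsLocalRing

section Quot

variable (R : Type u) [CommRing R] [IsNoetherianRing R] [IsLocalRing R] (n : ℕ)

theorem nontrivial_quot (hn : n ≠ 0) : Nontrivial (R ⧸ (maximalIdeal R) ^ n) := by
  refine Ideal.Quotient.nontrivial_iff.mpr fun h => ?_
  have : maximalIdeal R = ⊤ := top_le_iff.mp (h ▸ Ideal.pow_le_self hn)
  exact (maximalIdeal.isMaximal R).ne_top this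

theorem isLocalRing_quot (hn : n ≠ 0) : IsLocalRing (R ⧸ (maximalIdeal R) ^ n) :=
  haveI := nontrivial_quot R n hn
  IsLocalRing.of_surjective' (Ideal.Quotient.mk _) Ideal.Quotient.mk_surjective

theorem mk_mem_maximalIdeal (hn : n ≠ 0) (y : R) (hy : y ∈ maximalIdeal R) :
    haveI := isLocalRing_quot R n hn
    Ideal.Quotient.mk ((maximalIdeal R) ^ n) y ∈ maximalIdeal (R ⧸ (maximalIdeal R) ^ n) := by
  haveI := isLocalRing_quot R n hn
  haveI := IsLocalHom.of_surjective (Ideal.Quotient.mk ((maximalIdeal R) ^ n))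
    Ideal.Quotient.mk_surjective
  rw [mem_maximalIdeal, mem_nonunits_iff] at hy ⊢
  exact fun h => hy (isUnit_of_map_unit (Ideal.Quotient.mk ((maximalIdeal R) ^ n)) y h)

theorem isArtinianRing_quot (hn : n ≠ 0) : IsArtinianRing (R ⧸ (maximalIdeal R) ^ n) := by
  haveI := isLocalRing_quot R n hn
  rw [isArtinianRing_iff_isNilpotent_maximalIdeal]
  refine ⟨n, ?_⟩
  have h1 : maximalIdeal (R ⧸ (maximalIdeal R) ^ n) ≤
      (maximalIdeal R).map (Ideal.Quotient.mk ((maximalIdeal R) ^ n)) := by
    intro x hx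
    obtain ⟨y, rfl⟩ := Ideal.Quotient.mk_surjective x
    refine Ideal.mem_map_of_mem _ ?_
    rw [mem_maximalIdeal, mem_nonunits_iff] at hx ⊢
    exact fun h => hx (h.map _)
  rw [Ideal.zero_eq_bot, eq_bot_iff]
  refine (Ideal.pow_right_mono h1 n).trans ?_
  rw [← Ideal.map_pow, Ideal.map_quotient_self]

end Quot

variable {R : Type u} [CommRing R] [IsNoetherianRing R] (I : Ideal R)

theorem map_eq_bot_of_lifting
    (h : ∀ (A : Type u) [CommRing A] [IsArtinianRing A] [IsLocalRing A] (ψ : R →+* A),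
      (∀ x ∈ I, ψ x ∈ maximalIdeal A) → ∀ x ∈ I, ψ x = 0)
    (P : Ideal R) [P.IsPrime] (hP : I ≤ P) :
    I.map (algebraMap R (Localization.AtPrime P)) = ⊥ := by
  rw [eq_bot_iff, Ideal.map_le_iff_le_comap]
  intro x hx
  rw [Ideal.mem_comap, Ideal.mem_bot]
  have hkr := Ideal.iInf_pow_eq_bot_of_isLocalRing (maximalIdeal (Localization.AtPrime P))
    (maximalIdeal.isMaximal _).ne_top
  rw [← Ideal.mem_bot, ← hkr, Ideal.mem_iInf]
  intro n
  rcases eq_or_ne n 0 with rfl | hn
  · simp
  · haveI := isLocalRing_quot (Localization.AtPrime P) n hn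
    haveI := isArtinianRing_quot (Localization.AtPrime P) n hn
    have := h (Localization.AtPrime P ⧸ (maximalIdeal (Localization.AtPrime P)) ^ n)
      ((Ideal.Quotient.mk _).comp (algebraMap R (Localization.AtPrime P))) ?_ x hx
    · rwa [RingHom.comp_apply, Ideal.Quotient.eq_zero_iff_mem] at this
    · intro y hy
      rw [RingHom.comp_apply]
      refine mk_mem_maximalIdeal _ n hn _ ?_
      rw [← Localization.AtPrime.map_eq_maximalIdeal]
      exact Ideal.mem_map_of_mem _ (hP hy)

theorem exists_idem_of_lifting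
    (h : ∀ (A : Type u) [CommRing A] [IsArtinianRing A] [IsLocalRing A] (ψ : R →+* A),
      (∀ x ∈ I, ψ x ∈ maximalIdeal A) → ∀ x ∈ I, ψ x = 0) :
    ∃ e : R, IsIdempotentElem e ∧ I = Ideal.span {e} := by
  have hII : IsIdempotentElem I := by
    refine le_antisymm Ideal.mul_le_right ?_
    refine Ideal.le_of_localization_maximal fun P hP => ?_
    by_cases hIP : I ≤ P
    · rw [map_eq_bot_of_lifting I h P hIP]
      exact bot_le
    · obtain ⟨x, hxI, hxP⟩ := SetLike.not_le_iff_exists.mp hIP
      have hu : IsUnit (algebraMap R (Localization.AtPrime P) x) :=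
        IsLocalization.map_units (M := P.primeCompl) (Localization.AtPrime P) ⟨x, hxP⟩
      have htop : I.map (algebraMap R (Localization.AtPrime P)) = ⊤ :=
        Ideal.eq_top_of_isUnit_mem _ (Ideal.mem_map_of_mem _ hxI) hu
      rw [Ideal.map_mul, htop, Ideal.top_mul]
  exact (Ideal.isIdempotentElem_iff_of_fg I (IsNoetherian.noetherian I)).mp hII

end Groth.Agent.H97.ArtinLift
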