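import Mathlib
import Groth.Agent.H97.ArtinLift

/-!
# A closed immersion with the Artinian lifting property into a locally Noetherian scheme is open
-/

set_option autoImplicit false
universe u
open CategoryTheory CategoryTheory.Limits AlgebraicGeometry

namespace Groth.Agent.H97.ArtinLiftSch

theorem isOpenImmersion_of_lifting_affine (R : CommRingCat.{u}) [IsNoetherianRing R]
    {Z : Scheme.{u}} (i : Z ⟶ Spec R) [IsClosedImmersion i]
    (h : ∀ (A : Type u) [CommRing A] [IsArtinianRing A] [IsLocalRing A]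
      (g : Spec (CommRingCat.of A) ⟶ Spec R),
      (∃ t : Spec (CommRingCat.of (IsLocalRing.ResidueField A)) ⟶ Z,
          t ≫ i = Spec.map (CommRingCat.ofHom (IsLocalRing.residue A)) ≫ g) →
        ∃ g' : Spec (CommRingCat.of A) ⟶ Z, g' ≫ i = g) :
    IsOpenImmersion i := by
  obtain ⟨I, e, hi⟩ := IsClosedImmersion.Spec_iff.mp (inferInstance : IsClosedImmersion i)
  have key : ∃ e' : R, IsIdempotentElem e' ∧ I = Ideal.span {e'} := by
    apply Groth.Agent.H97.ArtinLift.exists_idem_of_lifting I
    intro A _ _ _ ψ hψ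
    let θ : R ⧸ I →+* IsLocalRing.ResidueField A :=
      Ideal.Quotient.lift I ((IsLocalRing.residue A).comp ψ) (fun x hx => by
        rw [RingHom.comp_apply, IsLocalRing.residue_eq_zero_iff]
        exact hψ x hx)
    have hθ : CommRingCat.ofHom (Ideal.Quotient.mk I) ≫ CommRingCat.ofHom θ =
        CommRingCat.ofHom ψ ≫ CommRingCat.ofHom (IsLocalRing.residue A) := by
      ext x
      simp [θ]
    obtain ⟨g', hg'⟩ := h A (Spec.map (CommRingCat.ofHom ψ))
      ⟨Spec.map (CommRingCat.ofHom θ) ≫ e.inv, by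
        rw [hi, Category.assoc, Iso.inv_hom_id_assoc, ← Spec.map_comp, hθ, Spec.map_comp]⟩
    have h2 : Spec.map (CommRingCat.ofHom (Ideal.Quotient.mk I) ≫ Spec.preimage (g' ≫ e.hom)) =
        Spec.map (CommRingCat.ofHom ψ) := by
      rw [Spec.map_comp, Spec.map_preimage, Category.assoc, ← hi, hg']
    have h3 := Spec.map_injective h2
    intro x hx
    have := congr($(h3).hom x)
    simp only [CommRingCat.hom_comp, CommRingCat.hom_ofHom, RingHom.comp_apply] at this
    rw [← this, Ideal.Quotient.eq_zero_iff_mem.mpr hx, map_zero]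
  have h1 : IsOpenImmersion (Spec.map (CommRingCat.ofHom (Ideal.Quotient.mk I))) := by
    rw [isOpenImmersion_SpecMap_iff_of_surjective _ Ideal.Quotient.mk_surjective]
    obtain ⟨e', he', hI⟩ := key
    exact ⟨e', he', by simpa using hI⟩
  rw [hi]
  infer_instance

theorem isOpenImmersion_of_lifting (S : Scheme.{u}) [IsLocallyNoetherian S]
    {Z : Scheme.{u}} (i : Z ⟶ S) [IsClosedImmersion i]
    (h : ∀ (A : Type u) [CommRing A] [IsArtinianRing A] [IsLocalRing A]
      (g : Spec (CommRingCat.of A) ⟶ S),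
      (∃ t : Spec (CommRingCat.of (IsLocalRing.ResidueField A)) ⟶ Z,
          t ≫ i = Spec.map (CommRingCat.ofHom (IsLocalRing.residue A)) ≫ g) →
        ∃ g' : Spec (CommRingCat.of A) ⟶ Z, g' ≫ i = g) :
    IsOpenImmersion i := by
  rw [IsZariskiLocalAtTarget.iff_of_openCover (P := @IsOpenImmersion) S.affineOpenCover.openCover]
  intro j
  have hN : IsLocallyNoetherian (Spec (S.affineOpenCover.X j)) :=
    isLocallyNoetherian_of_isOpenImmersion (S.affineOpenCover.f j)
  have hN' : IsNoetherianRing (S.affineOpenCover.X j) := isLocallyNoetherian_Spec.mp hN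
  have hcl : IsClosedImmersion (pullback.snd i (S.affineOpenCover.f j)) := inferInstance
  refine isOpenImmersion_of_lifting_affine (S.affineOpenCover.X j)
    (pullback.snd i (S.affineOpenCover.f j)) ?_
  intro A _ _ _ g ht
  obtain ⟨t, ht⟩ := ht
  obtain ⟨g'', hg''⟩ := h A (g ≫ S.affineOpenCover.f j) ⟨t ≫ pullback.fst _ _, by
    rw [Category.assoc, pullback.condition, reassoc_of% ht]⟩
  exact ⟨pullback.lift g'' g hg'', pullback.lift_snd _ _ _⟩

end Groth.Agent.H97.ArtinLiftSch
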