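import Mathlib

/-!
# Mutually inverse partial morphisms give an isomorphism of open subschemes
-/

namespace Groth.Agent.H97.BiratCore

universe u

open AlgebraicGeometry CategoryTheory

variable {X Y : Scheme.{u}}

/-- the source open -/
noncomputable def srcOpen (U W : X.Opens) (W' : Y.Opens) (φ : (U : Scheme.{u}) ⟶ Y) : X.Opens :=
  W ⊓ U.ι ''ᵁ (φ ⁻¹ᵁ W')

theorem srcOpen_le_left (U W : X.Opens) (W' : Y.Opens) (φ : (U : Scheme.{u}) ⟶ Y) :
    srcOpen U W W' φ ≤ W := inf_le_left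

theorem srcOpen_le_dom (U W : X.Opens) (W' : Y.Opens) (φ : (U : Scheme.{u}) ⟶ Y) :
    srcOpen U W W' φ ≤ U := inf_le_right.trans (U.ι_image_le _)

/-- points of the source open are mapped into `W'` -/
theorem map_mem (U W : X.Opens) (W' : Y.Opens) (φ : (U : Scheme.{u}) ⟶ Y)
    (a : (srcOpen U W W' φ : Scheme.{u})) :
    φ (X.homOfLE (srcOpen_le_dom U W W' φ) a) ∈ W' := by
  obtain ⟨u, hu, hua⟩ := a.2.2
  have : X.homOfLE (srcOpen_le_dom U W W' φ) a = u := by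
    apply Subtype.ext
    rw [Scheme.homOfLE_apply]
    exact hua.symm
  rw [this]
  exact hu

section core

variable (U W : X.Opens) (V W' : Y.Opens) (hWU : W ≤ U) (hWV : W' ≤ V)
  (φ : (U : Scheme.{u}) ⟶ Y) (ψ : (V : Scheme.{u}) ⟶ X)
  (d : (W : Scheme.{u}) ⟶ V) (hd1 : d ≫ V.ι = X.homOfLE hWU ≫ φ) (hd2 : d ≫ ψ = W.ι)
  (d' : (W' : Scheme.{u}) ⟶ U) (hd1' : d' ≫ U.ι = Y.homOfLE hWV ≫ ψ) (hd2' : d' ≫ φ = W'.ι)

include hd1 hd2 in
theorem range_sub :
    Set.range (X.homOfLE (srcOpen_le_dom U W W' φ) ≫ φ) ⊆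
      Set.range (srcOpen V W' W ψ).ι := by
  rintro _ ⟨a, rfl⟩
  rw [Scheme.Opens.range_ι]
  refine ⟨?_, ?_⟩
  · exact map_mem U W W' φ a
  · refine ⟨d (X.homOfLE (srcOpen_le_left U W W' φ) a), ?_, ?_⟩
    · show ψ (d (X.homOfLE (srcOpen_le_left U W W' φ) a)) ∈ W
      have := congr($(hd2) (X.homOfLE (srcOpen_le_left U W W' φ) a))
      simp only [Scheme.Hom.comp_apply] at this
      rw [this]
      exact (X.homOfLE (srcOpen_le_left U W W' φ) a).2
    · have h := congr($(hd1) (X.homOfLE (srcOpen_le_left U W W' φ) a))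
      simp only [Scheme.Hom.comp_apply] at h
      refine h.trans ?_
      simp only [Scheme.Hom.comp_apply]
      congr 1
      apply Subtype.ext
      simp only [Scheme.homOfLE_apply]

/-- the forward morphism -/
noncomputable def fwd : (srcOpen U W W' φ : Scheme.{u}) ⟶ (srcOpen V W' W ψ : Scheme.{u}) :=
  IsOpenImmersion.lift (srcOpen V W' W ψ).ι (X.homOfLE (srcOpen_le_dom U W W' φ) ≫ φ)
    (range_sub U W V W' hWU φ ψ d hd1 hd2)

theorem fwd_ι : fwd U W V W' hWU φ ψ d hd1 hd2 ≫ (srcOpen V W' W ψ).ι =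
    X.homOfLE (srcOpen_le_dom U W W' φ) ≫ φ :=
  IsOpenImmersion.lift_fac _ _ _

include hd1 hd2 in
theorem fwd_homOfLE : fwd U W V W' hWU φ ψ d hd1 hd2 ≫ Y.homOfLE (srcOpen_le_dom V W' W ψ) =
    X.homOfLE (srcOpen_le_left U W W' φ) ≫ d := by
  rw [← cancel_mono V.ι, Category.assoc, Scheme.homOfLE_ι, fwd_ι, Category.assoc, hd1,
    Scheme.homOfLE_homOfLE_assoc]

include hd1' hd2' in
theorem fwd_comp : fwd U W V W' hWU φ ψ d hd1 hd2 ≫ fwd V W' U W hWV ψ φ d' hd1' hd2' = 𝟙 _ := by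
  rw [← cancel_mono (srcOpen U W W' φ).ι, Category.assoc, fwd_ι, Category.id_comp,
    ← Category.assoc, fwd_homOfLE, Category.assoc, hd2, Scheme.homOfLE_ι]

/-- the isomorphism of open subschemes -/
noncomputable def coreIso :
    (srcOpen U W W' φ : Scheme.{u}) ≅ (srcOpen V W' W ψ : Scheme.{u}) where
  hom := fwd U W V W' hWU φ ψ d hd1 hd2
  inv := fwd V W' U W hWV ψ φ d' hd1' hd2'
  hom_inv_id := fwd_comp U W V W' hWU hWV φ ψ d hd1 hd2 d' hd1' hd2'
  inv_hom_id := fwd_comp V W' U W hWV hWU ψ φ d' hd1' hd2' d hd1 hd2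

end core

end Groth.Agent.H97.BiratCore
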