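import Mathlib
import Groth.Agent.H97.BiratCore

/-!
# Birational schemes and mutually inverse dominant rational maps
-/

namespace Groth.Agent.H97.BiratMain

universe u

open AlgebraicGeometry CategoryTheory Groth.Agent.H97.BiratCore

variable {X Y : Scheme.{u}}

theorem dense_srcOpen [PreirreducibleSpace X] [Nonempty Y] (U W : X.Opens) (W' : Y.Opens)
    (φ : (U : Scheme.{u}) ⟶ Y) [IsDominant φ]
    (hW : Dense (W : Set X)) (hW' : Dense (W' : Set Y)) :
    Dense (srcOpen U W W' φ : Set X) := by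
  have h1 : Dense ((U.ι ''ᵁ (φ ⁻¹ᵁ W') : X.Opens) : Set X) :=
    (U.ι ''ᵁ φ ⁻¹ᵁ W').2.dense <| by
      simpa [← Set.nonempty_preimage_iff] using
        φ.denseRange.inter_open_nonempty _ W'.2 hW'.nonempty
  exact hW.inter_of_isOpen_right h1 (U.ι ''ᵁ (φ ⁻¹ᵁ W')).2

set_option backward.isDefEq.respectTransparency false in
set_option backward.defeqAttrib.useBackward true in
/-- data extracted from `φ.comp ψ ~ id` -/
theorem exists_data [PreirreducibleSpace X] [Nonempty Y] (φ : X.PartialMap Y) [IsDominant φ.hom]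
    (ψ : Y.PartialMap X) (h : (φ.comp ψ).equiv (Scheme.PartialMap.id X)) :
    ∃ (W : X.Opens) (_ : Dense (W : Set X)) (hWU : W ≤ φ.domain)
      (d : (W : Scheme.{u}) ⟶ ψ.domain),
      d ≫ ψ.domain.ι = X.homOfLE hWU ≫ φ.hom ∧ d ≫ ψ.hom = W.ι := by
  obtain ⟨W, hW, hWl, hWr, e⟩ := h
  change W ≤ φ.domain.ι ''ᵁ φ.hom ⁻¹ᵁ ψ.domain at hWl
  refine ⟨W, hW, hWl.trans (φ.domain.ι_image_le _),
    X.homOfLE hWl ≫ (φ.domain.ι.isoImage (φ.hom ⁻¹ᵁ ψ.domain)).inv ≫ φ.hom ∣_ ψ.domain, ?_, ?_⟩
  · have key : (φ.domain.ι.isoImage (φ.hom ⁻¹ᵁ ψ.domain)).inv ≫ (φ.hom ⁻¹ᵁ ψ.domain).ι =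
        X.homOfLE (φ.domain.ι_image_le _) := Scheme.Opens.isoImage_ι_inv_ι _ _
    calc (X.homOfLE hWl ≫ (φ.domain.ι.isoImage (φ.hom ⁻¹ᵁ ψ.domain)).inv ≫
          φ.hom ∣_ ψ.domain) ≫ ψ.domain.ι
        = X.homOfLE hWl ≫ ((φ.domain.ι.isoImage (φ.hom ⁻¹ᵁ ψ.domain)).inv ≫
          (φ.hom ⁻¹ᵁ ψ.domain).ι) ≫ φ.hom := by
          simp only [Category.assoc, morphismRestrict_ι]
      _ = X.homOfLE (hWl.trans (φ.domain.ι_image_le _)) ≫ φ.hom := by
          rw [key, Scheme.homOfLE_homOfLE_assoc]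
  · simp only [Scheme.PartialMap.restrict_hom, Scheme.PartialMap.comp_hom,
      Scheme.Hom.toPartialMap_hom] at e
    simp only [Category.assoc]
    refine e.trans ?_
    simp

theorem backward [IsIntegral X] [IsIntegral Y] (f : X ⤏ Y) (g : Y ⤏ X) [f.IsDominant]
    [g.IsDominant] (h1 : f.comp g = Scheme.RationalMap.id X)
    (h2 : g.comp f = Scheme.RationalMap.id Y) : Scheme.Birational X Y := by
  have e1 : (f.representative.comp g.representative).equiv (Scheme.PartialMap.id X) := by
    rw [← Scheme.PartialMap.toRationalMap_eq_iff, ← Scheme.RationalMap.comp_def,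
      Scheme.RationalMap.toRationalMap_representative, h1]
  have e2 : (g.representative.comp f.representative).equiv (Scheme.PartialMap.id Y) := by
    rw [← Scheme.PartialMap.toRationalMap_eq_iff, ← Scheme.RationalMap.comp_def,
      Scheme.RationalMap.toRationalMap_representative, h2]
  obtain ⟨W, hW, hWU, d, hd1, hd2⟩ := exists_data _ _ e1
  obtain ⟨W', hW', hWV, d', hd1', hd2'⟩ := exists_data _ _ e2
  exact ⟨{
    source := srcOpen f.representative.domain W W' f.representative.hom
    dense_source := dense_srcOpen _ _ _ _ hW hW'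
    target := srcOpen g.representative.domain W' W g.representative.hom
    dense_target := dense_srcOpen _ _ _ _ hW' hW
    iso := coreIso _ _ _ _ hWU hWV _ _ d hd1 hd2 d' hd1' hd2' }⟩

instance isDominant_toPartialMap (e : X.PartialIso Y) : IsDominant e.toPartialMap.hom := by
  have := Opens.isDominant_ι e.dense_target
  show IsDominant (e.iso.hom ≫ e.target.ι)
  infer_instance

set_option backward.isDefEq.respectTransparency false in
set_option backward.defeqAttrib.useBackward true in
theorem forward_equiv [PreirreducibleSpace X] [Nonempty Y] (e : X.PartialIso Y) :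
    (e.toPartialMap.comp e.symm.toPartialMap).equiv (Scheme.PartialMap.id X) := by
  refine ⟨(e.toPartialMap.comp e.symm.toPartialMap).domain,
    (e.toPartialMap.comp e.symm.toPartialMap).dense_domain, le_rfl, le_top, ?_⟩
  simp only [Scheme.PartialMap.restrict_hom, Scheme.PartialMap.comp_hom,
    Scheme.Hom.toPartialMap_hom, Scheme.PartialIso.toPartialMap_hom,
    Scheme.PartialIso.toPartialMap_domain, Scheme.PartialIso.symm_iso, Iso.symm_hom,
    Scheme.PartialIso.symm_source, Scheme.PartialIso.symm_target]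
  have key1 : (e.iso.hom ≫ e.target.ι) ∣_ e.target ≫ e.iso.inv =
      ((e.iso.hom ≫ e.target.ι) ⁻¹ᵁ e.target).ι := by
    rw [← cancel_mono (e.iso.hom ≫ e.target.ι)]
    simp only [Category.assoc, Iso.inv_hom_id_assoc, morphismRestrict_ι]
  rw [reassoc_of% key1]
  simp

theorem forward [IsIntegral X] [IsIntegral Y] (e : X.PartialIso Y) :
    ∃ (f : X ⤏ Y) (g : Y ⤏ X) (_ : f.IsDominant) (_ : g.IsDominant),
      f.comp g = Scheme.RationalMap.id X ∧ g.comp f = Scheme.RationalMap.id Y := by
  refine ⟨e.toRationalMap, e.symm.toRationalMap, inferInstance, inferInstance, ?_, ?_⟩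
  · rw [Scheme.RationalMap.toRationalMap_comp, Scheme.PartialMap.toRationalMap_eq_iff]
    exact forward_equiv e
  · rw [Scheme.RationalMap.toRationalMap_comp, Scheme.PartialMap.toRationalMap_eq_iff]
    exact forward_equiv e.symm

theorem main (X Y : Scheme.{u}) [IsIntegral X] [IsIntegral Y] :
    Scheme.Birational X Y ↔
      ∃ (f : X ⤏ Y) (g : Y ⤏ X) (_ : f.IsDominant) (_ : g.IsDominant),
        f.comp g = Scheme.RationalMap.id X ∧ g.comp f = Scheme.RationalMap.id Y := by
  constructor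
  · rintro ⟨e⟩
    exact forward e
  · rintro ⟨f, g, hf, hg, h1, h2⟩
    exact backward f g h1 h2

end Groth.Agent.H97.BiratMain
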