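import Mathlib
import Groth.Prelude.Def_CohB1
import Groth.Agent.Lead.Coh.ProjSpaceCover

/-!
# A Sylvester-type family of pairwise coprime binary forms of equal degree

Over any commutative ring `R` we construct, for every `n`, binary forms `G n k` (`k ≤ n`) in
`R[x, y]`, all homogeneous of degree `2 ^ n`, such that no prime ideal contains two of them
without containing both `x` and `y`.  The last one is `y ^ (2 ^ n)`.
-/

set_option autoImplicit false
universe u
open MvPolynomial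

namespace Groth.Agent.H97.Sylv

variable (R : Type u) [CommRing R]

/-- `Q 0 = x`, `Q (k+1) = Q k * (y ^ (2 ^ k) + Q k)` -/
noncomputable def Q : ℕ → MvPolynomial (Fin 2) R
  | 0 => X 0
  | (k + 1) => Q k * (X 1 ^ (2 ^ k) + Q k)

/-- the `k`-th form `y ^ (2 ^ k) + Q k` -/
noncomputable def Gam (k : ℕ) : MvPolynomial (Fin 2) R := X 1 ^ (2 ^ k) + Q R k

theorem Q_succ (k : ℕ) : Q R (k + 1) = Q R k * Gam R k := rfl

theorem Q_isHomogeneous (k : ℕ) : (Q R k).IsHomogeneous (2 ^ k) := by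
  induction k with
  | zero =>
    rw [pow_zero]
    exact isHomogeneous_X R (0 : Fin 2)
  | succ k ih =>
    have h1 : (X 1 ^ (2 ^ k) + Q R k : MvPolynomial (Fin 2) R).IsHomogeneous (2 ^ k) := by
      refine IsHomogeneous.add ?_ ih
      simpa using (isHomogeneous_X R (1 : Fin 2)).pow (2 ^ k)
    have := ih.mul h1
    rw [← two_mul, ← pow_succ'] at this
    exact this

theorem Gam_isHomogeneous (k : ℕ) : (Gam R k).IsHomogeneous (2 ^ k) := by
  refine IsHomogeneous.add ?_ (Q_isHomogeneous R k)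
  simpa using (isHomogeneous_X R (1 : Fin 2)).pow (2 ^ k)

theorem Gam_dvd_Q {j k : ℕ} (h : j < k) : Gam R j ∣ Q R k := by
  induction k with
  | zero => exact absurd h (Nat.not_lt_zero _)
  | succ k ih =>
    rw [Q_succ]
    rcases Nat.lt_succ_iff_lt_or_eq.mp h with h' | rfl
    · exact Dvd.dvd.mul_right (ih h') _
    · exact Dvd.intro_left _ rfl

variable {R}

theorem Q_sub_mem (I : Ideal (MvPolynomial (Fin 2) R)) (hy : (X 1 : MvPolynomial (Fin 2) R) ∈ I)
    (k : ℕ) : Q R k - X 0 ^ (2 ^ k) ∈ I := by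
  induction k with
  | zero => simp [Q]
  | succ k ih =>
    have hya : (X 1 : MvPolynomial (Fin 2) R) ^ (2 ^ k) ∈ I :=
      Ideal.pow_mem_of_mem I hy _ (Nat.pos_of_ne_zero (by positivity))
    have e : Q R (k + 1) - X 0 ^ (2 ^ (k + 1)) =
        Q R k * X 1 ^ (2 ^ k) + (Q R k - X 0 ^ (2 ^ k)) * (Q R k + X 0 ^ (2 ^ k)) := by
      rw [Q_succ, Gam, pow_succ, pow_mul]
      ring
    rw [e]
    exact I.add_mem (I.mul_mem_left _ hya) (I.mul_mem_right _ ih)

theorem x_mem_of_y_Gam (I : Ideal (MvPolynomial (Fin 2) R)) [I.IsPrime]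
    (hy : (X 1 : MvPolynomial (Fin 2) R) ∈ I) {j : ℕ} (hj : Gam R j ∈ I) :
    (X 0 : MvPolynomial (Fin 2) R) ∈ I := by
  have hya : (X 1 : MvPolynomial (Fin 2) R) ^ (2 ^ j) ∈ I :=
    Ideal.pow_mem_of_mem I hy _ (Nat.pos_of_ne_zero (by positivity))
  have hQ : Q R j ∈ I := by
    have : Q R j = Gam R j - X 1 ^ (2 ^ j) := by rw [Gam]; ring
    rw [this]
    exact I.sub_mem hj hya
  have hx : (X 0 : MvPolynomial (Fin 2) R) ^ (2 ^ j) ∈ I := by
    have := I.sub_mem hQ (Q_sub_mem I hy j)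
    rwa [sub_sub_cancel] at this
  exact Ideal.IsPrime.mem_of_pow_mem inferInstance _ hx

theorem y_mem_of_Gam_Gam (I : Ideal (MvPolynomial (Fin 2) R)) [I.IsPrime] {j k : ℕ} (h : j < k)
    (hj : Gam R j ∈ I) (hk : Gam R k ∈ I) : (X 1 : MvPolynomial (Fin 2) R) ∈ I := by
  have hQ : Q R k ∈ I := Ideal.mem_of_dvd I (Gam_dvd_Q R h) hj
  have hya : (X 1 : MvPolynomial (Fin 2) R) ^ (2 ^ k) ∈ I := by
    have : (X 1 : MvPolynomial (Fin 2) R) ^ (2 ^ k) = Gam R k - Q R k := by rw [Gam]; ring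
    rw [this]
    exact I.sub_mem hk hQ
  exact Ideal.IsPrime.mem_of_pow_mem inferInstance _ hya

variable (R)

/-- the family of `n + 1` forms of degree `2 ^ n` -/
noncomputable def G (n : ℕ) (k : Fin (n + 1)) : MvPolynomial (Fin 2) R :=
  if (k : ℕ) < n then Gam R k ^ (2 ^ (n - k)) else X 1 ^ (2 ^ n)

theorem G_last (n : ℕ) : G R n (Fin.last n) = X 1 ^ (2 ^ n) := by
  simp [G]

theorem G_mem (n : ℕ) (k : Fin (n + 1)) : G R n k ∈ CohB1.polyGrading 1 R (2 ^ n) := by
  rw [mem_homogeneousSubmodule]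
  unfold G
  split_ifs with h
  · have := (Gam_isHomogeneous R k).pow (2 ^ (n - k))
    rwa [← pow_add, Nat.add_sub_cancel' h.le] at this
  · simpa using (isHomogeneous_X R (1 : Fin 2)).pow (2 ^ n)

variable {R}

theorem xy_mem_of_G_G (n : ℕ) {j k : Fin (n + 1)} (hjk : j ≠ k)
    (I : Ideal (MvPolynomial (Fin 2) R)) [I.IsPrime]
    (hj : G R n j ∈ I) (hk : G R n k ∈ I) :
    (X 0 : MvPolynomial (Fin 2) R) ∈ I ∧ (X 1 : MvPolynomial (Fin 2) R) ∈ I := by
  have key : ∀ (a b : Fin (n + 1)), (a : ℕ) < b → G R n a ∈ I → G R n b ∈ I →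
      (X 0 : MvPolynomial (Fin 2) R) ∈ I ∧ (X 1 : MvPolynomial (Fin 2) R) ∈ I := by
    intro a b hab ha hb
    have han : (a : ℕ) < n := lt_of_lt_of_le hab (Nat.lt_succ_iff.mp b.2)
    have hGa : Gam R a ∈ I := by
      unfold G at ha
      rw [if_pos han] at ha
      exact Ideal.IsPrime.mem_of_pow_mem inferInstance _ ha
    have hy : (X 1 : MvPolynomial (Fin 2) R) ∈ I := by
      unfold G at hb
      split_ifs at hb with hbn
      · exact y_mem_of_Gam_Gam I hab hGa (Ideal.IsPrime.mem_of_pow_mem inferInstance _ hb)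
      · exact Ideal.IsPrime.mem_of_pow_mem inferInstance _ hb
    exact ⟨x_mem_of_y_Gam I hy hGa, hy⟩
  rcases lt_or_gt_of_ne (fun h => hjk (Fin.ext h)) with h | h
  · exact key j k h hj hk
  · exact key k j h hk hj

/-- no point of the projective line lies on two of the forms -/
theorem not_mem_of_mem (n : ℕ) {j k : Fin (n + 1)} (hjk : j ≠ k)
    (x : ProjectiveSpectrum (CohB1.polyGrading 1 R))
    (hj : G R n j ∈ x.asHomogeneousIdeal) : G R n k ∉ x.asHomogeneousIdeal := by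
  intro hk
  have : x.asHomogeneousIdeal.toIdeal.IsPrime := x.isPrime
  obtain ⟨h0, h1⟩ := xy_mem_of_G_G n hjk x.asHomogeneousIdeal.toIdeal hj hk
  refine x.not_irrelevant_le ?_
  change (HomogeneousIdeal.irrelevant (CohB1.polyGrading 1 R)).toIdeal ≤
    x.asHomogeneousIdeal.toIdeal
  refine (Groth.Agent.Lead.Coh.irrelevant_le_span_X 1 R).trans ?_
  rw [Ideal.span_le]
  rintro _ ⟨l, rfl⟩
  fin_cases l
  · exact h0
  · exact h1

end Groth.Agent.H97.Sylv
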