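import Mathlib
import Groth.Agent.H18.PUP.Map
import Groth.Agent.H97.PFrac

/-!
# Gluing a morphism to `Proj` from chart data

Given an open cover `W i` of a scheme `X`, homogeneous elements `b i` of a common positive degree,
and ring homomorphisms `F i : S →+* Γ(X, W i)` inverting `b i`, which on overlaps differ by a unit
to the power of the degree, we get a morphism `X ⟶ Proj 𝒮` (built from helper18's `localMap`),
together with the description of the preimages of the charts `D₊(b i')`.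
-/

set_option autoImplicit false
universe u

open AlgebraicGeometry CategoryTheory CategoryTheory.Limits HomogeneousLocalization
  TopologicalSpace Opposite

namespace Groth.Agent.H97.ToPn

open Groth.Agent.H18.PUP

variable {A S : Type u} [CommRing A] [CommRing S] [Algebra A S]
variable (𝒮 : ℕ → Submodule A S) [GradedAlgebra 𝒮]
variable {X : Scheme.{u}} (q : X ⟶ Spec (CommRingCat.of A))
variable {I : Type*} (W : I → X.Opens) (b : I → S) {d : ℕ} (hd : 0 < d) (hb : ∀ i, b i ∈ 𝒮 d)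
  (F : ∀ i, S →+* Γ(X, W i)) (hF : ∀ i, IsUnit (F i (b i)))

include hd hb hF in
theorem exists_glue (hcov : IsOpenCover W)
    (hcompat : ∀ i i', ∃ u : Γ(X, W i ⊓ W i'), ∀ (k : ℕ) (a : S), a ∈ 𝒮 k →
      X.presheaf.map (homOfLE (inf_le_right : W i ⊓ W i' ≤ W i')).op (F i' a) =
        u ^ k * X.presheaf.map (homOfLE (inf_le_left : W i ⊓ W i' ≤ W i)).op (F i a)) :
    ∃ r : X ⟶ Proj 𝒮, ∀ i, (W i).ι ≫ r = localMap 𝒮 (W i) (hb i) hd (F i) (hF i) := by
  obtain ⟨r, hr, -⟩ := existsUnique_glue_opens W hcov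
    (fun i => localMap 𝒮 (W i) (hb i) hd (F i) (hF i)) (by
      intro i i'
      obtain ⟨u, hu⟩ := hcompat i i'
      rw [homOfLE_localMap, homOfLE_localMap]
      unfold localMap
      congr 1
      exact SpecMap_awayLift_awayι_eq 𝒮 (hb _) hd (hb _) hd _ _ _ _ u
        (fun k a ha => hu k a ha))
  exact ⟨r, hr⟩

include hd hb hF in
theorem glue_comp_toSpecZero (hcov : IsOpenCover W)
    (hFA : ∀ i (a : A), F i (algebraMap A S a) =
      X.presheaf.map (homOfLE (le_top : W i ≤ ⊤)).op (ProjUP.toGlobal q a))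
    (r : X ⟶ Proj 𝒮) (hr : ∀ i, (W i).ι ≫ r = localMap 𝒮 (W i) (hb i) hd (F i) (hF i)) :
    r ≫ Proj.toSpecZero 𝒮 ≫ Spec.map (CommRingCat.ofHom (algebraMap A (𝒮 0))) = q := by
  obtain ⟨π, -, huniq⟩ := existsUnique_glue_opens W hcov
    (fun i => (W i).ι ≫ q) (by
      intro i i'
      rw [Scheme.homOfLE_ι_assoc, Scheme.homOfLE_ι_assoc])
  rw [huniq (r ≫ Proj.toSpecZero 𝒮 ≫ Spec.map (CommRingCat.ofHom (algebraMap A (𝒮 0))))
    (fun i => ?_), ← huniq q (fun i => rfl)]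
  rw [← Category.assoc, hr i]
  exact localMap_comp_toSpecZero 𝒮 (W i) (hb _) hd (F i) (hF i) q (hFA i)

/-- the part of `W i` mapping into the chart `D₊(b i')` is the non-vanishing locus of
`F i (b i')` -/
theorem inf_preimage_eq_basicOpen
    (r : X ⟶ Proj 𝒮) (hr : ∀ i, (W i).ι ≫ r = localMap 𝒮 (W i) (hb i) hd (F i) (hF i))
    (i i' : I) :
    W i ⊓ r ⁻¹ᵁ Proj.basicOpen 𝒮 (b i') = X.basicOpen (F i (b i')) := by
  have hle := le_preimage_basicOpen 𝒮 (W i) (hb i) hd (F i) (hF i) r (hr i)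
  have hbi' : b i' ∈ 𝒮 (1 • d) := by rw [one_smul]; exact hb i'
  have h1 := appLE_awayToSection 𝒮 (W i) (hb i) hd (F i) (hF i) r (hr i)
    (Away.mk 𝒮 (hb i) 1 (b i') hbi')
  have h2 := awayLift_mk_mul 𝒮 (hb i) (F i) (hF i) 1 (b i') hbi'
  have h3 := Scheme.basicOpen_appLE r (W i) (Proj.basicOpen 𝒮 (b i)) hle
    ((Proj.awayToSection 𝒮 (b i)).hom (Away.mk 𝒮 (hb i) 1 (b i') hbi'))
  rw [Groth.Agent.H97.PFrac.basicOpen_awayToSection 𝒮 (hb i) 1 (b i') hbi',
    Proj.basicOpen_mul] at h3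
  have h4 : X.basicOpen (F i (b i')) =
      X.basicOpen (awayLift 𝒮 (b i) (F i) (hF i) (Away.mk 𝒮 (hb i) 1 (b i') hbi')) := by
    rw [← h2, Scheme.basicOpen_mul, pow_one, X.basicOpen_of_isUnit (hF i)]
    exact (inf_eq_left.mpr (X.basicOpen_le _))
  rw [h4, ← h1]
  refine Eq.trans ?_ h3.symm
  change W i ⊓ r ⁻¹ᵁ Proj.basicOpen 𝒮 (b i') =
    W i ⊓ (r ⁻¹ᵁ Proj.basicOpen 𝒮 (b i) ⊓ r ⁻¹ᵁ Proj.basicOpen 𝒮 (b i'))
  rw [← inf_assoc, inf_eq_left.mpr hle]

end Groth.Agent.H97.ToPn
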