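import Mathlib

/-!
# Stability of morphism properties under finite fibre powers

If `P` is a morphism property stable under base change and composition and containing the
identities, then the structure map of the `n`-fold fibre power of a morphism with `P` has `P`.
-/

set_option autoImplicit false
universe v u

open CategoryTheory CategoryTheory.Limits

namespace Groth.Agent.H97.WPP

variable {C : Type u} [Category.{v} C] [HasFiniteWidePullbacks C]

section
variable {X S : C} (f : X ⟶ S)

/-- the fibre power over the empty family is the base -/
theorem isIso_base_zero : IsIso (WidePullback.base (fun _ : Fin 0 => f)) := by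
  refine ⟨WidePullback.lift (𝟙 S) (fun i => Fin.elim0 i) (fun i => Fin.elim0 i), ?_, ?_⟩
  · apply WidePullback.hom_ext
    · intro i
      exact Fin.elim0 i
    · rw [Category.assoc, WidePullback.lift_base, Category.comp_id, Category.id_comp]
  · exact WidePullback.lift_base _ _ _ _

variable (n : ℕ)

/-- forgetting the last factor -/
noncomputable def forgetLast :
    widePullback S (fun _ : Fin (n + 1) => X) (fun _ => f) ⟶
      widePullback S (fun _ : Fin n => X) (fun _ => f) :=
  WidePullback.lift (WidePullback.base _) (fun i => WidePullback.π _ (Fin.castSucc i))
    (fun i => WidePullback.π_arrow _ _)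

@[reassoc]
theorem forgetLast_π (i : Fin n) :
    forgetLast f n ≫ WidePullback.π _ i = WidePullback.π _ (Fin.castSucc i) :=
  WidePullback.lift_π _ _ _ _ _

@[reassoc]
theorem forgetLast_base :
    forgetLast f n ≫ WidePullback.base _ = WidePullback.base _ :=
  WidePullback.lift_base _ _ _ _

theorem isPullback_forgetLast :
    IsPullback (WidePullback.π (fun _ : Fin (n + 1) => f) (Fin.last n)) (forgetLast f n)
      f (WidePullback.base (fun _ : Fin n => f)) := by
  have w : WidePullback.π (fun _ : Fin (n + 1) => f) (Fin.last n) ≫ f =
      forgetLast f n ≫ WidePullback.base (fun _ : Fin n => f) := by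
    rw [forgetLast_base, WidePullback.π_arrow]
  refine IsPullback.of_isLimit (c := PullbackCone.mk _ _ w)
    (PullbackCone.IsLimit.mk w
      (fun s => WidePullback.lift (s.snd ≫ WidePullback.base _)
        (Fin.lastCases s.fst (fun i => s.snd ≫ WidePullback.π _ i))
        (fun i => ?_))
      (fun s => ?_) (fun s => ?_) (fun s m h1 h2 => ?_))
  · refine Fin.lastCases ?_ (fun j => ?_) i
    · rw [Fin.lastCases_last, s.condition]
    · rw [Fin.lastCases_castSucc, Category.assoc, WidePullback.π_arrow]
  · rw [WidePullback.lift_π, Fin.lastCases_last]
  · apply WidePullback.hom_ext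
    · intro i
      rw [Category.assoc, forgetLast_π, WidePullback.lift_π, Fin.lastCases_castSucc]
    · rw [Category.assoc, forgetLast_base, WidePullback.lift_base]
  · apply WidePullback.hom_ext
    · intro i
      rw [WidePullback.lift_π]
      refine Fin.lastCases ?_ (fun j => ?_) i
      · rw [Fin.lastCases_last, h1]
      · rw [Fin.lastCases_castSucc, ← h2, Category.assoc, forgetLast_π]
    · rw [WidePullback.lift_base, ← h2, Category.assoc, forgetLast_base]

end

theorem base_of_property (P : MorphismProperty C) [P.IsStableUnderBaseChange]
    [P.IsMultiplicative] [P.RespectsIso] {X S : C} (f : X ⟶ S) (hf : P f) (n : ℕ) :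
    P (WidePullback.base (fun _ : Fin n => f)) := by
  induction n with
  | zero =>
    haveI := isIso_base_zero f
    exact P.of_isIso _
  | succ n ih =>
    rw [← forgetLast_base f n]
    exact P.comp_mem _ _ (P.of_isPullback (isPullback_forgetLast f n) hf) ih

end Groth.Agent.H97.WPP
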