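import Mathlib
import Groth.Prelude.Def_CohB1
import Groth.Prelude.Def_SymProd
import Groth.Agent.H68.FibPowAffine
import Groth.Agent.H97.SylvForms
import Groth.Agent.H97.PFrac
import Groth.Agent.H97.ToPn
import Groth.Agent.H97.WPProper
import Groth.Agent.H97.ProjProper
import Groth.Agent.Lead.Coh.ProjSpaceCover

/-!
# A finite morphism `(P^1_R)^n ⟶ P^n_R`

For the Sylvester-type family `G k` (`k ≤ n`) of binary forms of degree `2 ^ n`, the morphism
`((x_i : y_i))_i ↦ (∏ᵢ G_0(x_i, y_i) : ⋯ : ∏ᵢ G_n(x_i, y_i))` from the `n`-fold fibre power of the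
projective line to projective `n`-space is well defined, and the preimage of the `k`-th standard
chart is the box `∏ᵢ D₊(G_k)`, an affine open.  Hence the morphism is affine, and being proper it
is finite.
-/

set_option autoImplicit false
universe u

open AlgebraicGeometry CategoryTheory CategoryTheory.Limits HomogeneousLocalization
  TopologicalSpace Opposite

namespace Groth.Agent.H97.BoxMap

open Groth.Agent.H68.FPA Groth.Agent.H97.Sylv Groth.Agent.H97.PFrac Groth.Agent.H18.PUP

section algebra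

variable {σ : Type*} {R B : Type*} [CommRing R] [CommRing B]

theorem eval₂Hom_scale (c : R →+* B) (x : σ → B) (u : B) {m : ℕ} {a : MvPolynomial σ R}
    (ha : a.IsHomogeneous m) :
    MvPolynomial.eval₂Hom c (fun j => u * x j) a = u ^ m * MvPolynomial.eval₂Hom c x a := by
  rw [MvPolynomial.coe_eval₂Hom, MvPolynomial.coe_eval₂Hom, MvPolynomial.eval₂_eq,
    MvPolynomial.eval₂_eq, Finset.mul_sum]
  refine Finset.sum_congr rfl fun d hd => ?_
  rw [ha.degree_eq_sum_deg_support hd]
  simp_rw [mul_pow]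
  rw [Finset.prod_mul_distrib, Finset.prod_pow_eq_pow_sum]
  ring

end algebra

variable (R : Type u) [CommRing R] (n : ℕ)

/-- the structure map of the projective line -/
noncomputable abbrev pr : CohB1.ProjSpace 1 R ⟶ Spec (CommRingCat.of R) :=
  CohB1.ProjSpace.toSpec 1 R

/-- the `n`-fold fibre power of the projective line -/
noncomputable abbrev Y : Scheme.{u} := SymProd.fibPow (pr R) n

/-- the structure map of the fibre power -/
noncomputable abbrev qY : Y R n ⟶ Spec (CommRingCat.of R) :=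
  WidePullback.base (fun _ : Fin n => pr R)

/-- the `i`-th projection -/
noncomputable abbrev pi (i : Fin n) : Y R n ⟶ CohB1.ProjSpace 1 R :=
  WidePullback.π (fun _ : Fin n => pr R) i

theorem two_pow_pos : 0 < 2 ^ n := Nat.pos_of_ne_zero (by positivity)

/-- the affine chart `D₊(G k)` of the projective line -/
noncomputable def V (k : Fin (n + 1)) : (CohB1.ProjSpace 1 R).Opens :=
  Proj.basicOpen (CohB1.polyGrading 1 R) (G R n k)

theorem isAffineOpen_V (k : Fin (n + 1)) : IsAffineOpen (V R n k) :=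
  Proj.isAffineOpen_basicOpen (CohB1.polyGrading 1 R) (G R n k) (G_mem R n k) (two_pow_pos n)

/-- the box `∏ᵢ D₊(G k)` -/
noncomputable def box (k : Fin (n + 1)) : (Y R n).Opens := boxOpen (pr R) n ⊤ (V R n k)

theorem isAffineOpen_box (k : Fin (n + 1)) : IsAffineOpen (box R n k) :=
  isAffineOpen_boxOpen ⊤ (V R n k) le_top (isAffineOpen_top _) (isAffineOpen_V R n k)

theorem mem_box (k : Fin (n + 1)) (y : Y R n) :
    y ∈ box R n k ↔ ∀ i : Fin n, (pi R n i).base y ∈ V R n k := by
  unfold box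
  rw [mem_boxOpen]
  exact ⟨fun h => h.2, fun h => ⟨trivial, h⟩⟩

theorem isOpenCover_box : IsOpenCover (box R n) := by
  rw [IsOpenCover, eq_top_iff]
  intro y _
  rw [Opens.mem_iSup]
  by_contra hcon
  push Not at hcon
  have h1 : ∀ k : Fin (n + 1), ∃ i : Fin n, (pi R n i).base y ∉ V R n k := by
    intro k
    have := hcon k
    rw [mem_box] at this
    push Not at this
    exact this
  choose c hc using h1
  have hinj : Function.Injective c := by
    intro k k' hkk'
    by_contra hne
    have h2 := hc k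
    have h3 := hc k'
    rw [← hkk'] at h3
    have h2' : G R n k ∈
        ((pi R n (c k)).base y : ProjectiveSpectrum (CohB1.polyGrading 1 R)).asHomogeneousIdeal :=
      not_not.mp h2
    have h3' : G R n k' ∈
        ((pi R n (c k)).base y : ProjectiveSpectrum (CohB1.polyGrading 1 R)).asHomogeneousIdeal :=
      not_not.mp h3
    exact not_mem_of_mem n hne _ h2' h3'
  have := Fintype.card_le_of_injective c hinj
  simp at this

/-- the fraction `G j / G k` on `D₊(G k)` -/
noncomputable def e (j k : Fin (n + 1)) : Γ(CohB1.ProjSpace 1 R, V R n k) :=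
  frac (CohB1.polyGrading 1 R) (G_mem R n j) (G_mem R n k) (V R n k) (fun _ hx => hx)

theorem e_self (k : Fin (n + 1)) : e R n k k = 1 := frac_self _ _ _ _

/-- the function `∏ᵢ (G j / G k)(x_i, y_i)` on the `k`-th box -/
noncomputable def Fn (j k : Fin (n + 1)) : Γ(Y R n, box R n k) :=
  ∏ i : Fin n, ((pi R n i).appLE (V R n k) (box R n k) (boxOpen_le_π ⊤ (V R n k) i)).hom (e R n j k)

theorem Fn_self (k : Fin (n + 1)) : Fn R n k k = 1 := by
  unfold Fn
  simp_rw [e_self, map_one]
  exact Finset.prod_const_one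

theorem res_Fn (j k : Fin (n + 1)) (B : (Y R n).Opens) (hB : B ≤ box R n k)
    (V' : (CohB1.ProjSpace 1 R).Opens) (hV' : V' ≤ V R n k)
    (hBV : ∀ i, B ≤ (pi R n i) ⁻¹ᵁ V') :
    (Y R n).presheaf.map (homOfLE hB).op (Fn R n j k) =
      ∏ i : Fin n, ((pi R n i).appLE V' B (hBV i)).hom
        ((CohB1.ProjSpace 1 R).presheaf.map (homOfLE hV').op (e R n j k)) := by
  unfold Fn
  rw [map_prod]
  refine Finset.prod_congr rfl fun i _ => ?_
  have h1 := ConcreteCategory.congr_hom
    ((pi R n i).appLE_map (boxOpen_le_π ⊤ (V R n k) i) (homOfLE hB).op) (e R n j k)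
  have h2 := ConcreteCategory.congr_hom
    ((pi R n i).map_appLE (hBV i) (homOfLE hV').op) (e R n j k)
  exact h1.trans h2.symm

/-- the cocycle identity on the overlap of two boxes -/
theorem res_Fn_mul (j k k' : Fin (n + 1)) :
    (Y R n).presheaf.map (homOfLE (inf_le_right : box R n k ⊓ box R n k' ≤ box R n k')).op
        (Fn R n j k') =
      (Y R n).presheaf.map (homOfLE (inf_le_right : box R n k ⊓ box R n k' ≤ box R n k')).op
        (Fn R n k k') *
      (Y R n).presheaf.map (homOfLE (inf_le_left : box R n k ⊓ box R n k' ≤ box R n k)).op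
        (Fn R n j k) := by
  have hBV : ∀ i, box R n k ⊓ box R n k' ≤ (pi R n i) ⁻¹ᵁ (V R n k ⊓ V R n k') := fun i y hy =>
    ⟨boxOpen_le_π ⊤ (V R n k) i hy.1, boxOpen_le_π ⊤ (V R n k') i hy.2⟩
  rw [res_Fn R n j k' _ inf_le_right (V R n k ⊓ V R n k') inf_le_right hBV,
    res_Fn R n k k' _ inf_le_right (V R n k ⊓ V R n k') inf_le_right hBV,
    res_Fn R n j k _ inf_le_left (V R n k ⊓ V R n k') inf_le_left hBV,
    ← Finset.prod_mul_distrib]
  refine Finset.prod_congr rfl fun i _ => ?_
  rw [← map_mul]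
  congr 1
  exact frac_res_mul (CohB1.polyGrading 1 R) (G_mem R n j) (G_mem R n k) (G_mem R n k')
    (V R n k) (V R n k') (V R n k ⊓ V R n k') (fun _ hx => hx) (fun _ hx => hx)
    inf_le_right inf_le_left

/-- the structure homomorphism `R → Γ(Y, B)` -/
noncomputable def cst (B : (Y R n).Opens) : R →+* Γ(Y R n, B) :=
  ((Y R n).presheaf.map (homOfLE (le_top : B ≤ ⊤)).op).hom.comp (ProjUP.toGlobal (qY R n))

theorem res_cst {B B' : (Y R n).Opens} (h : B' ≤ B) :
    ((Y R n).presheaf.map (homOfLE h).op).hom.comp (cst R n B) = cst R n B' := by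
  unfold cst
  rw [← RingHom.comp_assoc, ← CommRingCat.hom_comp, ← Functor.map_comp]
  rfl

/-- the chart homomorphism `z_j ↦ ∏ᵢ (G j / G k)(x_i, y_i)` -/
noncomputable def E (k : Fin (n + 1)) : MvPolynomial (Fin (n + 1)) R →+* Γ(Y R n, box R n k) :=
  MvPolynomial.eval₂Hom (cst R n (box R n k)) (fun j => Fn R n j k)

theorem E_X (j k : Fin (n + 1)) : E R n k (MvPolynomial.X j) = Fn R n j k := by
  unfold E
  rw [MvPolynomial.coe_eval₂Hom, MvPolynomial.eval₂_X]

theorem E_C (k : Fin (n + 1)) (a : R) : E R n k (MvPolynomial.C a) = cst R n (box R n k) a := by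
  unfold E
  rw [MvPolynomial.coe_eval₂Hom, MvPolynomial.eval₂_C]

theorem isUnit_E (k : Fin (n + 1)) : IsUnit (E R n k (MvPolynomial.X k)) := by
  rw [E_X, Fn_self]
  exact isUnit_one

theorem res_E (k : Fin (n + 1)) {B : (Y R n).Opens} (h : B ≤ box R n k)
    (a : MvPolynomial (Fin (n + 1)) R) :
    (Y R n).presheaf.map (homOfLE h).op (E R n k a) =
      MvPolynomial.eval₂Hom (cst R n B)
        (fun j => (Y R n).presheaf.map (homOfLE h).op (Fn R n j k)) a := by
  unfold E
  rw [MvPolynomial.coe_eval₂Hom, MvPolynomial.coe_eval₂Hom]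
  have := MvPolynomial.eval₂_comp_left ((Y R n).presheaf.map (homOfLE h).op).hom
    (cst R n (box R n k)) (fun j => Fn R n j k) a
  rw [res_cst] at this
  exact this

theorem compat_E (k k' : Fin (n + 1)) :
    ∃ u : Γ(Y R n, box R n k ⊓ box R n k'), ∀ (m : ℕ) (a : MvPolynomial (Fin (n + 1)) R),
      a ∈ CohB1.polyGrading n R m →
      (Y R n).presheaf.map (homOfLE (inf_le_right : box R n k ⊓ box R n k' ≤ box R n k')).op
          (E R n k' a) =
        u ^ m *
          (Y R n).presheaf.map (homOfLE (inf_le_left : box R n k ⊓ box R n k' ≤ box R n k)).op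
            (E R n k a) := by
  refine ⟨(Y R n).presheaf.map (homOfLE (inf_le_right : box R n k ⊓ box R n k' ≤ box R n k')).op
    (Fn R n k k'), fun m a ha => ?_⟩
  rw [res_E, res_E]
  have hfun : (fun j => (Y R n).presheaf.map
      (homOfLE (inf_le_right : box R n k ⊓ box R n k' ≤ box R n k')).op (Fn R n j k')) =
      fun j => (Y R n).presheaf.map
        (homOfLE (inf_le_right : box R n k ⊓ box R n k' ≤ box R n k')).op (Fn R n k k') *
        (Y R n).presheaf.map
        (homOfLE (inf_le_left : box R n k ⊓ box R n k' ≤ box R n k)).op (Fn R n j k) :=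
    funext fun j => res_Fn_mul R n j k k'
  rw [hfun]
  exact eval₂Hom_scale _ _ _ ((MvPolynomial.mem_homogeneousSubmodule _ _).mp ha)

theorem E_algebraMap (k : Fin (n + 1)) (a : R) :
    E R n k (algebraMap R (MvPolynomial (Fin (n + 1)) R) a) =
      (Y R n).presheaf.map (homOfLE (le_top : box R n k ≤ ⊤)).op
        (ProjUP.toGlobal (qY R n) a) := by
  rw [MvPolynomial.algebraMap_eq, E_C]
  rfl

theorem X_mem (k : Fin (n + 1)) :
    (MvPolynomial.X k : MvPolynomial (Fin (n + 1)) R) ∈ CohB1.polyGrading n R 1 :=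
  (MvPolynomial.mem_homogeneousSubmodule 1 _).mpr (MvPolynomial.isHomogeneous_X R k)

theorem basicOpen_prod_le {X : Scheme.{u}} {U : X.Opens} {ι : Type*} [DecidableEq ι]
    (s : Finset ι) (t : ι → Γ(X, U)) (i : ι) (hi : i ∈ s) :
    X.basicOpen (∏ i ∈ s, t i) ≤ X.basicOpen (t i) := by
  rw [← Finset.mul_prod_erase s t hi, Scheme.basicOpen_mul]
  exact inf_le_left

/-- the morphism `(P^1_R)^n ⟶ P^n_R`, with the preimages of the standard charts -/
theorem exists_map : ∃ r : Y R n ⟶ CohB1.ProjSpace n R,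
    r ≫ CohB1.ProjSpace.toSpec n R = qY R n ∧
      ∀ k, r ⁻¹ᵁ Groth.Agent.Lead.Coh.stdOpen n R k = box R n k := by
  classical
  obtain ⟨r, hr⟩ := Groth.Agent.H97.ToPn.exists_glue (CohB1.polyGrading n R) (box R n)
    (fun k => (MvPolynomial.X k : MvPolynomial (Fin (n + 1)) R)) one_pos (X_mem R n)
    (E R n) (isUnit_E R n) (isOpenCover_box R n) (compat_E R n)
  refine ⟨r, ?_, fun k' => le_antisymm ?_ ?_⟩
  · exact Groth.Agent.H97.ToPn.glue_comp_toSpecZero (CohB1.polyGrading n R) (qY R n) (box R n)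
      (fun k => (MvPolynomial.X k : MvPolynomial (Fin (n + 1)) R)) one_pos (X_mem R n)
      (E R n) (isUnit_E R n) (isOpenCover_box R n) (E_algebraMap R n) r hr
  · intro y hy
    obtain ⟨k, hk⟩ : ∃ k, y ∈ box R n k := by
      have : y ∈ ⨆ k, box R n k := by rw [isOpenCover_box R n]; trivial
      exact Opens.mem_iSup.mp this
    have h1 : y ∈ box R n k ⊓ r ⁻¹ᵁ Proj.basicOpen (CohB1.polyGrading n R)
        (MvPolynomial.X k' : MvPolynomial (Fin (n + 1)) R) := ⟨hk, hy⟩
    rw [Groth.Agent.H97.ToPn.inf_preimage_eq_basicOpen (CohB1.polyGrading n R) (box R n)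
      (fun k => (MvPolynomial.X k : MvPolynomial (Fin (n + 1)) R)) one_pos (X_mem R n)
      (E R n) (isUnit_E R n) r hr k k', E_X] at h1
    rw [mem_box]
    intro i
    have h2 := basicOpen_prod_le Finset.univ
      (fun i => ((pi R n i).appLE (V R n k) (box R n k) (boxOpen_le_π ⊤ (V R n k) i)).hom
        (e R n k' k)) i (Finset.mem_univ i) h1
    have h2' := (Scheme.basicOpen_appLE (pi R n i) (box R n k) (V R n k)
      (boxOpen_le_π ⊤ (V R n k) i) (e R n k' k)).le h2
    have h3 : (CohB1.ProjSpace 1 R).basicOpen (e R n k' k) =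
        Proj.basicOpen (CohB1.polyGrading 1 R) (G R n k * G R n k') :=
      basicOpen_frac (CohB1.polyGrading 1 R) (G_mem R n k') (G_mem R n k)
    have h4 : (pi R n i).base y ∈ (CohB1.ProjSpace 1 R).basicOpen (e R n k' k) := h2'.2
    rw [h3, Proj.basicOpen_mul] at h4
    exact h4.2
  · exact le_preimage_basicOpen (CohB1.polyGrading n R) (box R n k') (X_mem R n k') one_pos
      (E R n k') (isUnit_E R n k') r (hr k')

/-- a finite morphism `(P^1_R)^n ⟶ P^n_R` over `R`, with the preimages of the standard charts -/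
theorem exists_finite_map : ∃ r : Y R n ⟶ CohB1.ProjSpace n R,
    r ≫ CohB1.ProjSpace.toSpec n R = qY R n ∧ IsFinite r ∧
      ∀ k, r ⁻¹ᵁ Groth.Agent.Lead.Coh.stdOpen n R k = box R n k := by
  obtain ⟨r, hr, hpre⟩ := exists_map R n
  refine ⟨r, hr, ?_, hpre⟩
  have hproper : IsProper r := by
    have h1 : IsProper (qY R n) :=
      Groth.Agent.H97.WPP.base_of_property @IsProper (pr R) inferInstance n
    have h2 : IsProper (r ≫ CohB1.ProjSpace.toSpec n R) := by rw [hr]; exact h1
    exact IsProper.of_comp r (CohB1.ProjSpace.toSpec n R)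
  have haff : IsAffineHom r := by
    refine isAffineHom_of_forall_exists_isAffineOpen r fun x => ?_
    obtain ⟨k, hk⟩ : ∃ k, x ∈ Groth.Agent.Lead.Coh.stdOpen n R k := by
      have : x ∈ ⨆ k, Groth.Agent.Lead.Coh.stdOpen n R k := by
        rw [Groth.Agent.Lead.Coh.iSup_stdOpen]; trivial
      exact Opens.mem_iSup.mp this
    refine ⟨_, hk, Groth.Agent.Lead.Coh.isAffineOpen_stdOpen n R k, ?_⟩
    rw [hpre]
    exact isAffineOpen_box R n k
  exact (IsFinite.iff_isProper_and_isAffineHom).mpr ⟨hproper, haff⟩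

end Groth.Agent.H97.BoxMap
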