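import Mathlib
import Groth.Agent.H68.FibPowTensor

/-!
# Tensor powers of polynomial algebras, and injectivity of integral maps between polynomial rings

* `TPPoly.equiv`: if `B ≃ₐ[A] MvPolynomial κ A` then the `n`-fold tensor power of `B` over `A` is
  `MvPolynomial (Fin n × κ) A`.
* `TPPoly.injective_of_isIntegral`: an integral ring homomorphism between rings isomorphic to
  polynomial rings over `ℤ` in `#ι ≤ #ι'` variables is injective (transcendence degree).
-/

set_option autoImplicit false
universe u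

open Groth.Agent.H68.LC Groth.Agent.H68.FPT

namespace Groth.Agent.H97.TPPoly

section tensor

variable (A : Type u) [CommRing A] (B : Type u) [CommRing B] [Algebra A B] (κ : Type) (n : ℕ)
  (e : B ≃ₐ[A] MvPolynomial κ A)

/-- `X (i, c) ↦ 1 ⊗ ⋯ ⊗ e⁻¹(X c) ⊗ ⋯ ⊗ 1` -/
noncomputable def toTP : MvPolynomial (Fin n × κ) A →ₐ[A] TP A B n :=
  MvPolynomial.aeval (fun p => gT A B n p.1 (e.symm (MvPolynomial.X p.2)))

/-- on the `i`-th factor, `b ↦ e(b)` with the variables renamed to `(i, c)` -/
noncomputable def ofTP : TP A B n →ₐ[A] MvPolynomial (Fin n × κ) A :=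
  liftTP A B n (fun i => (MvPolynomial.rename (fun c : κ => (i, c))).comp e.toAlgHom)

theorem ofTP_gT (i : Fin n) (b : B) :
    ofTP A B κ n e (gT A B n i b) = MvPolynomial.rename (fun c : κ => (i, c)) (e b) := by
  unfold ofTP
  rw [liftTP_gT]
  rfl

theorem ofTP_toTP_X (p : Fin n × κ) :
    ofTP A B κ n e (toTP A B κ n e (MvPolynomial.X p)) = MvPolynomial.X p := by
  unfold toTP
  rw [MvPolynomial.aeval_X, ofTP_gT, AlgEquiv.apply_symm_apply, MvPolynomial.rename_X]

theorem ofTP_comp_toTP :
    (ofTP A B κ n e).comp (toTP A B κ n e) = AlgHom.id A _ := by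
  refine MvPolynomial.algHom_ext fun p => ?_
  rw [AlgHom.comp_apply, ofTP_toTP_X]
  rfl

theorem toTP_ofTP_gT (i : Fin n) (b : B) :
    toTP A B κ n e (ofTP A B κ n e (gT A B n i b)) = gT A B n i b := by
  have key : ((toTP A B κ n e).comp ((ofTP A B κ n e).comp (gT A B n i))).comp e.symm.toAlgHom =
      (gT A B n i).comp e.symm.toAlgHom := by
    refine MvPolynomial.algHom_ext fun c => ?_
    change toTP A B κ n e (ofTP A B κ n e (gT A B n i (e.symm (MvPolynomial.X c)))) =
      gT A B n i (e.symm (MvPolynomial.X c))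
    rw [ofTP_gT, AlgEquiv.apply_symm_apply, MvPolynomial.rename_X]
    unfold toTP
    rw [MvPolynomial.aeval_X]
  have := congrArg (fun f => f (e b)) key
  simpa using this

theorem toTP_comp_ofTP :
    (toTP A B κ n e).comp (ofTP A B κ n e) = AlgHom.id A _ := by
  have h := ringHom_ext_TP A B n
    ((toTP A B κ n e).comp (ofTP A B κ n e)).toRingHom (AlgHom.id A (TP A B n)).toRingHom
    (by
      ext a
      change ((toTP A B κ n e).comp (ofTP A B κ n e)) (algebraMap A (TP A B n) a) =
        (AlgHom.id A (TP A B n)) (algebraMap A (TP A B n) a)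
      rw [AlgHom.commutes, AlgHom.commutes])
    (fun i => by
      ext b
      exact toTP_ofTP_gT A B κ n e i b)
  exact AlgHom.coe_ringHom_injective h

/-- the tensor power of a polynomial algebra is a polynomial algebra -/
noncomputable def equiv : TP A B n ≃ₐ[A] MvPolynomial (Fin n × κ) A :=
  AlgEquiv.ofAlgHom (ofTP A B κ n e) (toTP A B κ n e) (ofTP_comp_toTP A B κ n e)
    (toTP_comp_ofTP A B κ n e)

end tensor

section trdeg

open Cardinal in
/-- An integral ring homomorphism from a polynomial ring over `ℤ` in `ι` variables to a polynomial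
ring over `ℤ` in `ι'` variables, `#ι ≤ #ι'`, is injective. -/
theorem injective_of_isIntegral_poly {ι ι' : Type} [Fintype ι] [Fintype ι']
    (hcard : Fintype.card ι ≤ Fintype.card ι')
    (φ : MvPolynomial ι ℤ →+* MvPolynomial ι' ℤ) (hφ : φ.IsIntegral) : Function.Injective φ := by
  let x : ι → MvPolynomial ι' ℤ := fun j => φ (MvPolynomial.X j)
  have hφx : φ = (MvPolynomial.aeval x : MvPolynomial ι ℤ →ₐ[ℤ] MvPolynomial ι' ℤ).toRingHom := by
    refine MvPolynomial.ringHom_ext (fun a => ?_) (fun j => ?_)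
    · rw [eq_intCast (MvPolynomial.C : ℤ →+* MvPolynomial ι ℤ) a, map_intCast, map_intCast]
    · change φ (MvPolynomial.X j) = MvPolynomial.aeval x (MvPolynomial.X j)
      rw [MvPolynomial.aeval_X]
  have hrange : ∀ a : MvPolynomial ι ℤ, φ a ∈ Algebra.adjoin ℤ (Set.range x) := by
    intro a
    rw [Algebra.adjoin_range_eq_range_aeval, hφx]
    exact ⟨a, rfl⟩
  haveI : Algebra.IsAlgebraic (Algebra.adjoin ℤ (Set.range x)) (MvPolynomial ι' ℤ) := by
    haveI : Algebra.IsIntegral (Algebra.adjoin ℤ (Set.range x)) (MvPolynomial ι' ℤ) := by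
      refine ⟨fun b => ?_⟩
      obtain ⟨p, hp, hpb⟩ := hφ b
      let φ' : MvPolynomial ι ℤ →+* Algebra.adjoin ℤ (Set.range x) :=
        φ.codRestrict (Algebra.adjoin ℤ (Set.range x)).toSubring hrange
      refine ⟨p.map φ', hp.map φ', ?_⟩
      rw [Polynomial.eval₂_map]
      exact hpb
    exact Algebra.IsIntegral.isAlgebraic
  have hle : #ι ≤ Algebra.trdeg ℤ (MvPolynomial ι' ℤ) := by
    rw [MvPolynomial.trdeg_of_isDomain, Cardinal.lift_id, Cardinal.mk_fintype,
      Cardinal.mk_fintype]
    exact_mod_cast hcard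
  have hx := Algebra.IsAlgebraic.isTranscendenceBasis_of_le_trdeg_of_finite ℤ x hle
  have hinj : Function.Injective (MvPolynomial.aeval x : MvPolynomial ι ℤ →ₐ[ℤ] _) := hx.1
  rw [hφx]
  exact hinj

/-- transported version -/
theorem injective_of_isIntegral {A' B : Type*} [CommRing A'] [CommRing B]
    {ι ι' : Type} [Fintype ι] [Fintype ι']
    (eA : A' ≃+* MvPolynomial ι ℤ) (eB : B ≃+* MvPolynomial ι' ℤ)
    (hcard : Fintype.card ι ≤ Fintype.card ι')
    (φ : A' →+* B) (hφ : φ.IsIntegral) : Function.Injective φ := by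
  have h1 : ((eB.toRingHom.comp φ).comp eA.symm.toRingHom).IsIntegral := by
    refine RingHom.IsIntegral.trans _ _ (RingHom.isIntegral_of_surjective _ eA.symm.surjective) ?_
    exact RingHom.IsIntegral.trans _ _ hφ (RingHom.isIntegral_of_surjective _ eB.surjective)
  have h2 := injective_of_isIntegral_poly hcard _ h1
  intro a b hab
  apply eA.injective
  apply h2
  change eB (φ (eA.symm (eA a))) = eB (φ (eA.symm (eA b)))
  rw [RingEquiv.symm_apply_apply, RingEquiv.symm_apply_apply, hab]

end trdeg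

end Groth.Agent.H97.TPPoly
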