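import Mathlib
import Groth.Agent.H97.BoxMap
import Groth.Agent.H97.TPPoly
import Groth.Agent.H97.ProjChartIso
import Groth.Agent.H97.ProjSpaceOverIso

/-!
# Surjectivity of the finite morphism `(P^1_ℤ)^n ⟶ P^n_ℤ`

On the last standard chart the morphism of `BoxMap` is a finite morphism between two affine
spaces of the same dimension over the integers, hence its ring map is injective (transcendence
degree) and the chart lies in the image; the image is closed and the chart is dense.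
-/

set_option autoImplicit false
universe u

open AlgebraicGeometry CategoryTheory CategoryTheory.Limits HomogeneousLocalization
  TopologicalSpace Opposite

namespace Groth.Agent.H97.BoxSurj

open Groth.Agent.H68.FPA Groth.Agent.H68.FPT Groth.Agent.H68.LC Groth.Agent.H97.Sylv
  Groth.Agent.H97.BoxMap

/-- an affine open of the target lies in the image as soon as the ring map is integral and
injective -/
theorem mem_range_of_integral_injective {X Y : Scheme.{u}} (f : X ⟶ Y) {U : Y.Opens}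
    (hU : IsAffineOpen U) (hV : IsAffineOpen (f ⁻¹ᵁ U)) (hint : (f.app U).hom.IsIntegral)
    (hinj : Function.Injective (f.app U).hom) (x : Y) (hx : x ∈ U) : ∃ y : X, f.base y = x := by
  let _ : Algebra Γ(Y, U) Γ(X, f ⁻¹ᵁ U) := (f.app U).hom.toAlgebra
  have : Algebra.IsIntegral Γ(Y, U) Γ(X, f ⁻¹ᵁ U) := ⟨hint⟩
  obtain ⟨Q, -, hQ, hQP⟩ := Ideal.exists_ideal_over_prime_of_isIntegral
    (hU.primeIdealOf ⟨x, hx⟩).asIdeal (⊥ : Ideal Γ(X, f ⁻¹ᵁ U)) (by
      have h0 : Ideal.comap (algebraMap Γ(Y, U) Γ(X, f ⁻¹ᵁ U)) ⊥ = ⊥ :=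
        Ideal.comap_bot_of_injective _ hinj
      rw [h0]
      exact bot_le)
  refine ⟨hV.fromSpec.base ⟨Q, hQ⟩, ?_⟩
  have h1 := IsAffineOpen.SpecMap_appLE_fromSpec f hU hV le_rfl
  rw [← Scheme.Hom.app_eq_appLE] at h1
  have h2 : (Spec.map (f.app U)).base ⟨Q, hQ⟩ = hU.primeIdealOf ⟨x, hx⟩ :=
    PrimeSpectrum.ext hQP
  calc f.base (hV.fromSpec.base ⟨Q, hQ⟩) = (hV.fromSpec ≫ f).base ⟨Q, hQ⟩ := rfl
    _ = (Spec.map (f.app U) ≫ hU.fromSpec).base ⟨Q, hQ⟩ := by rw [h1]
    _ = hU.fromSpec.base ((Spec.map (f.app U)).base ⟨Q, hQ⟩) := rfl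
    _ = x := by rw [h2]; exact hU.fromSpec_primeIdealOf ⟨x, hx⟩

variable (R : Type u) [CommRing R] (n : ℕ)

/-- the coordinate ring of a standard chart of projective space is a polynomial ring -/
theorem nonempty_chart_equiv (i : Fin (n + 1)) :
    Nonempty (Γ(CohB1.ProjSpace n R, Groth.Agent.Lead.Coh.stdOpen n R i) ≃+*
      MvPolynomial {j : Fin (n + 1) // j ≠ i} R) :=
  ⟨((Proj.basicOpenIsoAway (CohB1.polyGrading n R) (MvPolynomial.X i) (BoxMap.X_mem R n i)
      one_pos).commRingCatIsoToRingEquiv.symm).trans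
    (RingEquiv.ofBijective _ (Groth.Agent.H97.ProjChart.ψ_bijective R n i)).symm⟩

theorem V_last : V R n (Fin.last n) = Groth.Agent.Lead.Coh.stdOpen 1 R 1 := by
  unfold V Groth.Agent.Lead.Coh.stdOpen
  rw [G_last]
  exact Proj.basicOpen_pow (CohB1.polyGrading 1 R) (MvPolynomial.X 1) (2 ^ n) (two_pow_pos n)

/-- the index type of the single affine coordinate of the chart `D₊(y)` of the projective line -/
abbrev κ : Type := {j : Fin 2 // j ≠ 1}

theorem nonempty_V_last_equiv :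
    Nonempty (Γ(CohB1.ProjSpace 1 R, V R n (Fin.last n)) ≃+* MvPolynomial κ R) := by
  rw [V_last]
  exact nonempty_chart_equiv R 1 1

variable {R}

/-- ring homomorphisms out of a ring isomorphic to `ℤ` are unique -/
theorem ringHom_unique {A C : Type*} [CommRing A] [CommRing C] (eA : A ≃+* ℤ) (f g : A →+* C) :
    f = g := by
  have h : (f.comp eA.symm.toRingHom) = (g.comp eA.symm.toRingHom) := Subsingleton.elim _ _
  ext a
  have h1 : (f.comp eA.symm.toRingHom) (eA a) = (g.comp eA.symm.toRingHom) (eA a) := by rw [h]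
  rw [RingHom.comp_apply, RingHom.comp_apply] at h1
  change f (eA.symm (eA a)) = g (eA.symm (eA a)) at h1
  rwa [RingEquiv.symm_apply_apply] at h1

/-- the coordinate ring of the last box is a polynomial ring over `ℤ` in `n` variables -/
theorem nonempty_box_last_equiv (eR : R ≃+* ℤ) :
    Nonempty (Γ(Y R n, box R n (Fin.last n)) ≃+* MvPolynomial (Fin n × κ) ℤ) := by
  let γ : Γ(Spec (CommRingCat.of R), ⊤) ≃+* R :=
    (Scheme.ΓSpecIso (CommRingCat.of R)).commRingCatIsoToRingEquiv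
  let e0 : Γ(Spec (CommRingCat.of R), ⊤) ≃+* ℤ := γ.trans eR
  obtain ⟨e₁⟩ := nonempty_V_last_equiv R n
  let _ : Algebra Γ(Spec (CommRingCat.of R), ⊤) Γ(CohB1.ProjSpace 1 R, V R n (Fin.last n)) :=
    ((pr R).appLE ⊤ (V R n (Fin.last n)) le_top).hom.toAlgebra
  have halg : algebraMap Γ(Spec (CommRingCat.of R), ⊤)
      Γ(CohB1.ProjSpace 1 R, V R n (Fin.last n)) =
      ((pr R).appLE ⊤ (V R n (Fin.last n)) le_top).hom := rfl
  let e₂ : Γ(CohB1.ProjSpace 1 R, V R n (Fin.last n)) ≃+*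
      MvPolynomial κ Γ(Spec (CommRingCat.of R), ⊤) :=
    e₁.trans (MvPolynomial.mapEquiv κ γ.symm)
  let eAlg : Γ(CohB1.ProjSpace 1 R, V R n (Fin.last n)) ≃ₐ[Γ(Spec (CommRingCat.of R), ⊤)]
      MvPolynomial κ Γ(Spec (CommRingCat.of R), ⊤) :=
    AlgEquiv.ofRingEquiv (f := e₂) (fun a => by
      have := ringHom_unique e0 (e₂.toRingHom.comp
        (algebraMap Γ(Spec (CommRingCat.of R), ⊤) Γ(CohB1.ProjSpace 1 R, V R n (Fin.last n))))
        (algebraMap Γ(Spec (CommRingCat.of R), ⊤)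
          (MvPolynomial κ Γ(Spec (CommRingCat.of R), ⊤)))
      exact congrArg (fun φ => φ a) this)
  let eT := Groth.Agent.H97.TPPoly.equiv Γ(Spec (CommRingCat.of R), ⊤)
    Γ(CohB1.ProjSpace 1 R, V R n (Fin.last n)) κ n eAlg
  let eα : TP Γ(Spec (CommRingCat.of R), ⊤) Γ(CohB1.ProjSpace 1 R, V R n (Fin.last n)) n ≃+*
      Γ(Y R n, box R n (Fin.last n)) :=
    RingEquiv.ofBijective (alpha (f := pr R) (n := n) (V := ⊤) (U := V R n (Fin.last n))
      le_top halg)
      (alpha_bijective (f := pr R) (n := n) le_top (isAffineOpen_top _)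
        (isAffineOpen_V R n (Fin.last n)) halg)
  exact ⟨(eα.symm.trans eT.toRingEquiv).trans (MvPolynomial.mapEquiv (Fin n × κ) e0)⟩

variable (R)

/-- a finite surjective morphism `(P^1_R)^n ⟶ P^n_R` over `R`, for `R ≃+* ℤ` -/
theorem exists_finite_surjective_map (eR : R ≃+* ℤ) :
    ∃ r : Y R n ⟶ CohB1.ProjSpace n R,
      r ≫ CohB1.ProjSpace.toSpec n R = qY R n ∧ IsFinite r ∧ Surjective r := by
  obtain ⟨r, hr, hfin, hpre⟩ := exists_finite_map R n
  refine ⟨r, hr, hfin, ?_⟩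
  have hdom : IsDomain R := eR.toMulEquiv.isDomain ℤ
  have hU : IsAffineOpen (Groth.Agent.Lead.Coh.stdOpen n R (Fin.last n)) :=
    Groth.Agent.Lead.Coh.isAffineOpen_stdOpen n R (Fin.last n)
  have hVaff : IsAffineOpen (r ⁻¹ᵁ Groth.Agent.Lead.Coh.stdOpen n R (Fin.last n)) := by
    rw [hpre]
    exact isAffineOpen_box R n (Fin.last n)
  have hint := r.isIntegral_app (Groth.Agent.Lead.Coh.stdOpen n R (Fin.last n)) hU
  obtain ⟨eA0⟩ := nonempty_chart_equiv R n (Fin.last n)
  let eA : Γ(CohB1.ProjSpace n R, Groth.Agent.Lead.Coh.stdOpen n R (Fin.last n)) ≃+*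
      MvPolynomial {j : Fin (n + 1) // j ≠ Fin.last n} ℤ :=
    eA0.trans (MvPolynomial.mapEquiv _ eR)
  obtain ⟨eB⟩ : Nonempty (Γ(Y R n, r ⁻¹ᵁ Groth.Agent.Lead.Coh.stdOpen n R (Fin.last n)) ≃+*
      MvPolynomial (Fin n × κ) ℤ) := by
    rw [hpre]
    exact nonempty_box_last_equiv n eR
  have hinj := Groth.Agent.H97.TPPoly.injective_of_isIntegral eA eB (by simp) _ hint
  have hsub : (Groth.Agent.Lead.Coh.stdOpen n R (Fin.last n) : Set (CohB1.ProjSpace n R)) ⊆
      Set.range r.base := fun x hx =>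
    mem_range_of_integral_injective r hU hVaff hint hinj x hx
  have hclosed : IsClosed (Set.range r.base) := r.isClosedMap.isClosed_range
  have hint' : IsIntegral (CohB1.ProjSpace n R) :=
    Groth.Agent.H97.ProjChart.isIntegral_projSpace R n
  have hne : (Groth.Agent.Lead.Coh.stdOpen n R (Fin.last n) :
      Set (CohB1.ProjSpace n R)).Nonempty := by
    have hnt : Nontrivial Γ(CohB1.ProjSpace n R, Groth.Agent.Lead.Coh.stdOpen n R (Fin.last n)) :=
      eA.symm.injective.nontrivial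
    obtain ⟨p⟩ : Nonempty (PrimeSpectrum
      Γ(CohB1.ProjSpace n R, Groth.Agent.Lead.Coh.stdOpen n R (Fin.last n))) := inferInstance
    refine ⟨hU.fromSpec.base p, ?_⟩
    rw [← hU.range_fromSpec]
    exact ⟨p, rfl⟩
  have hdense : Dense (Groth.Agent.Lead.Coh.stdOpen n R (Fin.last n) :
      Set (CohB1.ProjSpace n R)) :=
    (Groth.Agent.Lead.Coh.stdOpen n R (Fin.last n)).isOpen.dense hne
  have huniv : Set.range r.base = Set.univ := by
    rw [← hclosed.closure_eq]
    exact (hdense.mono hsub).closure_eq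
  exact ⟨fun x => by
    have : x ∈ Set.range r.base := by rw [huniv]; trivial
    exact this⟩

end Groth.Agent.H97.BoxSurj
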