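import Mathlib

/-!
# Cartesian squares of rings and localization

For a cartesian square of rings `B' = B ×_R R'` and `h : B'`, if `B_{p h} → R_{s (p h)}` is
bijective then `B'_h → R'_{q h}` is bijective.
-/

open CategoryTheory Limits

universe u

namespace Groth.Agent.H97.CartSqAlg

variable {B B' R R' : Type u} [CommRing B] [CommRing B'] [CommRing R] [CommRing R']

theorem cart_elem (s : B →+* R) (t : R' →+* R) (p : B' →+* B) (q : B' →+* R')
    (hsq : IsPullback (CommRingCat.ofHom p) (CommRingCat.ofHom q) (CommRingCat.ofHom s)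
      (CommRingCat.ofHom t)) :
    (∀ x, s (p x) = t (q x)) ∧ (∀ x y, p x = p y → q x = q y → x = y) ∧
      (∀ b r', s b = t r' → ∃ x, p x = b ∧ q x = r') := by
  have h2 := hsq.map (forget CommRingCat)
  rw [Types.isPullback_iff] at h2
  obtain ⟨-, h2, h3⟩ := h2
  refine ⟨fun x => ?_, fun x y hp hq => ?_, fun b r' h => ?_⟩
  · exact ConcreteCategory.congr_hom hsq.w x
  · exact h2 x y ⟨hp, hq⟩
  · exact h3 b r' h

theorem awayMap_bijective (s : B →+* R) (t : R' →+* R) (p : B' →+* B) (q : B' →+* R')
    (hcomm : ∀ x, s (p x) = t (q x)) (hinj : ∀ x y, p x = p y → q x = q y → x = y)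
    (hsurj : ∀ b r', s b = t r' → ∃ x, p x = b ∧ q x = r')
    (h : B') (hb : Function.Bijective (Localization.awayMap s (p h))) :
    Function.Bijective (Localization.awayMap q h) := by
  constructor
  · rw [injective_iff_map_eq_zero]
    intro z hz
    obtain ⟨x, ⟨_, n, rfl⟩, rfl⟩ := IsLocalization.exists_mk'_eq (Submonoid.powers h) z
    rw [Localization.awayMap, IsLocalization.Away.map, IsLocalization.map_mk',
      IsLocalization.mk'_eq_zero_iff] at hz
    obtain ⟨⟨_, m, rfl⟩, hm⟩ := hz
    simp only at hm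
    -- `hm : q h ^ m * q x = 0`
    have h1 : s (p h ^ m * p x) = 0 := by
      have := hcomm (h ^ m * x)
      rw [map_mul p, map_pow p, map_mul q, map_pow q, hm, map_zero] at this
      exact this
    have h2 : algebraMap B (Localization.Away (p h)) (p h ^ m * p x) = 0 := by
      apply hb.1
      rw [map_zero, Localization.awayMap, IsLocalization.Away.map, IsLocalization.map_eq, h1,
        map_zero]
    rw [IsLocalization.map_eq_zero_iff (Submonoid.powers (p h))] at h2
    obtain ⟨⟨_, m', rfl⟩, hm'⟩ := h2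
    simp only at hm'
    have h3 : h ^ (m' + m) * x = 0 := by
      apply hinj
      · rw [map_mul, map_pow, pow_add, mul_assoc, hm', map_zero]
      · rw [map_mul, map_pow, pow_add, mul_assoc, hm, mul_zero, map_zero]
    rw [IsLocalization.mk'_eq_zero_iff]
    exact ⟨⟨h ^ (m' + m), _, rfl⟩, h3⟩
  · intro z
    obtain ⟨r', ⟨_, n, rfl⟩, rfl⟩ := IsLocalization.exists_mk'_eq (Submonoid.powers (q h)) z
    obtain ⟨w, hw⟩ := hb.2 (algebraMap R _ (t r'))
    obtain ⟨b, ⟨_, m, rfl⟩, rfl⟩ := IsLocalization.exists_mk'_eq (Submonoid.powers (p h)) w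
    rw [Localization.awayMap, IsLocalization.Away.map, IsLocalization.map_mk',
      IsLocalization.mk'_eq_iff_eq_mul, ← map_mul,
      IsLocalization.eq_iff_exists (Submonoid.powers (s (p h)))] at hw
    obtain ⟨⟨_, l, rfl⟩, hl⟩ := hw
    simp only at hl
    -- `hl : s (p h) ^ l * s b = s (p h) ^ l * (t r' * s (p h) ^ m)`
    have h1 : s (p h ^ l * b) = t (q h ^ (l + m) * r') := by
      rw [map_mul, map_pow, hl, map_mul, map_pow, map_pow, ← hcomm h, pow_add]
      ring
    obtain ⟨x, hx1, hx2⟩ := hsurj _ _ h1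
    refine ⟨IsLocalization.mk' _ x (⟨h ^ (l + m + n), _, rfl⟩ : Submonoid.powers h), ?_⟩
    rw [Localization.awayMap, IsLocalization.Away.map, IsLocalization.map_mk',
      IsLocalization.mk'_eq_iff_eq]
    simp only [hx2, map_pow]
    congr 1
    ring

end Groth.Agent.H97.CartSqAlg
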