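import Mathlib
import Groth.Agent.H97.CartSqAlg
import Groth.Agent.H97.CartSqSch

/-!
# Cartesian square of rings: `W' → Spec R' → Spec B'` is an open immersion
-/

open CategoryTheory Limits AlgebraicGeometry

universe u

namespace Groth.Agent.H97.CartSqMain

set_option backward.isDefEq.respectTransparency false in
theorem isIso_restrict_basicOpen {B' R' : Type u} [CommRing B'] [CommRing R'] (q : B' →+* R')
    (h : B') (hbij : Function.Bijective (Localization.awayMap q h)) :
    IsIso (Spec.map (CommRingCat.ofHom q) ∣_
      (PrimeSpectrum.basicOpen h : (Spec (CommRingCat.of B')).Opens)) := by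
  have hiso : IsIso (Spec.map (CommRingCat.ofHom (Localization.awayMap q h))) := by
    have : IsIso (CommRingCat.ofHom (Localization.awayMap q h)) :=
      inferInstanceAs (IsIso (RingEquiv.ofBijective _ hbij).toCommRingCatIso.hom)
    infer_instance
  have w : Spec.map (CommRingCat.ofHom (algebraMap R' (Localization.Away (q h)))) ≫
        Spec.map (CommRingCat.ofHom q) =
      Spec.map (CommRingCat.ofHom (Localization.awayMap q h)) ≫
        Spec.map (CommRingCat.ofHom (algebraMap B' (Localization.Away h))) := by
    rw [← Spec.map_comp, ← Spec.map_comp, ← CommRingCat.ofHom_comp, ← CommRingCat.ofHom_comp]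
    congr 2
    ext x
    simp [Localization.awayMap, IsLocalization.Away.map]
  have hr : (Spec.map (CommRingCat.ofHom (algebraMap R' (Localization.Away (q h))))).opensRange =
      Spec.map (CommRingCat.ofHom q) ⁻¹ᵁ
        (Spec.map (CommRingCat.ofHom (algebraMap B' (Localization.Away h)))).opensRange := by
    rw [Scheme.Hom.opensRange_localizationAway (R := CommRingCat.of R'),
      Scheme.Hom.opensRange_localizationAway (R := CommRingCat.of B')]
    rfl
  have := CartSqSch.isIso_restrict_of_square _ _ _ _ w hr
  rwa [Scheme.Hom.opensRange_localizationAway (R := CommRingCat.of B')] at this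

theorem main {B B' R R' : Type u} [CommRing B] [CommRing B'] [CommRing R] [CommRing R']
    (s : B →+* R) (t : R' →+* R) (p : B' →+* B) (q : B' →+* R')
    (hsq : IsPullback (CommRingCat.ofHom p) (CommRingCat.ofHom q) (CommRingCat.ofHom s)
      (CommRingCat.ofHom t))
    {n : ℕ} (f : Fin n → R') (g : Fin n → B) (hfg : ∀ i, t (f i) = s (g i))
    (hiso : ∀ i, Function.Bijective (Localization.awayMap s (g i))) :
    IsOpenImmersion (Scheme.Opens.ι (X := Spec (CommRingCat.of R'))
      (⨆ i, PrimeSpectrum.basicOpen (f i)) ≫ Spec.map (CommRingCat.ofHom q)) := by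
  obtain ⟨hcomm, hinj, hsurj⟩ := CartSqAlg.cart_elem s t p q hsq
  choose h hp hq using fun i => hsurj (g i) (f i) (hfg i).symm
  have hbij : ∀ i, Function.Bijective (Localization.awayMap q (h i)) := fun i =>
    CartSqAlg.awayMap_bijective s t p q hcomm hinj hsurj (h i) (by rw [hp]; exact hiso i)
  refine CartSqSch.isOpenImmersion_of_isIso_restrict (Spec.map (CommRingCat.ofHom q))
    (fun i => (PrimeSpectrum.basicOpen (h i) : (Spec (CommRingCat.of B')).Opens))
    (fun i => isIso_restrict_basicOpen q (h i) (hbij i)) _ ?_
  congr 1
  funext i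
  rw [← hq i]
  rfl

end Groth.Agent.H97.CartSqMain
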