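import Mathlib

/-!
The Čech nerve `[m] ↦ X^{m+1}` of `X ⟶ ⊤` in a category with finite products is `n`-coskeletal
for every `n`.
-/

set_option autoImplicit false

open CategoryTheory CategoryTheory.Limits Opposite SimplexCategory Simplicial
open CategoryTheory.Functor SimplicialObject SimplicialObject.Truncated

universe v u

namespace Groth.Agent.H97.CechCosk

variable {C : Type u} [Category.{v} C] [HasFiniteProducts C] (X : C) (n : ℕ)

/-- Object of the comma category attached to `φ : ⦋k⦌ ⟶ ⦋m⦌` with `k ≤ n`. -/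
abbrev strArrowMk {k m : ℕ} (φ : ⦋k⦌ ⟶ ⦋m⦌) (hk : k ≤ n) :
    StructuredArrow (op ⦋m⦌) (SimplexCategory.Truncated.inclusion n).op :=
  StructuredArrow.mk (Y := op (⟨⦋k⦌, hk⟩ : SimplexCategory.Truncated n)) φ.op

/-- The structure map of the Čech nerve, with explicit product types. -/
noncomputable def nmap {k m : ℕ} (φ : ⦋k⦌ ⟶ ⦋m⦌) :
    (∏ᶜ fun _ : Fin (m + 1) => X) ⟶ ∏ᶜ fun _ : Fin (k + 1) => X :=
  (cechNerveTerminalFrom X).map φ.op

lemma nmap_π {k m : ℕ} (φ : ⦋k⦌ ⟶ ⦋m⦌) (i : Fin (k + 1)) :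
    nmap X φ ≫ Pi.π (fun _ : Fin (k + 1) => X) i =
      Pi.π (fun _ : Fin (m + 1) => X) (φ.toOrderHom i) := by
  simp [nmap, cechNerveTerminalFrom]

/-- The cone point of the canonical cone, with explicit product type. -/
noncomputable def coneπ {k m : ℕ} (φ : ⦋k⦌ ⟶ ⦋m⦌) (hk : k ≤ n) :
    (∏ᶜ fun _ : Fin (m + 1) => X) ⟶ ∏ᶜ fun _ : Fin (k + 1) => X :=
  ((rightExtensionInclusion (cechNerveTerminalFrom X) n).coneAt (op ⦋m⦌)).π.app
    (strArrowMk n φ hk)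

lemma coneπ_eq {k m : ℕ} (φ : ⦋k⦌ ⟶ ⦋m⦌) (hk : k ≤ n) : coneπ X n φ hk = nmap X φ := by
  dsimp [coneπ, nmap, RightExtension.coneAt, strArrowMk]
  exact Category.comp_id _

section

variable {m : ℕ}
  (s : Cone (StructuredArrow.proj (op ⦋m⦌) (SimplexCategory.Truncated.inclusion n).op ⋙
    (SimplexCategory.Truncated.inclusion n).op ⋙ cechNerveTerminalFrom X))

/-- Components of a cone, with explicit product types. -/
noncomputable def sπ {k : ℕ} (φ : ⦋k⦌ ⟶ ⦋m⦌) (hk : k ≤ n) :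
    s.pt ⟶ ∏ᶜ fun _ : Fin (k + 1) => X :=
  s.π.app (strArrowMk n φ hk)

lemma sπ_w {k k' : ℕ} (φ : ⦋k⦌ ⟶ ⦋m⦌) (hk : k ≤ n) (ψ : ⦋k'⦌ ⟶ ⦋k⦌) (hk' : k' ≤ n) :
    sπ X n s φ hk ≫ nmap X ψ = sπ X n s (ψ ≫ φ) hk' := by
  let α : strArrowMk n φ hk ⟶ strArrowMk n (ψ ≫ φ) hk' :=
    StructuredArrow.homMk (SimplexCategory.Truncated.Hom.tr ψ hk' hk).op
      (Quiver.Hom.unop_inj (by
        simp only [strArrowMk, StructuredArrow.mk_hom_eq_self, Functor.op_map, unop_comp,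
          Quiver.Hom.unop_op]
        rfl))
  exact s.w α

/-- The lift of a cone. -/
noncomputable def lift : s.pt ⟶ ∏ᶜ fun _ : Fin (m + 1) => X :=
  Pi.lift fun i => sπ X n s (⦋0⦌.const ⦋m⦌ i) (Nat.zero_le n) ≫
    Pi.π (fun _ : Fin (0 + 1) => X) 0

lemma lift_π (i : Fin (m + 1)) :
    lift X n s ≫ Pi.π (fun _ : Fin (m + 1) => X) i =
      sπ X n s (⦋0⦌.const ⦋m⦌ i) (Nat.zero_le n) ≫ Pi.π (fun _ : Fin (0 + 1) => X) 0 := by
  simp [lift]

/-- Naturality of a cone along a vertex of a simplex. -/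
lemma cone_vertex {k : ℕ} (φ : ⦋k⦌ ⟶ ⦋m⦌) (hk : k ≤ n) (i : Fin (k + 1)) :
    sπ X n s φ hk ≫ Pi.π (fun _ : Fin (k + 1) => X) i =
      sπ X n s (⦋0⦌.const ⦋m⦌ (φ.toOrderHom i)) (Nat.zero_le n) ≫
        Pi.π (fun _ : Fin (0 + 1) => X) 0 := by
  have h1 : nmap X (⦋0⦌.const ⦋k⦌ i) ≫ Pi.π (fun _ : Fin (0 + 1) => X) 0 =
      Pi.π (fun _ : Fin (k + 1) => X) i := nmap_π X (⦋0⦌.const ⦋k⦌ i) 0
  have h2 : ⦋0⦌.const ⦋k⦌ i ≫ φ = ⦋0⦌.const ⦋m⦌ (φ.toOrderHom i) :=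
    SimplexCategory.const_comp _ _ _
  rw [← h1, ← Category.assoc, sπ_w X n s φ hk (⦋0⦌.const ⦋k⦌ i) (Nat.zero_le n), h2]

end

/-- The pointwise right Kan extension property. -/
noncomputable def isPointwiseAt (m : ℕ) :
    (rightExtensionInclusion (cechNerveTerminalFrom X) n).IsPointwiseRightKanExtensionAt
      (op ⦋m⦌) where
  lift s := lift X n s
  fac s j := by
    obtain ⟨⟨⟨k, hk⟩⟩, ⟨f : _ ⟶ _⟩, rfl⟩ := j.mk_surjective
    obtain ⟨k, rfl⟩ : ∃ k', ⦋k'⦌ = k := ⟨_, k.mk_len⟩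
    have hk' : k ≤ n := hk
    change lift X n s ≫ coneπ X n f hk' = sπ X n s f hk'
    rw [coneπ_eq]
    refine Limits.Pi.hom_ext (f := fun _ : Fin (k + 1) => X) _ _ (fun i => ?_)
    rw [Category.assoc, nmap_π, lift_π, cone_vertex X n s f hk' i]
  uniq s m' hm := by
    change s.pt ⟶ ∏ᶜ fun _ : Fin (m + 1) => X at m'
    change m' = lift X n s
    refine Limits.Pi.hom_ext (f := fun _ : Fin (m + 1) => X) _ _ (fun i => ?_)
    have h1 : m' ≫ coneπ X n (⦋0⦌.const ⦋m⦌ i) (Nat.zero_le n) =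
        sπ X n s (⦋0⦌.const ⦋m⦌ i) (Nat.zero_le n) := hm _
    rw [lift_π, ← h1, coneπ_eq, Category.assoc, nmap_π]
    rfl

theorem isCoskeletal : SimplicialObject.IsCoskeletal (cechNerveTerminalFrom X) n where
  isRightKanExtension :=
    RightExtension.IsPointwiseRightKanExtension.isRightKanExtension
      (E := rightExtensionInclusion (cechNerveTerminalFrom X) n)
      (fun Δ => isPointwiseAt X n Δ.unop.len)

end Groth.Agent.H97.CechCosk
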