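import Mathlib

/-!
# Coefficients of characteristic polynomials stabilise the determinant ideal
-/

set_option autoImplicit false
universe u

namespace Groth.Agent.H97.CharpolyDet

open Polynomial Matrix

variable {K : Type u} [CommRing K] {ι : Type u} [Fintype ι] [DecidableEq ι]

/-- Expansion of `det (X • P + P')` along rows. -/
theorem det_X_smul_add (P P' : Matrix ι ι K) :
    ((X : K[X]) • (C : K →+* K[X]).mapMatrix P + (C : K →+* K[X]).mapMatrix P').det =
      ∑ s : Finset ι, (X : K[X]) ^ s.card * C (Matrix.det (fun j => if j ∈ s then P j else P' j)) := by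
  have h1 : ((X : K[X]) • (C : K →+* K[X]).mapMatrix P + (C : K →+* K[X]).mapMatrix P').det =
      (Matrix.detRowAlternating : (ι → K[X]) [⋀^ι]→ₗ[K[X]] K[X]).toMultilinearMap
        ((fun j => (X : K[X]) • ((C : K →+* K[X]).mapMatrix P) j) +
          (fun j => ((C : K →+* K[X]).mapMatrix P') j)) := rfl
  rw [h1, MultilinearMap.map_add_univ]
  refine Finset.sum_congr rfl fun s _ => ?_
  have h2 : s.piecewise (fun j => (X : K[X]) • ((C : K →+* K[X]).mapMatrix P) j)
        (fun j => ((C : K →+* K[X]).mapMatrix P') j) =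
      s.piecewise (fun j => (X : K[X]) •
          ((C : K →+* K[X]).mapMatrix (fun j => if j ∈ s then P j else P' j)) j)
        ((C : K →+* K[X]).mapMatrix (fun j => if j ∈ s then P j else P' j)) := by
    ext j i
    by_cases hj : j ∈ s <;> simp [Finset.piecewise, hj, Matrix.map_apply]
  rw [h2, MultilinearMap.map_piecewise_smul, Finset.prod_const, smul_eq_mul]
  congr 1
  exact (RingHom.map_det _ _).symm

theorem mapMatrix_mul_charmatrix (P V : Matrix ι ι K) :
    (C : K →+* K[X]).mapMatrix P * charmatrix Vᵀ =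
      (X : K[X]) • (C : K →+* K[X]).mapMatrix P + (C : K →+* K[X]).mapMatrix (-(P * Vᵀ)) := by
  ext j i
  rw [Matrix.mul_apply]
  simp only [charmatrix_apply, RingHom.mapMatrix_apply, Matrix.map_apply, Matrix.add_apply,
    Matrix.smul_apply, Matrix.neg_apply, Matrix.mul_apply, smul_eq_mul, mul_sub,
    Finset.sum_sub_distrib, Matrix.diagonal_apply, mul_ite, mul_zero, Finset.sum_ite_eq',
    Finset.mem_univ, if_true, map_neg, map_sum, map_mul]
  ring

theorem C_det_mul_charpoly (P V : Matrix ι ι K) :
    C P.det * V.charpoly =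
      ∑ s : Finset ι, (X : K[X]) ^ s.card *
        C (Matrix.det (fun j => if j ∈ s then P j else (-(P * Vᵀ)) j)) := by
  rw [← det_X_smul_add, ← mapMatrix_mul_charmatrix, Matrix.det_mul, ← RingHom.map_det,
    ← Matrix.charpoly, Matrix.charpoly_transpose]

/-- The coefficients of `C P.det * V.charpoly` are sums of determinants of matrices whose rows are
rows of `P` or of `-(P * Vᵀ)`. -/
theorem det_mul_coeff_mem (P V : Matrix ι ι K) {A : Type*} [CommRing A] [Algebra A K]
    (𝔞 : Submodule A K)
    (h : ∀ s : Finset ι, Matrix.det (fun j => if j ∈ s then P j else (-(P * Vᵀ)) j) ∈ 𝔞) (n : ℕ) :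
    P.det * V.charpoly.coeff n ∈ 𝔞 := by
  have := congrArg (fun p => p.coeff n) (C_det_mul_charpoly P V)
  simp only [Polynomial.coeff_C_mul, Polynomial.finsetSum_coeff, Polynomial.coeff_X_pow_mul',
    Polynomial.coeff_C] at this
  rw [this]
  refine Submodule.sum_mem _ fun s _ => ?_
  split_ifs <;> first | exact h s | exact 𝔞.zero_mem

end Groth.Agent.H97.CharpolyDet
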