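import Mathlib
import Groth.Agent.H97.CharpolyDet

/-!
# The subalgebra generated by coefficients of characteristic polynomials is finite
-/

set_option autoImplicit false
universe u

namespace Groth.Agent.H97.CharpolySub

open Polynomial Matrix TensorProduct Groth.Agent.H97.CharpolyDet

theorem adjoin_charpoly_coeff_fg (A : Type u) [CommRing A] [IsNoetherianRing A]
    (E : Type u) [AddCommGroup E] [Module A E] [Module.Finite A E]
    [Module.Free (FractionRing A) (TensorProduct A (FractionRing A) E)] :
    (Algebra.adjoin A {c : FractionRing A | ∃ (v : E →ₗ[A] E) (j : ℕ),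
        c = ((v.baseChange (FractionRing A)).charpoly).coeff j}).toSubmodule.FG := by
  classical
  rcases subsingleton_or_nontrivial A with hA | hA
  · haveI : Subsingleton (FractionRing A) :=
      (algebraMap A (FractionRing A)).codomain_trivial
    have : ∀ N : Submodule A (FractionRing A), N = ⊥ := fun N => Subsingleton.elim _ _
    rw [this (Subalgebra.toSubmodule _)]
    exact Submodule.fg_bot
  set K := FractionRing A with hK
  set T := TensorProduct A K E with hT
  let ι := Module.Free.ChooseBasisIndex K T
  let b : Module.Basis ι K T := Module.Free.chooseBasis K T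
  let ι' : E →ₗ[A] T := TensorProduct.mk A K E 1
  let co : E →ₗ[A] (ι → K) := (b.equivFun.toLinearMap.restrictScalars A).comp ι'
  let Dm : MultilinearMap A (fun _ : ι => E) K :=
    ((Matrix.detRowAlternating (R := K) (n := ι)).toMultilinearMap.restrictScalars A).compLinearMap
      (fun _ => co)
  have hDm : ∀ x : ι → E, Dm x = Matrix.det (fun j => co (x j)) := fun x => rfl
  let 𝔞 : Submodule A K := LinearMap.range (PiTensorProduct.lift Dm)
  have h𝔞fg : 𝔞.FG := by
    rw [show 𝔞 = Submodule.map (PiTensorProduct.lift Dm) ⊤ from (LinearMap.range_eq_map _)]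
    exact Module.Finite.fg_top.map _
  have hmem : ∀ x, Dm x ∈ 𝔞 := fun x => ⟨PiTensorProduct.tprod A x, PiTensorProduct.lift.tprod x⟩
  -- coordinates of `v y`
  have hco : ∀ (v : E →ₗ[A] E) (y : E),
      co (v y) = (LinearMap.toMatrix b b (v.baseChange K)) *ᵥ co y := by
    intro v y
    have h1 := LinearMap.toMatrix_mulVec_repr b b (v.baseChange K) (ι' y)
    have h2 : (v.baseChange K) (ι' y) = ι' (v y) := by
      show (v.baseChange K) ((1 : K) ⊗ₜ[A] y) = (1 : K) ⊗ₜ[A] v y
      exact LinearMap.baseChange_tmul _ _ _
    rw [h2] at h1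
    exact h1.symm
  -- invariance
  have hinv : ∀ (v : E →ₗ[A] E) (n : ℕ) (y : K), y ∈ 𝔞 →
      ((v.baseChange K).charpoly).coeff n * y ∈ 𝔞 := by
    intro v n y hy
    obtain ⟨z, rfl⟩ := hy
    induction z using PiTensorProduct.induction_on with
    | smul_tprod r x =>
      rw [map_smul, PiTensorProduct.lift.tprod, mul_smul_comm]
      refine 𝔞.smul_mem r ?_
      let P : Matrix ι ι K := fun j => co (x j)
      have hDmP : Dm x = P.det := rfl
      rw [mul_comm, hDmP]
      set V := LinearMap.toMatrix b b (v.baseChange K) with hVdef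
      have hV : (v.baseChange K).charpoly = V.charpoly :=
        (LinearMap.charpoly_toMatrix _ b).symm
      rw [hV]
      apply det_mul_coeff_mem
      intro s
      have hrow : (fun j => if j ∈ s then P j else (-(P * Vᵀ)) j) =
          fun j => co ((s.piecewise x (fun j => - v (x j))) j) := by
        ext j i
        by_cases hj : j ∈ s
        · simp [hj, P]
        · simp only [hj, if_false, Finset.piecewise_eq_of_notMem _ _ _ hj, map_neg,
            Matrix.neg_apply, Pi.neg_apply, hco, Matrix.mul_apply, Matrix.transpose_apply,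
            Matrix.mulVec, dotProduct]
          congr 1
          exact Finset.sum_congr rfl fun l _ => mul_comm _ _
      rw [hrow, ← hDm]
      exact hmem _
    | add z w hz hw =>
      rw [map_add, mul_add]
      exact 𝔞.add_mem hz hw
  -- a unit in `𝔞`
  have hunit : ∃ u ∈ 𝔞, IsUnit u := by
    have hsurj := fun i => IsLocalizedModule.surj (nonZeroDivisors A) ι' (b i)
    choose ys hys using hsurj
    refine ⟨Dm (fun i => (ys i).1), hmem _, ?_⟩
    rw [hDm]
    have hdiag : (fun j => co ((ys j).1)) =
        Matrix.diagonal (fun j => algebraMap A K ((ys j).2 : A)) := by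
      ext j i
      show b.equivFun (ι' (ys j).1) i = _
      rw [← hys j, Submonoid.smul_def, algebra_compatible_smul K ((ys j).2 : A) (b j), map_smul,
        Pi.smul_apply, Module.Basis.equivFun_self, smul_eq_mul, Matrix.diagonal_apply]
      by_cases hji : j = i
      · subst hji; simp
      · simp [hji, Pi.single_apply, Ne.symm hji]
    rw [hdiag, Matrix.det_diagonal]
    refine Finset.prod_induction _ IsUnit (fun _ _ => IsUnit.mul) isUnit_one fun j _ => ?_
    exact IsLocalization.map_units K (ys j).2
  obtain ⟨u, hu𝔞, hu⟩ := hunit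
  have hB : ∀ c ∈ Algebra.adjoin A {c : K | ∃ (v : E →ₗ[A] E) (j : ℕ),
      c = ((v.baseChange K).charpoly).coeff j}, ∀ y ∈ 𝔞, c * y ∈ 𝔞 := by
    intro c hc
    induction hc using Algebra.adjoin_induction with
    | mem c hc =>
      obtain ⟨v, j, rfl⟩ := hc
      exact hinv v j
    | algebraMap a =>
      intro y hy
      rw [← Algebra.smul_def]
      exact 𝔞.smul_mem a hy
    | add c d _ _ hc hd =>
      intro y hy
      rw [add_mul]
      exact 𝔞.add_mem (hc y hy) (hd y hy)
    | mul c d _ _ hc hd =>
      intro y hy
      rw [mul_assoc]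
      exact hc _ (hd y hy)
  obtain ⟨u', hu'⟩ := hu.exists_right_inv
  let m : K →ₗ[A] K := LinearMap.mulRight A u'
  have hle : Subalgebra.toSubmodule (Algebra.adjoin A {c : K | ∃ (v : E →ₗ[A] E) (j : ℕ),
      c = ((v.baseChange K).charpoly).coeff j}) ≤ 𝔞.map m := by
    intro c hc
    refine ⟨c * u, hB c hc u hu𝔞, ?_⟩
    simp [m, mul_assoc, hu']
  have hfg : (𝔞.map m).FG := h𝔞fg.map m
  exact (isNoetherian_submodule.mp (isNoetherian_of_fg_of_noetherian _ hfg)) _ hle

end Groth.Agent.H97.CharpolySub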