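import Mathlib
import Groth.Agent.H20.ComplMap
import Groth.Agent.H19.ComplFinite
import Groth.Agent.H97.ComplIso

/-!
# Completions for cofinal ideals, and finiteness of maps of completions

* `complMap_id_bijective`: if `I ≤ K` and `K ^ (k+1) ≤ I`, the `I`-adic and `K`-adic completions
  agree.
* `finite_complMap`: for a local homomorphism `R → S` of local rings with finitely generated
  maximal ideals and finite fibre `S/mS`, the map of completions is finite.
-/

namespace Groth.Agent.H97.ComplCofinal

open AdicCompletion

universe u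

section Cofinal

variable {S : Type u} [CommRing S] (I K : Ideal S)

theorem factorPow_evalₐ {m n : ℕ} (hle : m ≤ n) (x : AdicCompletion I S) :
    Ideal.Quotient.factorPow I hle (evalₐ I n x) = evalₐ I m x := by
  obtain ⟨c, rfl⟩ := AdicCompletion.mk_surjective I S x
  rw [evalₐ_mk, evalₐ_mk, Ideal.Quotient.factor_mk]
  exact AdicCompletion.Ideal.mk_eq_mk I hle c

theorem complMap_id_bijective (h : I.map (RingHom.id S) ≤ K) (k : ℕ) (hk : K ^ (k + 1) ≤ I) :
    Function.Bijective (FSch.complMap I K (RingHom.id S) h) := by
  have hpow : ∀ n, K ^ ((k + 1) * n) ≤ I ^ n := fun n => by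
    rw [pow_mul]; exact Ideal.pow_right_mono hk n
  have hle : ∀ n, n ≤ (k + 1) * n := fun n => Nat.le_mul_of_pos_left n (Nat.succ_pos k)
  constructor
  · rw [injective_iff_map_eq_zero]
    intro x hx
    apply ext_evalₐ
    intro n
    rw [_root_.map_zero]
    obtain ⟨s, hs⟩ := Ideal.Quotient.mk_surjective (evalₐ I ((k + 1) * n) x)
    have h1 := Groth.Agent.H20.evalₐ_complMap I K (RingHom.id S) h ((k + 1) * n) x
    rw [hx, _root_.map_zero, ← hs, Ideal.quotientMap_mk, RingHom.id_apply] at h1
    have hsK : s ∈ K ^ ((k + 1) * n) := Ideal.Quotient.eq_zero_iff_mem.mp h1.symm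
    rw [← factorPow_evalₐ I (hle n) x, ← hs, Ideal.Quotient.factor_mk,
      Ideal.Quotient.eq_zero_iff_mem]
    exact hpow n hsK
  · intro y
    obtain ⟨g, rfl⟩ := AdicCompletion.mk_surjective K S y
    let a : ℕ → S := fun n => g.val ((k + 1) * n)
    have hcauchy : ∀ n, a n ≡ a (n + 1) [SMOD (I ^ n • ⊤ : Submodule S S)] := by
      intro n
      rw [SModEq.sub_mem]
      have h1 : g.val ((k + 1) * n) - g.val ((k + 1) * (n + 1)) ∈ K ^ ((k + 1) * n) := by
        have := g.property (show (k + 1) * n ≤ (k + 1) * (n + 1) from
          Nat.mul_le_mul_left _ (Nat.le_succ n))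
        rw [SModEq.sub_mem] at this
        simpa using this
      simpa using hpow n h1
    refine ⟨AdicCompletion.mk I S (AdicCauchySequence.mk I S a hcauchy), ?_⟩
    apply ext_evalₐ
    intro n
    rw [Groth.Agent.H20.evalₐ_complMap, evalₐ_mk, evalₐ_mk]
    show Ideal.quotientMap (K ^ n) (RingHom.id S) _ (Ideal.Quotient.mk (I ^ n) (a n)) =
      Ideal.Quotient.mk (K ^ n) (g.val n)
    rw [Ideal.quotientMap_mk, RingHom.id_apply, Ideal.Quotient.eq]
    have := g.property (hle n)
    rw [SModEq.sub_mem] at this
    have h2 : g.val n - g.val ((k + 1) * n) ∈ K ^ n := by simpa using this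
    have h3 : a n - g.val n = -(g.val n - g.val ((k + 1) * n)) := by
      simp only [a]; ring
    rw [h3]
    exact (K ^ n).neg_mem h2

end Cofinal

section Fibre

variable {R S : Type u} [CommRing R] [CommRing S] [Algebra R S]

theorem finite_quotient_of_fiber (m : Ideal R) [m.IsMaximal]
    (hfib : Module.Finite m.ResidueField (m.Fiber S)) :
    Module.Finite R (S ⧸ m.map (algebraMap R S)) := by
  have h2 : Module.Finite R (m.Fiber S) := Module.Finite.trans m.ResidueField _
  let e1 : (R ⧸ m) ≃ₗ[R] m.ResidueField :=
    LinearEquiv.ofBijective (IsScalarTower.toAlgHom R (R ⧸ m) m.ResidueField).toLinearMap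
      m.bijective_algebraMap_quotient_residueField
  let e2 : m.Fiber S ≃ₗ[R] (S ⧸ (m • ⊤ : Submodule R S)) :=
    (TensorProduct.congr e1.symm (LinearEquiv.refl R S)) ≪≫ₗ
      TensorProduct.quotTensorEquivQuotSMul S m
  have h3 : Module.Finite R (S ⧸ (m • ⊤ : Submodule R S)) := Module.Finite.equiv e2
  let g : (S ⧸ (m • ⊤ : Submodule R S)) →ₗ[R] (S ⧸ m.map (algebraMap R S)) :=
    Submodule.liftQ _ (Ideal.Quotient.mkₐ R (m.map (algebraMap R S))).toLinearMap (by
      rw [Ideal.smul_top_eq_map]
      intro x hx
      rw [LinearMap.mem_ker]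
      exact Ideal.Quotient.eq_zero_iff_mem.mpr hx)
  refine Module.Finite.of_surjective g ?_
  intro y
  obtain ⟨s, rfl⟩ := Ideal.Quotient.mk_surjective y
  exact ⟨Submodule.Quotient.mk s, rfl⟩

theorem exists_pow_le_of_fiber [IsLocalRing R] [IsLocalRing S] [IsLocalHom (algebraMap R S)]
    (hfib : Module.Finite (IsLocalRing.maximalIdeal R).ResidueField
      ((IsLocalRing.maximalIdeal R).Fiber S)) :
    ∃ k : ℕ, IsLocalRing.maximalIdeal S ^ (k + 1) ≤
      (IsLocalRing.maximalIdeal R).map (algebraMap R S) := by
  set m := IsLocalRing.maximalIdeal R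
  set n := IsLocalRing.maximalIdeal S
  set I := m.map (algebraMap R S) with hI
  have hfin : Module.Finite R (S ⧸ I) := finite_quotient_of_fiber m hfib
  letI : Field (R ⧸ m) := Ideal.Quotient.field m
  have hfin' : Module.Finite (R ⧸ m) (S ⧸ I) := Module.Finite.of_restrictScalars_finite R _ _
  have hart : IsArtinianRing (S ⧸ I) := IsArtinianRing.of_finite (R ⧸ m) (S ⧸ I)
  obtain ⟨k, hk⟩ := IsArtinianRing.isNilpotent_jacobson_bot (R := S ⧸ I)
  have hjac : n.map (Ideal.Quotient.mk I) ≤ Ideal.jacobson (⊥ : Ideal (S ⧸ I)) := by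
    rw [Ideal.map_le_iff_le_comap]
    intro x hx
    rw [Ideal.mem_comap, Ideal.mem_jacobson_bot]
    intro y
    obtain ⟨y, rfl⟩ := Ideal.Quotient.mk_surjective y
    have h1 : IsUnit (x * y + 1) := by
      have hxy : x * y ∈ n := Ideal.mul_mem_right _ _ hx
      by_contra hnu
      have h2 : x * y + 1 ∈ n := (IsLocalRing.mem_maximalIdeal _).mpr hnu
      have h3 : (1 : S) ∈ n := by
        have := n.sub_mem h2 hxy
        simpa using this
      exact (Ideal.ne_top_iff_one n).mp (IsLocalRing.maximalIdeal.isMaximal S).ne_top h3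
    have := h1.map (Ideal.Quotient.mk I)
    simpa using this
  refine ⟨k, ?_⟩
  have h4 : (n ^ k).map (Ideal.Quotient.mk I) = ⊥ := by
    rw [Ideal.map_pow, eq_bot_iff, ← Ideal.zero_eq_bot, ← hk]
    exact Ideal.pow_right_mono hjac k
  have h5 : n ^ k ≤ I := by
    intro x hx
    have : Ideal.Quotient.mk I x ∈ (n ^ k).map (Ideal.Quotient.mk I) :=
      Ideal.mem_map_of_mem _ hx
    rw [h4, Ideal.mem_bot] at this
    exact Ideal.Quotient.eq_zero_iff_mem.mp this
  exact (Ideal.pow_le_pow_right (Nat.le_succ k)).trans h5

end Fibre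

section Finite

variable {R S : Type u} [CommRing R] [CommRing S] [Algebra R S] [IsLocalRing R] [IsLocalRing S]
  [IsLocalHom (algebraMap R S)]

theorem finite_complMap (hm : (IsLocalRing.maximalIdeal R).FG)
    (hn : (IsLocalRing.maximalIdeal S).FG)
    (hfib : Module.Finite (IsLocalRing.maximalIdeal R).ResidueField
      ((IsLocalRing.maximalIdeal R).Fiber S))
    (h : (IsLocalRing.maximalIdeal R).map (algebraMap R S) ≤ IsLocalRing.maximalIdeal S) :
    (FSch.complMap (IsLocalRing.maximalIdeal R) (IsLocalRing.maximalIdeal S)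
      (algebraMap R S) h).Finite := by
  classical
  obtain ⟨k, hk⟩ := exists_pow_le_of_fiber (R := R) (S := S) hfib
  have hfin : Module.Finite R (S ⧸ (IsLocalRing.maximalIdeal R).map (algebraMap R S)) :=
    finite_quotient_of_fiber _ hfib
  set m := IsLocalRing.maximalIdeal R with hmdef
  set n := IsLocalRing.maximalIdeal S with hndef
  set I := m.map (algebraMap R S) with hI
  set ψ := FSch.complMap m n (algebraMap R S) h with hψdef
  letI algψ : Algebra (AdicCompletion m R) (AdicCompletion n S) := ψ.toAlgebra
  show Module.Finite (AdicCompletion m R) (AdicCompletion n S)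
  set mh : Ideal (AdicCompletion m R) := m.map (algebraMap R (AdicCompletion m R)) with hmh
  set nh : Ideal (AdicCompletion n S) := n.map (algebraMap S (AdicCompletion n S)) with hnh
  set Ih : Ideal (AdicCompletion n S) := I.map (algebraMap S (AdicCompletion n S)) with hIh
  have hψof : ∀ r : R, ψ (algebraMap R (AdicCompletion m R) r) =
      algebraMap S (AdicCompletion n S) (algebraMap R S r) := fun r =>
    Groth.Agent.H20.complMap_of m n (algebraMap R S) h r
  have hcomp : ψ.comp (algebraMap R (AdicCompletion m R)) =
      (algebraMap S (AdicCompletion n S)).comp (algebraMap R S) := RingHom.ext hψof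
  have hmapψ : mh.map ψ = Ih := by
    rw [hmh, hIh, hI, Ideal.map_map, Ideal.map_map, hcomp]
  have hsmul : ∀ j : ℕ, ((mh ^ j) • ⊤ : Submodule (AdicCompletion m R) (AdicCompletion n S)) =
      (Ih ^ j).restrictScalars (AdicCompletion m R) := by
    intro j
    rw [Ideal.smul_top_eq_map]
    congr 1
    show (mh ^ j).map ψ = Ih ^ j
    rw [Ideal.map_pow, hmapψ]
  haveI hRc : IsAdicComplete mh (AdicCompletion m R) := AdicCompletion.isAdicComplete_self m hm
  haveI hSc : IsAdicComplete nh (AdicCompletion n S) := AdicCompletion.isAdicComplete_self n hn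
  have hIn : Ih ≤ nh := Ideal.map_mono h
  haveI hHaus : IsHausdorff mh (AdicCompletion n S) := by
    constructor
    intro y hy
    apply IsHausdorff.haus hSc.toIsHausdorff y
    intro j
    have h1 := hy j
    rw [SModEq.sub_mem, sub_zero] at h1 ⊢
    rw [hsmul j] at h1
    have h2 : y ∈ Ih ^ j := h1
    have h3 : y ∈ nh ^ j := Ideal.pow_right_mono hIn j h2
    simpa using h3
  -- the quotient is finite
  have hfinT : Module.Finite (AdicCompletion m R)
      (AdicCompletion n S ⧸ (mh • ⊤ : Submodule (AdicCompletion m R) (AdicCompletion n S))) := by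
    obtain ⟨r, s, hs⟩ := Module.Finite.exists_fin (R := R) (M := S ⧸ I)
    choose t ht using fun i => Ideal.Quotient.mk_surjective (s i)
    have hsm1 : (mh • ⊤ : Submodule (AdicCompletion m R) (AdicCompletion n S)) =
        Ih.restrictScalars (AdicCompletion m R) := by
      have := hsmul 1
      rwa [pow_one, pow_one] at this
    have hspan : Submodule.span (AdicCompletion m R) (Set.range fun i =>
        Submodule.Quotient.mk (p := (mh • ⊤ : Submodule (AdicCompletion m R) (AdicCompletion n S)))
          (algebraMap S (AdicCompletion n S) (t i))) = ⊤ := by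
      rw [eq_top_iff]
      rintro z -
      obtain ⟨y, rfl⟩ := Submodule.Quotient.mk_surjective _ z
      -- approximate y by an element of S
      obtain ⟨s0, hs0⟩ := Ideal.Quotient.mk_surjective (evalₐ n (k + 1) y)
      have hy1 : y - algebraMap S (AdicCompletion n S) s0 ∈ Ih := by
        have hker : y - algebraMap S (AdicCompletion n S) s0 ∈
            RingHom.ker (evalₐ n (k + 1) : AdicCompletion n S →+* S ⧸ n ^ (k + 1)) := by
          rw [RingHom.mem_ker]
          show evalₐ n (k + 1) (y - algebraMap S (AdicCompletion n S) s0) = 0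
          have : evalₐ n (k + 1) (algebraMap S (AdicCompletion n S) s0) =
              Ideal.Quotient.mk _ s0 := evalₐ_of n (k + 1) s0
          rw [map_sub, this, ← hs0, sub_self]
        rw [Groth.Agent.H97.ComplIso.ker_evalₐ n hn (k + 1), ← Ideal.map_pow] at hker
        exact Ideal.map_mono hk hker
      -- write s0 in terms of the generators
      have hs0' : Ideal.Quotient.mk I s0 ∈ Submodule.span R (Set.range s) := by
        rw [hs]; exact Submodule.mem_top
      obtain ⟨c, hc⟩ := (Submodule.mem_span_range_iff_exists_fun R).mp hs0'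
      have hdiff : s0 - ∑ i, algebraMap R S (c i) * t i ∈ I := by
        rw [← Ideal.Quotient.eq, map_sum, ← hc]
        refine Finset.sum_congr rfl fun i _ => ?_
        rw [map_mul, ht i, Algebra.smul_def]
        rfl
      have hy2 : y - ∑ i, algebraMap R (AdicCompletion m R) (c i) •
          algebraMap S (AdicCompletion n S) (t i) ∈ Ih := by
        have e1 : ∀ i, algebraMap R (AdicCompletion m R) (c i) •
            algebraMap S (AdicCompletion n S) (t i) =
            algebraMap S (AdicCompletion n S) (algebraMap R S (c i) * t i) := by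
          intro i
          rw [Algebra.smul_def, map_mul, ← hψof]
          rfl
        have e2 : y - ∑ i, algebraMap R (AdicCompletion m R) (c i) •
            algebraMap S (AdicCompletion n S) (t i) =
            (y - algebraMap S (AdicCompletion n S) s0) +
              algebraMap S (AdicCompletion n S) (s0 - ∑ i, algebraMap R S (c i) * t i) := by
          rw [map_sub, map_sum]
          simp only [e1]
          ring
        rw [e2]
        exact Ih.add_mem hy1 (Ideal.mem_map_of_mem _ hdiff)
      have hy3 : Submodule.Quotient.mk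
          (p := (mh • ⊤ : Submodule (AdicCompletion m R) (AdicCompletion n S))) y =
          ∑ i, algebraMap R (AdicCompletion m R) (c i) •
            Submodule.Quotient.mk
              (p := (mh • ⊤ : Submodule (AdicCompletion m R) (AdicCompletion n S)))
              (algebraMap S (AdicCompletion n S) (t i)) := by
        have hz : Submodule.mkQ
            (mh • ⊤ : Submodule (AdicCompletion m R) (AdicCompletion n S))
            (y - ∑ i, algebraMap R (AdicCompletion m R) (c i) •
              algebraMap S (AdicCompletion n S) (t i)) = 0 := by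
          rw [Submodule.mkQ_apply, Submodule.Quotient.mk_eq_zero, hsm1]
          exact hy2
        rw [map_sub, map_sum, sub_eq_zero] at hz
        rw [← Submodule.mkQ_apply, hz]
        refine Finset.sum_congr rfl fun i _ => ?_
        rw [map_smul]
        rfl
      rw [hy3]
      refine Submodule.sum_mem _ fun i _ => Submodule.smul_mem _ _ ?_
      exact Submodule.subset_span ⟨i, rfl⟩
    exact ⟨by rw [← hspan]; exact Submodule.fg_span (Set.finite_range _)⟩
  exact Groth.Agent.H19.ComplFinite.main mh hfinT

end Finite

end Groth.Agent.H97.ComplCofinal
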