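import Mathlib
import Groth.Agent.H97.ComplIso
import Groth.Agent.Lead.CompletionIAdic

/-!
# Surjectivity on completions, and the regular case
-/

namespace Groth.Agent.H97.ComplIso

open AdicCompletion

variable {A B : Type*} [CommRing A] [CommRing B] (I : Ideal A) (J : Ideal B) (φ : A →+* B)
  (ψ : AdicCompletion I A →+* AdicCompletion J B)
  (hψ : ∀ a, ψ (of I A a) = of J B (φ a))

theorem exists_mem_pow_sub_mem (hJ : J = I.map φ) (h1 : ∀ b : B, ∃ a, φ a - b ∈ J) (n : ℕ) :
    ∀ x ∈ J ^ n, ∃ a ∈ I ^ n, φ a - x ∈ J ^ (n + 1) := by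
  intro x hx
  have hJn : J ^ n = Ideal.span (φ '' (I ^ n : Ideal A)) := by
    rw [hJ, ← Ideal.map_pow]; rfl
  have hx' : x ∈ Submodule.span B (φ '' (I ^ n : Ideal A)) := by
    rw [hJn] at hx
    exact hx
  have hspan : ∀ y ∈ Submodule.span B (φ '' (I ^ n : Ideal A)), y ∈ J ^ n := by
    intro y hy
    rw [hJn]
    exact hy
  induction hx' using Submodule.span_induction with
  | mem y hy =>
    obtain ⟨i, hi, rfl⟩ := hy
    exact ⟨i, hi, by simp⟩
  | zero => exact ⟨0, Ideal.zero_mem _, by simp⟩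
  | add y z hy hz ihy ihz =>
    obtain ⟨a, hai, ha⟩ := ihy (hspan y hy)
    obtain ⟨a', hai', ha'⟩ := ihz (hspan z hz)
    refine ⟨a + a', Ideal.add_mem _ hai hai', ?_⟩
    have : φ (a + a') - (y + z) = (φ a - y) + (φ a' - z) := by rw [map_add]; ring
    rw [this]
    exact Ideal.add_mem _ ha ha'
  | smul c y hy ihy =>
    obtain ⟨ay, hayi, hay⟩ := ihy (hspan y hy)
    obtain ⟨ac, hac⟩ := h1 c
    refine ⟨ac * ay, Ideal.mul_mem_left _ _ hayi, ?_⟩
    have : φ (ac * ay) - c • y = φ ac * (φ ay - y) + (φ ac - c) * y := by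
      rw [map_mul, smul_eq_mul]; ring
    rw [this]
    refine Ideal.add_mem _ (Ideal.mul_mem_left _ _ hay) ?_
    rw [pow_succ']
    exact Ideal.mul_mem_mul hac (hspan y hy)

include hψ in
theorem surjective_of_map_eq (hI : I.FG) (hJ : J = I.map φ) (h1 : ∀ b : B, ∃ a, φ a - b ∈ J) :
    Function.Surjective ψ := by
  intro y
  obtain ⟨g, rfl⟩ := AdicCompletion.mk_surjective J B y
  have hg : ∀ n, g.val n - g.val (n + 1) ∈ J ^ n := by
    intro n
    have := g.property (Nat.le_succ n)
    rw [SModEq.sub_mem] at this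
    simpa using this
  -- the step
  have step : ∀ (n : ℕ) (p : {a : A // φ a - g.val n ∈ J ^ n}),
      ∃ p' : {a : A // φ a - g.val (n + 1) ∈ J ^ (n + 1)}, p'.1 - p.1 ∈ I ^ n := by
    intro n p
    have hx : g.val (n + 1) - φ p.1 ∈ J ^ n := by
      have : g.val (n + 1) - φ p.1 = -(g.val n - g.val (n + 1)) - (φ p.1 - g.val n) := by ring
      rw [this]
      exact (J ^ n).sub_mem ((J ^ n).neg_mem (hg n)) p.2
    obtain ⟨i, hi, hi'⟩ := exists_mem_pow_sub_mem I J φ hJ h1 n _ hx
    refine ⟨⟨p.1 + i, ?_⟩, by simpa using hi⟩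
    have : φ (p.1 + i) - g.val (n + 1) = φ i - (g.val (n + 1) - φ p.1) := by
      rw [map_add]; ring
    rw [this]
    exact hi'
  choose stepf hstepf using step
  let s : ∀ n, {a : A // φ a - g.val n ∈ J ^ n} := fun n =>
    Nat.rec ⟨0, by simp⟩ (fun n p => stepf n p) n
  have hs : ∀ n, (s (n + 1)).1 - (s n).1 ∈ I ^ n := fun n => hstepf n (s n)
  have hcauchy : ∀ n, (s n).1 ≡ (s (n + 1)).1 [SMOD (I ^ n • ⊤ : Submodule A A)] := by
    intro n
    rw [SModEq.sub_mem]
    have : (s n).1 - (s (n + 1)).1 = -((s (n + 1)).1 - (s n).1) := by ring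
    rw [this]
    simpa using (I ^ n).neg_mem (hs n)
  refine ⟨AdicCompletion.mk I A (AdicCauchySequence.mk I A (fun n => (s n).1) hcauchy), ?_⟩
  apply ext_evalₐ
  intro n
  rw [evalₐ_map_of_eq I J φ ψ hψ hI hJ.symm.le n _ (s n).1 (by rw [evalₐ_mk]; rfl), evalₐ_mk,
    Ideal.Quotient.eq]
  exact (s n).2


universe u

/-- `A` regular local, `B` Noetherian local of the same dimension, residue fields equal and
cotangent map surjective: any compatible map of completions is bijective. -/
theorem bijective_of_regular (A B : Type u) [CommRing A]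
    [CommRing B] [IsRegularLocalRing A] [IsLocalRing B] [IsNoetherianRing B] (φ : A →+* B)
    [IsLocalHom φ]
    (hk : Function.Surjective (IsLocalRing.ResidueField.map φ))
    (hdim : ringKrullDim B = ringKrullDim A)
    (hcot : IsLocalRing.maximalIdeal B ≤
      Ideal.map φ (IsLocalRing.maximalIdeal A) ⊔ IsLocalRing.maximalIdeal B ^ 2)
    (ψ : AdicCompletion (IsLocalRing.maximalIdeal A) A →+*
      AdicCompletion (IsLocalRing.maximalIdeal B) B)
    (hψ : ψ.comp (algebraMap A (AdicCompletion (IsLocalRing.maximalIdeal A) A)) =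
      (algebraMap B (AdicCompletion (IsLocalRing.maximalIdeal B) B)).comp φ) :
    Function.Bijective ψ := by
  have hψ' : ∀ a, ψ (of _ A a) = of _ B (φ a) := fun a => RingHom.congr_fun hψ a
  -- Nakayama: m_B = m_A B
  have hle : Ideal.map φ (IsLocalRing.maximalIdeal A) ≤ IsLocalRing.maximalIdeal B :=
    ((IsLocalRing.local_hom_TFAE φ).out 0 2).mp ‹IsLocalHom φ›
  have hm : IsLocalRing.maximalIdeal B = Ideal.map φ (IsLocalRing.maximalIdeal A) := by
    apply le_antisymm _ hle
    apply Submodule.le_of_le_smul_of_le_jacobson_bot (I := IsLocalRing.maximalIdeal B)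
      (IsNoetherian.noetherian _) (IsLocalRing.maximalIdeal_le_jacobson _)
    rw [smul_eq_mul, ← pow_two]
    exact hcot
  have h1 : ∀ b : B, ∃ a, φ a - b ∈ IsLocalRing.maximalIdeal B := by
    intro b
    obtain ⟨r, hr⟩ := hk (IsLocalRing.residue B b)
    obtain ⟨a, rfl⟩ := IsLocalRing.residue_surjective r
    refine ⟨a, ?_⟩
    rw [← IsLocalRing.residue_eq_zero_iff, map_sub, sub_eq_zero, ← hr]
    rfl
  have hsurj : Function.Surjective ψ :=
    surjective_of_map_eq _ _ φ ψ hψ' (IsNoetherian.noetherian _) hm h1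
  refine ⟨?_, hsurj⟩
  -- injectivity by dimension
  have : IsRegularLocalRing (AdicCompletion (IsLocalRing.maximalIdeal A) A) :=
    Groth.Agent.Lead.RLR.isRegularLocalRing_adicCompletion A
  have : IsDomain (AdicCompletion (IsLocalRing.maximalIdeal A) A) :=
    Groth.Agent.Lead.RLR.isDomain _
  have hdA : ringKrullDim (AdicCompletion (IsLocalRing.maximalIdeal A) A) = ringKrullDim A :=
    Groth.Agent.Lead.RLR.ringKrullDim_adicCompletion_eq A _ (Ideal.IsMaximal.ne_top inferInstance)
  have hdB : ringKrullDim (AdicCompletion (IsLocalRing.maximalIdeal B) B) = ringKrullDim B :=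
    Groth.Agent.Lead.RLR.ringKrullDim_adicCompletion_eq B _ (Ideal.IsMaximal.ne_top inferInstance)
  obtain ⟨d, hd, -⟩ := Groth.Agent.Lead.RLR.exists_ringKrullDim_eq A
  rw [injective_iff_map_eq_zero]
  intro x hx
  by_contra hx0
  have hnzd : x ∈ nonZeroDivisors (AdicCompletion (IsLocalRing.maximalIdeal A) A) :=
    mem_nonZeroDivisors_of_ne_zero hx0
  have h2 := ringKrullDim_quotient_succ_le_of_nonZeroDivisor hnzd
  -- B̂ is a quotient of Â/(x)
  let f : (AdicCompletion (IsLocalRing.maximalIdeal A) A ⧸ Ideal.span {x}) →+*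
      AdicCompletion (IsLocalRing.maximalIdeal B) B :=
    Ideal.Quotient.lift _ ψ (by
      intro y hy
      obtain ⟨z, rfl⟩ := Ideal.mem_span_singleton'.mp hy
      rw [map_mul, hx, mul_zero])
  have hf : Function.Surjective f := by
    intro y
    obtain ⟨z, rfl⟩ := hsurj y
    exact ⟨Ideal.Quotient.mk _ z, rfl⟩
  have h3 := ringKrullDim_le_of_surjective f hf
  rw [hdB, hdim, hd] at h3
  rw [hdA, hd] at h2
  have h4 : ((d : ℕ) : WithBot ℕ∞) + 1 ≤ d := (add_le_add_left h3 1).trans h2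
  have h5 : ((d + 1 : ℕ) : WithBot ℕ∞) ≤ d := by exact_mod_cast h4
  have h6 : d + 1 ≤ d := by exact_mod_cast h5
  omega

end Groth.Agent.H97.ComplIso
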