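import Mathlib
import Groth.Prelude.Def_W4c6puncthilbintroLift
import Groth.Agent.H97.DualFlat

/-!
# First-order liftings of an ideal over the dual numbers
-/

set_option autoImplicit false
universe u
open scoped TensorProduct
open TrivSqZeroExt DualNumber W4c6puncthilbintro

attribute [local instance] W4c6puncthilbintro.dualAlgebra
attribute [local instance] Groth.Agent.H97.DualFlat.fstAlgebra

namespace Groth.Agent.H97.DualLift

variable (A : Type u) [CommRing A] (R : Type u) [CommRing R] [Algebra A R]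

theorem dualMap_apply (l : DualNumber A) :
    dualMap A R l = inl (algebraMap A R l.fst) + inr (algebraMap A R l.snd) := by
  have h : l = inl l.fst + inl l.snd * ε := by
    ext <;> simp
  conv_lhs => rw [h]
  rw [map_add, map_mul, dualMap_inl, dualMap_inl, dualMap_eps, algebraMap_eq_inl',
    algebraMap_eq_inl']
  ext <;> simp [Algebra.algebraMap_eq_smul_one]

variable {R}

theorem smul_mk (J : Ideal (DualNumber R)) (l : DualNumber A) (x : DualNumber R) :
    l • (Ideal.Quotient.mk J x) = Ideal.Quotient.mk J (dualMap A R l * x) := rfl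

theorem eps_smul_mk (J : Ideal (DualNumber R)) (x : DualNumber R) :
    (ε : DualNumber A) • (Ideal.Quotient.mk J x) = Ideal.Quotient.mk J (inr x.fst) := by
  rw [smul_mk, dualMap_eps]
  congr 1
  ext <;> simp

theorem eq_add_inr (x : DualNumber R) : x = inl x.fst + inr x.snd := by
  ext <;> simp

theorem inr_eq_eps_mul (b : R) : (inr b : DualNumber R) = ε * inl b := by
  ext <;> simp

theorem mk_inr (J : Ideal (DualNumber R)) (b : R) :
    Ideal.Quotient.mk J (inr b) = (ε : DualNumber A) • Ideal.Quotient.mk J (inl b) := by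
  rw [eps_smul_mk]; simp

section Iso

variable (I : Ideal R) (J : Ideal (DualNumber R))
  (hJ1 : ∀ x ∈ J, x.fst ∈ I) (hJ2 : ∀ a ∈ I, ∃ x ∈ J, x.fst = a)

include hJ1 hJ2 in
/-- `A ⊗_{A[ε]} R[ε]/J` is flat over `A` when `R/I` is, `I` being the reduction of `J`. -/
theorem flat_tensor [Module.Flat A (R ⧸ I)] :
    Module.Flat A (A ⊗[DualNumber A] (DualNumber R ⧸ J)) := by
  letI : Module (DualNumber A) (R ⧸ I) :=
    Module.compHom (R ⧸ I) (TrivSqZeroExt.fstHom A A A : DualNumber A →+* A)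
  have hsm : ∀ (l : DualNumber A) (y : R ⧸ I), l • y = l.fst • y := fun _ _ => rfl
  haveI : IsScalarTower (DualNumber A) A (R ⧸ I) := by
    refine ⟨fun l a y => ?_⟩
    have h1 : l • a = l.fst * a := rfl
    rw [h1, hsm, mul_smul]
  -- forward map
  let g₀ : DualNumber R →ₗ[DualNumber A] R ⧸ I :=
    { toFun := fun x => Ideal.Quotient.mk I x.fst
      map_add' := fun x y => by simp
      map_smul' := fun l x => by
        rw [Algebra.smul_def, RingHom.id_apply, hsm]
        change Ideal.Quotient.mk I (dualMap A R l * x).fst = _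
        rw [dualMap_apply, TrivSqZeroExt.fst_mul]
        simp [Algebra.smul_def] }
  have hg₀ : J.restrictScalars (DualNumber A) ≤ LinearMap.ker g₀ := by
    intro x hx
    rw [LinearMap.mem_ker]
    exact Ideal.Quotient.eq_zero_iff_mem.mpr (hJ1 x hx)
  let g : (DualNumber R ⧸ J) →ₗ[DualNumber A] R ⧸ I :=
    Submodule.liftQ (J.restrictScalars (DualNumber A)) g₀ hg₀
  let fwd : A ⊗[DualNumber A] (DualNumber R ⧸ J) →ₗ[A] R ⧸ I := LinearMap.liftBaseChange A g
  -- backward map
  have hεone : (ε : DualNumber A) • (1 : A) = 0 := by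
    rw [Algebra.smul_def, Groth.Agent.H97.DualFlat.algebraMap_fst]; simp
  have hεa : ∀ a : A, (ε : DualNumber A) • a = 0 := by
    intro a
    rw [Algebra.smul_def, Groth.Agent.H97.DualFlat.algebraMap_fst]; simp
  have hkill : ∀ (a : A) (m : DualNumber R ⧸ J),
      a ⊗ₜ[DualNumber A] ((ε : DualNumber A) • m) = 0 := by
    intro a m
    have h := TensorProduct.smul_tmul (R := DualNumber A) (R' := DualNumber A)
      (ε : DualNumber A) a m
    rw [hεa, TensorProduct.zero_tmul] at h
    exact h.symm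
  let h₀ : R →ₗ[A] A ⊗[DualNumber A] (DualNumber R ⧸ J) :=
    { toFun := fun r => (1 : A) ⊗ₜ Ideal.Quotient.mk J (inl r)
      map_add' := fun r s => by rw [inl_add, map_add, TensorProduct.tmul_add]
      map_smul' := fun a r => by
        rw [RingHom.id_apply, TensorProduct.smul_tmul']
        have h1 : Ideal.Quotient.mk J (inl (a • r)) =
            (inl a : DualNumber A) • Ideal.Quotient.mk J (inl r) := by
          rw [smul_mk, dualMap_inl, algebraMap_eq_inl', ← inl_mul, Algebra.smul_def]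
        rw [h1]
        have h := TensorProduct.smul_tmul (R := DualNumber A) (R' := DualNumber A)
          (inl a : DualNumber A) (1 : A) (Ideal.Quotient.mk J (inl r))
        have h2 : (inl a : DualNumber A) • (1 : A) = a • (1 : A) := by
          rw [Algebra.smul_def, Groth.Agent.H97.DualFlat.algebraMap_fst]; simp
        rw [h2] at h
        exact h.symm }
  have hh₀ : I.restrictScalars A ≤ LinearMap.ker h₀ := by
    intro r hr
    rw [LinearMap.mem_ker]
    obtain ⟨x, hxJ, rfl⟩ := hJ2 r hr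
    change (1 : A) ⊗ₜ Ideal.Quotient.mk J (inl x.fst) = 0
    have h1 : Ideal.Quotient.mk J (inl x.fst) =
        (ε : DualNumber A) • Ideal.Quotient.mk J (-inl x.snd) := by
      rw [eps_smul_mk]
      have : inl x.fst - inr (-inl x.snd : DualNumber R).fst = x := by
        ext <;> simp
      rw [← sub_eq_zero, ← map_sub, this]
      exact Ideal.Quotient.eq_zero_iff_mem.mpr hxJ
    rw [h1, hkill]
  let inv : R ⧸ I →ₗ[A] A ⊗[DualNumber A] (DualNumber R ⧸ J) :=
    Submodule.liftQ (I.restrictScalars A) h₀ hh₀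
  have hleft : ∀ y, fwd (inv y) = y := by
    intro y
    obtain ⟨r, rfl⟩ := Ideal.Quotient.mk_surjective y
    change fwd ((1 : A) ⊗ₜ Ideal.Quotient.mk J (inl r)) = _
    rw [LinearMap.liftBaseChange_tmul, one_smul]
    rfl
  have hsurj : Function.Surjective inv := by
    intro t
    induction t using TensorProduct.induction_on with
    | zero => exact ⟨0, map_zero _⟩
    | tmul a m =>
      obtain ⟨x, rfl⟩ := Ideal.Quotient.mk_surjective m
      refine ⟨a • Ideal.Quotient.mk I x.fst, ?_⟩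
      rw [map_smul]
      change a • ((1 : A) ⊗ₜ Ideal.Quotient.mk J (inl x.fst)) = _
      rw [TensorProduct.smul_tmul', smul_eq_mul, mul_one]
      conv_rhs => rw [eq_add_inr x, map_add, mk_inr A, TensorProduct.tmul_add, hkill, add_zero]
    | add x y hx hy =>
      obtain ⟨x', rfl⟩ := hx
      obtain ⟨y', rfl⟩ := hy
      exact ⟨x' + y', map_add _ _ _⟩
  have hinj : Function.Injective inv := by
    intro y y' h
    rw [← hleft y, ← hleft y', h]
  exact Module.Flat.of_linearEquiv (LinearEquiv.ofBijective inv ⟨hinj, hsurj⟩).symm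

end Iso

section Main

variable (I : Ideal R)

theorem fstHom_surjective : Function.Surjective (TrivSqZeroExt.fstHom A R R) :=
  fun r => ⟨inl r, rfl⟩

theorem map_fst_eq_iff (J : Ideal (DualNumber R)) :
    Ideal.map (TrivSqZeroExt.fstHom A R R) J = I ↔
      (∀ x ∈ J, x.fst ∈ I) ∧ (∀ a ∈ I, ∃ x ∈ J, x.fst = a) := by
  constructor
  · intro h
    refine ⟨fun x hx => ?_, fun a ha => ?_⟩
    · rw [← h]; exact Ideal.mem_map_of_mem _ hx
    · rw [← h] at ha
      obtain ⟨x, hx, rfl⟩ := (Ideal.mem_map_iff_of_surjective _ (fstHom_surjective A)).mp ha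
      exact ⟨x, hx, rfl⟩
  · rintro ⟨h1, h2⟩
    ext a
    rw [Ideal.mem_map_iff_of_surjective _ (fstHom_surjective A)]
    constructor
    · rintro ⟨x, hx, rfl⟩; exact h1 x hx
    · intro ha
      obtain ⟨x, hx, rfl⟩ := h2 a ha
      exact ⟨x, hx, rfl⟩

variable {I}

theorem liftIdeal_fst (φ : I →ₗ[R] R ⧸ I) : ∀ x ∈ liftIdeal I φ, x.fst ∈ I :=
  fun _ hx => hx.1

theorem liftIdeal_exists (φ : I →ₗ[R] R ⧸ I) : ∀ a ∈ I, ∃ x ∈ liftIdeal I φ, x.fst = a := by
  intro a ha
  obtain ⟨b, hb⟩ := Ideal.Quotient.mk_surjective (φ ⟨a, ha⟩)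
  exact ⟨((a, b) : DualNumber R), ⟨ha, hb⟩, rfl⟩

/-- `inr a ∈ J` iff `a ∈ I`, for a flat lifting `J` of `I`. -/
theorem inr_mem_of_mem (J : Ideal (DualNumber R)) (hJ2 : ∀ a ∈ I, ∃ x ∈ J, x.fst = a)
    (a : R) (ha : a ∈ I) : (inr a : DualNumber R) ∈ J := by
  obtain ⟨x, hx, rfl⟩ := hJ2 a ha
  have : (inr x.fst : DualNumber R) = ε * x := by ext <;> simp
  rw [this]
  exact J.mul_mem_left _ hx

theorem mem_of_inr_mem (J : Ideal (DualNumber R)) (hJ1 : ∀ x ∈ J, x.fst ∈ I)
    [Module.Flat (DualNumber A) (DualNumber R ⧸ J)]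
    (a : R) (ha : (inr a : DualNumber R) ∈ J) : a ∈ I := by
  have h0 : (ε : DualNumber A) • Ideal.Quotient.mk J (inl a) = 0 := by
    rw [eps_smul_mk]
    simpa using Ideal.Quotient.eq_zero_iff_mem.mpr ha
  obtain ⟨m', hm'⟩ := Groth.Agent.H97.DualFlat.exists_eq_eps_smul_of_flat
    (A := A) (DualNumber R ⧸ J) _ h0
  obtain ⟨y, rfl⟩ := Ideal.Quotient.mk_surjective m'
  rw [eps_smul_mk, ← sub_eq_zero, ← map_sub, Ideal.Quotient.eq_zero_iff_mem] at hm'
  simpa using hJ1 _ hm'

theorem liftIdeal_cond (φ : I →ₗ[R] R ⧸ I) (m : DualNumber R ⧸ liftIdeal I φ)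
    (hm : (ε : DualNumber A) • m = 0) : ∃ m', m = (ε : DualNumber A) • m' := by
  obtain ⟨x, rfl⟩ := Ideal.Quotient.mk_surjective m
  rw [eps_smul_mk, Ideal.Quotient.eq_zero_iff_mem] at hm
  obtain ⟨h0, h1⟩ := hm
  have hx : x.fst ∈ I := by
    have h2 : (⟨(inr x.fst : DualNumber R).fst, h0⟩ : I) = 0 := by
      apply Subtype.ext; simp
    rw [h2, map_zero] at h1
    simpa using Ideal.Quotient.eq_zero_iff_mem.mp h1
  obtain ⟨b, hb⟩ := Ideal.Quotient.mk_surjective (φ ⟨x.fst, hx⟩)
  refine ⟨Ideal.Quotient.mk _ (inl (x.snd - b)), ?_⟩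
  rw [eps_smul_mk, ← sub_eq_zero, ← map_sub, Ideal.Quotient.eq_zero_iff_mem]
  set y := x - inr (inl (x.snd - b) : DualNumber R).fst with hy
  have hfst : y.fst = x.fst := by simp [hy]
  have hsnd : y.snd = b := by simp [hy]
  have hyI : y.fst ∈ I := hfst ▸ hx
  refine ⟨hyI, ?_⟩
  rw [hsnd, hb]
  congr 1
  exact Subtype.ext hfst.symm

theorem liftIdeal_injective : Function.Injective (liftIdeal I) := by
  intro φ ψ h
  ext ⟨a, ha⟩
  obtain ⟨b, hb⟩ := Ideal.Quotient.mk_surjective (φ ⟨a, ha⟩)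
  have h1 : ((a, b) : DualNumber R) ∈ liftIdeal I φ := ⟨ha, hb⟩
  rw [h] at h1
  obtain ⟨_, h2⟩ := h1
  rw [← hb]
  exact h2

theorem exists_eq_liftIdeal (J : Ideal (DualNumber R))
    [Module.Flat (DualNumber A) (DualNumber R ⧸ J)]
    (hJ1 : ∀ x ∈ J, x.fst ∈ I) (hJ2 : ∀ a ∈ I, ∃ x ∈ J, x.fst = a) :
    ∃ φ : I →ₗ[R] R ⧸ I, J = liftIdeal I φ := by
  -- uniqueness of the second component modulo `I`
  have hU : ∀ x ∈ J, ∀ x' ∈ J, x.fst = x'.fst →
      Ideal.Quotient.mk I x.snd = Ideal.Quotient.mk I x'.snd := by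
    intro x hx x' hx' h
    rw [← sub_eq_zero, ← map_sub, Ideal.Quotient.eq_zero_iff_mem]
    apply mem_of_inr_mem A J hJ1
    have : (inr (x.snd - x'.snd) : DualNumber R) = x - x' := by
      ext
      · simp [h]
      · simp
    rw [this]
    exact J.sub_mem hx hx'
  choose c hcJ hcfst using hJ2
  let φ : I →ₗ[R] R ⧸ I :=
    { toFun := fun a => Ideal.Quotient.mk I (c a.1 a.2).snd
      map_add' := fun a b => by
        rw [← map_add, ← TrivSqZeroExt.snd_add]
        exact hU _ (hcJ _ _) _ (J.add_mem (hcJ _ a.2) (hcJ _ b.2))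
          (by rw [hcfst, TrivSqZeroExt.fst_add, hcfst, hcfst]; rfl)
      map_smul' := fun r a => by
        rw [RingHom.id_apply, Algebra.smul_def, Ideal.Quotient.algebraMap_eq, ← map_mul]
        have h1 : (inl r * c a.1 a.2 : DualNumber R) ∈ J := J.mul_mem_left _ (hcJ _ a.2)
        have h2 : (inl r * c a.1 a.2 : DualNumber R).snd = r * (c a.1 a.2).snd := by simp
        rw [← h2]
        exact hU _ (hcJ _ _) _ h1 (by rw [hcfst]; simp [hcfst]) }
  refine ⟨φ, ?_⟩
  ext x
  constructor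
  · intro hx
    exact ⟨hJ1 x hx, hU _ hx _ (hcJ _ _) (hcfst _ _).symm⟩
  · rintro ⟨hx1, hx2⟩
    have h3 : x.snd - (c x.fst hx1).snd ∈ I := by
      rw [← Ideal.Quotient.eq_zero_iff_mem, map_sub, sub_eq_zero]
      exact hx2
    have h4 := inr_mem_of_mem J (fun a ha => ⟨c a ha, hcJ a ha, hcfst a ha⟩) _ h3
    have : x = c x.fst hx1 + inr (x.snd - (c x.fst hx1).snd) := by
      ext
      · simp [hcfst]
      · simp
    rw [this]
    exact J.add_mem (hcJ _ _) h4

end Main

end Groth.Agent.H97.DualLift
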