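import Mathlib

/-!
Étale neighbourhoods of `V(I)` in `Spec A` form a filtered category.
-/

set_option autoImplicit false
universe u

namespace Groth.Agent.H97.EtNbhd

open TensorProduct

variable {A : Type u} [CommRing A] (I : Ideal A)

/-- Elementwise form of "`A/I → A'/IA'` is bijective". -/
def IsNbhd (A' : Type u) [CommRing A'] [Algebra A A'] : Prop :=
  (∀ x : A', ∃ a : A, x - algebraMap A A' a ∈ I.map (algebraMap A A')) ∧
    Nonempty (A' →ₐ[A] A ⧸ I)

lemma map_le_ker {A' : Type u} [CommRing A'] [Algebra A A'] (ρ : A' →ₐ[A] A ⧸ I) :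
    I.map (algebraMap A A') ≤ RingHom.ker ρ.toRingHom := by
  rw [Ideal.map_le_iff_le_comap]
  intro a ha
  rw [Ideal.mem_comap, RingHom.mem_ker]
  show ρ (algebraMap A A' a) = 0
  rw [ρ.commutes, Ideal.Quotient.algebraMap_eq, Ideal.Quotient.eq_zero_iff_mem]
  exact ha

lemma bijective_iff (A' : Type u) [CommRing A'] [Algebra A A'] :
    Function.Bijective (Ideal.quotientMap (I.map (algebraMap A A')) (algebraMap A A')
      Ideal.le_comap_map) ↔ IsNbhd I A' := by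
  constructor
  · intro hbij
    refine ⟨fun x => ?_, ?_⟩
    · obtain ⟨y, hy⟩ := hbij.2 (Ideal.Quotient.mk _ x)
      obtain ⟨a, rfl⟩ := Ideal.Quotient.mk_surjective y
      refine ⟨a, ?_⟩
      rw [Ideal.quotientMap_mk] at hy
      exact Ideal.Quotient.eq.mp hy.symm
    · let E : A ⧸ I ≃+* A' ⧸ I.map (algebraMap A A') := RingEquiv.ofBijective _ hbij
      let ρ0 : A' →+* A ⧸ I := E.symm.toRingHom.comp (Ideal.Quotient.mk _)
      refine ⟨{ ρ0 with commutes' := fun a => ?_ }⟩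
      show E.symm (Ideal.Quotient.mk _ (algebraMap A A' a)) = algebraMap A (A ⧸ I) a
      rw [RingEquiv.symm_apply_eq]
      show _ = Ideal.quotientMap (I.map (algebraMap A A')) (algebraMap A A')
        Ideal.le_comap_map (Ideal.Quotient.mk I a)
      rw [Ideal.quotientMap_mk]
  · rintro ⟨hsurj, ⟨ρ⟩⟩
    constructor
    · apply Ideal.quotientMap_injective'
      intro a ha
      rw [Ideal.mem_comap] at ha
      have := map_le_ker I ρ ha
      rw [RingHom.mem_ker] at this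
      have h2 : ρ (algebraMap A A' a) = 0 := this
      rw [ρ.commutes, Ideal.Quotient.algebraMap_eq, Ideal.Quotient.eq_zero_iff_mem] at h2
      exact h2
    · intro y
      obtain ⟨x, rfl⟩ := Ideal.Quotient.mk_surjective y
      obtain ⟨a, ha⟩ := hsurj x
      refine ⟨Ideal.Quotient.mk I a, ?_⟩
      rw [Ideal.quotientMap_mk]
      exact (Ideal.Quotient.eq.mpr ha).symm


/-- Uniqueness of the retraction to `A/I`. -/
lemma algHom_eq {A' : Type u} [CommRing A'] [Algebra A A']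
    (hs : ∀ x : A', ∃ a : A, x - algebraMap A A' a ∈ I.map (algebraMap A A'))
    (ρ ρ' : A' →ₐ[A] A ⧸ I) : ρ = ρ' := by
  ext x
  obtain ⟨a, ha⟩ := hs x
  have h1 : ρ (x - algebraMap A A' a) = 0 := by
    have := map_le_ker I ρ ha
    rwa [RingHom.mem_ker] at this
  have h2 : ρ' (x - algebraMap A A' a) = 0 := by
    have := map_le_ker I ρ' ha
    rwa [RingHom.mem_ker] at this
  rw [map_sub, sub_eq_zero] at h1 h2
  rw [h1, h2, ρ.commutes, ρ'.commutes]

lemma tmul_algebraMap (A₁ A₂ : Type u) [CommRing A₁] [Algebra A A₁] [CommRing A₂] [Algebra A A₂]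
    (a₁ a₂ : A) :
    algebraMap A A₁ a₁ ⊗ₜ[A] algebraMap A A₂ a₂ = algebraMap A (A₁ ⊗[A] A₂) (a₁ * a₂) := by
  calc algebraMap A A₁ a₁ ⊗ₜ[A] algebraMap A A₂ a₂
      = algebraMap A A₁ a₁ ⊗ₜ[A] (a₂ • (1 : A₂)) := by rw [Algebra.algebraMap_eq_smul_one a₂]
    _ = (a₂ • algebraMap A A₁ a₁) ⊗ₜ[A] (1 : A₂) := (TensorProduct.smul_tmul _ _ _).symm
    _ = algebraMap A A₁ (a₁ * a₂) ⊗ₜ[A] (1 : A₂) := by
        rw [Algebra.smul_def, ← map_mul, mul_comm]
    _ = algebraMap A (A₁ ⊗[A] A₂) (a₁ * a₂) :=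
        (Algebra.TensorProduct.algebraMap_apply _).symm

lemma isNbhd_tensor (A₁ A₂ : Type u) [CommRing A₁] [Algebra A A₁] [CommRing A₂] [Algebra A A₂]
    (h₁ : IsNbhd I A₁) (h₂ : IsNbhd I A₂) : IsNbhd I (A₁ ⊗[A] A₂) := by
  obtain ⟨hs₁, ⟨ρ₁⟩⟩ := h₁
  obtain ⟨hs₂, ⟨ρ₂⟩⟩ := h₂
  refine ⟨?_, ⟨Algebra.TensorProduct.lift ρ₁ ρ₂ (fun _ _ => Commute.all _ _)⟩⟩
  set J := I.map (algebraMap A (A₁ ⊗[A] A₂)) with hJ
  have hl : ∀ (x₁ : A₁) (x₂ : A₂), x₁ ∈ I.map (algebraMap A A₁) → x₁ ⊗ₜ[A] x₂ ∈ J := by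
    intro x₁ x₂ hx₁
    have h1 : x₁ ⊗ₜ[A] x₂ =
        (Algebra.TensorProduct.includeLeft : A₁ →ₐ[A] A₁ ⊗[A] A₂) x₁ * ((1 : A₁) ⊗ₜ[A] x₂) := by
      simp
    rw [h1]
    apply Ideal.mul_mem_right
    have hle : (I.map (algebraMap A A₁)).map
        (Algebra.TensorProduct.includeLeft : A₁ →ₐ[A] A₁ ⊗[A] A₂).toRingHom ≤ J := by
      rw [Ideal.map_map, hJ]
      apply le_of_eq
      congr 1
    exact hle (Ideal.mem_map_of_mem _ hx₁)
  have hr : ∀ (x₁ : A₁) (x₂ : A₂), x₂ ∈ I.map (algebraMap A A₂) → x₁ ⊗ₜ[A] x₂ ∈ J := by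
    intro x₁ x₂ hx₂
    have h1 : x₁ ⊗ₜ[A] x₂ =
        (Algebra.TensorProduct.includeRight : A₂ →ₐ[A] A₁ ⊗[A] A₂) x₂ * (x₁ ⊗ₜ[A] (1 : A₂)) := by
      simp
    rw [h1]
    apply Ideal.mul_mem_right
    have hle : (I.map (algebraMap A A₂)).map
        (Algebra.TensorProduct.includeRight : A₂ →ₐ[A] A₁ ⊗[A] A₂).toRingHom ≤ J := by
      rw [Ideal.map_map, hJ]
      apply le_of_eq
      congr 1
      first
        | done
        | exact (Algebra.TensorProduct.includeRight : A₂ →ₐ[A] A₁ ⊗[A] A₂).comp_algebraMap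
    exact hle (Ideal.mem_map_of_mem _ hx₂)
  intro x
  induction x using TensorProduct.induction_on with
  | zero => exact ⟨0, by simp⟩
  | tmul x₁ x₂ =>
    obtain ⟨a₁, h₁⟩ := hs₁ x₁
    obtain ⟨a₂, h₂⟩ := hs₂ x₂
    refine ⟨a₁ * a₂, ?_⟩
    have : x₁ ⊗ₜ[A] x₂ - algebraMap A (A₁ ⊗[A] A₂) (a₁ * a₂) =
        (x₁ - algebraMap A A₁ a₁) ⊗ₜ[A] x₂ +
          (algebraMap A A₁ a₁) ⊗ₜ[A] (x₂ - algebraMap A A₂ a₂) := by
      rw [sub_tmul, tmul_sub, tmul_algebraMap]
      abel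
    rw [this]
    exact J.add_mem (hl _ _ h₁) (hr _ _ h₂)
  | add x y hx hy =>
    obtain ⟨a, ha⟩ := hx
    obtain ⟨b, hb⟩ := hy
    refine ⟨a + b, ?_⟩
    have : x + y - algebraMap A (A₁ ⊗[A] A₂) (a + b) =
        (x - algebraMap A (A₁ ⊗[A] A₂) a) + (y - algebraMap A (A₁ ⊗[A] A₂) b) := by
      rw [map_add]; abel
    rw [this]
    exact J.add_mem ha hb


lemma exists_equalizer (A₁ A₂ : Type u) [CommRing A₁] [Algebra A A₁] [Algebra.Etale A A₁]
    [CommRing A₂] [Algebra A A₂] [Algebra.Etale A A₂]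
    (h₁ : IsNbhd I A₁) (h₂ : IsNbhd I A₂) (f g : A₁ →ₐ[A] A₂) :
    ∃ (A₃ : Type u) (_ : CommRing A₃) (_ : Algebra A A₃) (_ : Algebra.Etale A A₃),
      IsNbhd I A₃ ∧ ∃ h : A₂ →ₐ[A] A₃, h.comp f = h.comp g := by
  obtain ⟨hs₁, ⟨ρ₁⟩⟩ := h₁
  obtain ⟨hs₂, ⟨ρ₂⟩⟩ := h₂
  obtain ⟨e, he, hsp⟩ : ∃ e, IsIdempotentElem e ∧
      KaehlerDifferential.ideal A A₁ = Ideal.span {e} :=
    (Ideal.isIdempotentElem_iff_of_fg _ (KaehlerDifferential.ideal_fg A A₁)).mp <|
      (Ideal.cotangent_subsingleton_iff _).mp <| inferInstanceAs <| Subsingleton Ω[A₁⁄A]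
  let fg : A₁ ⊗[A] A₁ →ₐ[A] A₂ := Algebra.TensorProduct.lift f g (fun _ _ => Commute.all _ _)
  set e' := fg e with he'def
  have he' : IsIdempotentElem e' := he.map fg
  have hunit : algebraMap A₂ (Localization.Away (1 - e')) (1 - e') = 1 := by
    have hu : IsUnit (algebraMap A₂ (Localization.Away (1 - e')) (1 - e')) :=
      IsLocalization.Away.algebraMap_isUnit (1 - e')
    have hid : IsIdempotentElem (algebraMap A₂ (Localization.Away (1 - e')) (1 - e')) :=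
      he'.one_sub.map _
    exact (IsIdempotentElem.iff_eq_one_of_isUnit hu).mp hid
  have hzero : algebraMap A₂ (Localization.Away (1 - e')) e' = 0 := by
    have := hunit
    rw [map_sub, map_one, sub_eq_self] at this
    exact this
  -- the kernel of multiplication
  have hmem : ∀ z : A₁ ⊗[A] A₁, Algebra.TensorProduct.lmul' A z = 0 → ∃ c, z = c * e := by
    intro z hz
    have : z ∈ KaehlerDifferential.ideal A A₁ := hz
    rw [hsp, Ideal.mem_span_singleton] at this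
    obtain ⟨c, rfl⟩ := this
    exact ⟨c, mul_comm _ _⟩
  have hρ : ρ₂.comp fg = ρ₁.comp (Algebra.TensorProduct.lmul' A) := by
    have hf : ρ₂.comp f = ρ₁ := algHom_eq I hs₁ _ _
    have hg : ρ₂.comp g = ρ₁ := algHom_eq I hs₁ _ _
    apply Algebra.TensorProduct.ext'
    intro x y
    simp only [AlgHom.comp_apply, fg, Algebra.TensorProduct.lift_tmul,
      Algebra.TensorProduct.lmul'_apply_tmul, map_mul]
    rw [← AlgHom.congr_fun hf x, ← AlgHom.congr_fun hg y]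
    rfl
  have hρe : ρ₂ e' = 0 := by
    have h1 := AlgHom.congr_fun hρ e
    simp only [AlgHom.comp_apply] at h1
    rw [he'def, h1]
    have : Algebra.TensorProduct.lmul' A e = 0 := by
      have : e ∈ KaehlerDifferential.ideal A A₁ := by
        rw [hsp]; exact Ideal.mem_span_singleton_self e
      exact this
    rw [this, map_zero]
  refine ⟨Localization.Away (1 - e'), inferInstance, inferInstance,
    Algebra.Etale.comp A A₂ (Localization.Away (1 - e')), ⟨?_, ?_⟩,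
    IsScalarTower.toAlgHom A A₂ (Localization.Away (1 - e')), ?_⟩
  · intro x
    obtain ⟨k, y, hy⟩ := IsLocalization.Away.surj (1 - e') x
    rw [hunit, one_pow, mul_one] at hy
    obtain ⟨a, ha⟩ := hs₂ y
    refine ⟨a, ?_⟩
    have h1 : x - algebraMap A (Localization.Away (1 - e')) a =
        algebraMap A₂ (Localization.Away (1 - e')) (y - algebraMap A A₂ a) := by
      rw [map_sub, ← hy, ← IsScalarTower.algebraMap_apply]
    rw [h1, IsScalarTower.algebraMap_eq A A₂ (Localization.Away (1 - e')), ← Ideal.map_map]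
    exact Ideal.mem_map_of_mem _ ha
  · have hu : IsUnit (ρ₂ (1 - e')) := by
      rw [map_sub, map_one, hρe, sub_zero]
      exact isUnit_one
    exact ⟨IsLocalization.Away.liftAlgHom (1 - e') hu⟩
  · ext x
    simp only [AlgHom.comp_apply, IsScalarTower.coe_toAlgHom']
    have h1 : Algebra.TensorProduct.lmul' A (x ⊗ₜ[A] (1 : A₁) - (1 : A₁) ⊗ₜ[A] x) = 0 := by
      simp
    obtain ⟨c, hc⟩ := hmem _ h1
    have h2 : f x - g x = fg c * e' := by
      have := congrArg fg hc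
      simp only [map_sub, map_mul, fg, Algebra.TensorProduct.lift_tmul, map_one, mul_one,
        one_mul] at this
      rw [this]
    rw [← sub_eq_zero, ← map_sub, h2, map_mul, hzero, mul_zero]

end Groth.Agent.H97.EtNbhd
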