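import Mathlib

/-!
# Ext chase along an exact chain complex

For an exact sequence `0 → F_r → ⋯ → F_1 → F_0 → 0` in an abelian category with
`Ext^{j-1}(Z, F_j) = 0` for `2 ≤ j ≤ r`, every morphism `Z ⟶ F_0` lifts to `F_1`.
-/

set_option autoImplicit false
universe w v u
open CategoryTheory Limits Abelian

namespace Groth.Agent.H97.ExtChase

variable {A : Type u} [Category.{v} A] [Abelian A] [HasExt.{w} A]

lemma ext_eq_zero_of_isZero {Z Y : A} (hY : IsZero Y) {n : ℕ} (x : Ext Z Y n) : x = 0 := by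
  have h1 : x = x.comp (Ext.mk₀ (𝟙 Y)) (add_zero n) := by simp
  rw [h1, hY.eq_of_src (𝟙 Y) 0, Ext.mk₀_zero, Ext.comp_zero]

/-- the short exact sequence `0 → ker d' → P' → ker d → 0` of an exact pair -/
lemma shortExact_kernels {P' P Q : A} (d' : P' ⟶ P) (d : P ⟶ Q) (w : d' ≫ d = 0)
    (hex : (ShortComplex.mk d' d w).Exact) :
    (ShortComplex.mk (kernel.ι d') (kernel.lift d d' w)
      (by rw [← cancel_mono (kernel.ι d)]; simp)).ShortExact := by
  have hepi : Epi (kernel.lift d d' w) := hex.epi_kernelLift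
  refine { exact := ?_, mono_f := inferInstance, epi_g := hepi }
  apply ShortComplex.exact_of_f_is_kernel
  refine KernelFork.IsLimit.ofι _ _ (fun {W} g hg => kernel.lift d' g ?_) ?_ ?_
  · have := hg =≫ kernel.ι d
    simpa using this
  · intro W g hg
    simp
  · intro W g hg m hm
    rw [← cancel_mono (kernel.ι d')]
    simpa using hm

lemma step {P' P Q : A} (d' : P' ⟶ P) (d : P ⟶ Q) (w : d' ≫ d = 0)
    (hex : (ShortComplex.mk d' d w).Exact) (Z : A) (n : ℕ)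
    (h1 : ∀ x : Ext Z P' n, x = 0) (h2 : ∀ x : Ext Z (kernel d') (n + 1), x = 0)
    (x : Ext Z (kernel d) n) : x = 0 := by
  have hS := shortExact_kernels d' d w hex
  obtain ⟨x₂, hx₂⟩ := Ext.covariant_sequence_exact₃ Z hS x rfl (h2 _)
  rw [← hx₂, h1 x₂, Ext.zero_comp]

lemma final {P Q : A} (d : P ⟶ Q) [Epi d] (Z : A) (h : ∀ x : Ext Z (kernel d) 1, x = 0)
    (σ : Z ⟶ Q) : ∃ ψ : Z ⟶ P, ψ ≫ d = σ := by
  have hS : (ShortComplex.mk (kernel.ι d) d (by simp)).ShortExact :=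
    { exact := ShortComplex.exact_kernel d }
  obtain ⟨x₂, hx₂⟩ := Ext.covariant_sequence_exact₃ Z hS (Ext.mk₀ σ) rfl (h _)
  obtain ⟨ψ, rfl⟩ := (Ext.mk₀_bijective Z P).2 x₂
  refine ⟨ψ, ?_⟩
  apply (Ext.mk₀_bijective Z Q).1
  rw [← hx₂, Ext.mk₀_comp_mk₀]

theorem exists_lift (F : ChainComplex A ℕ) (Z : A) (s : ℕ)
    (hmono : Mono (F.d (s + 1) s)) (hepi : Epi (F.d 1 0))
    (hex : ∀ i : ℕ, i + 1 ≤ s → (F.sc' (i + 2) (i + 1) i).Exact)
    (hvan : ∀ i : ℕ, i + 1 ≤ s → ∀ x : Ext Z (F.X (i + 2)) (i + 1), x = 0)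
    (σ : Z ⟶ F.X 0) : ∃ ψ : Z ⟶ F.X 1, ψ ≫ F.d 1 0 = σ := by
  have key : ∀ m i : ℕ, i + m = s → ∀ x : Ext Z (kernel (F.d (i + 1) i)) (i + 1), x = 0 := by
    intro m
    induction m with
    | zero =>
      intro i hi x
      obtain rfl : i = s := by omega
      exact ext_eq_zero_of_isZero (isZero_kernel_of_mono _) x
    | succ m ih =>
      intro i hi x
      have h2 := ih (i + 1) (by omega)
      exact step (F.d (i + 2) (i + 1)) (F.d (i + 1) i) (F.d_comp_d _ _ _) (hex i (by omega)) Z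
        (i + 1) (hvan i (by omega)) h2 x
  exact final (F.d 1 0) Z (key s 0 (by omega)) σ

end Groth.Agent.H97.ExtChase
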