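import Mathlib
import Groth.Agent.H31.ExtInvertible
import Groth.Agent.H31.ModH
import Groth.Agent.H31.ModExt
import Groth.Agent.H18.ProjSpaceVanish
import Groth.Agent.H18.TwistTensor
import Groth.Agent.H18.TwistGenCover
import Groth.Agent.H18.TwistPow
import Groth.Agent.H45.SheafTensor.FlatExact

/-!
# `Ext^i(O(b), O(a)) = 0` on projective space from `H^i(O(a - b)) = 0` (helper97)
-/

set_option autoImplicit false
universe u
open CategoryTheory CategoryTheory.Limits AlgebraicGeometry Abelian

namespace Groth.Agent.H97.ExtTwist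

section Abstract

universe w v u'

variable {C : Type u'} [Category.{v} C] [Abelian C]

/-- `Ext` being trivial is invariant under isomorphisms in both variables -/
lemma subsingleton_ext_of_iso [HasExt.{w} C] {X X' Y Y' : C} (eX : X ≅ X') (eY : Y ≅ Y') (n : ℕ)
    (h : Subsingleton (Ext.{w} X' Y' n)) : Subsingleton (Ext.{w} X Y n) := by
  refine ⟨fun a b => ?_⟩
  have key : ∀ x : Ext.{w} X Y n, x = (Ext.mk₀ eX.hom).comp
      (((Ext.mk₀ eX.inv).comp (x.comp (Ext.mk₀ eY.hom) (add_zero n)) (zero_add n)).comp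
        (Ext.mk₀ eY.inv) (add_zero n)) (zero_add n) := by
    intro x
    simp [Ext.comp_assoc_of_third_deg_zero, Ext.mk₀_comp_mk₀,
      ← Ext.comp_assoc_of_second_deg_zero]
  rw [key a, key b]
  congr 2
  exact Subsingleton.elim _ _

/-- `Ext` being trivial can be tested after applying an equivalence -/
lemma subsingleton_ext_of_equivalence [HasExt.{w} C] [EnoughInjectives C] (F : C ≌ C)
    [F.functor.Additive] (X Y : C) (n : ℕ)
    (h : Subsingleton (Ext.{w} (F.functor.obj X) (F.functor.obj Y) n)) :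
    Subsingleton (Ext.{w} X Y n) := by
  have hb := Functor.mapExt_bijective_of_preservesInjectiveObjects.{w, w} F.functor X Y n
  exact hb.injective.subsingleton

/-- a short exact sequence with `Ext¹(X₃, X₁) = 0` splits -/
lemma nonempty_splitting_of_subsingleton_ext [HasExt.{w} C] (S : ShortComplex C)
    (hS : S.ShortExact) (h : Subsingleton (Ext.{w} S.X₃ S.X₁ 1)) : Nonempty S.Splitting := by
  obtain ⟨x₂, hx₂⟩ := Ext.covariant_sequence_exact₃ S.X₃ hS (Ext.mk₀ (𝟙 S.X₃)) (zero_add 1)
    (Subsingleton.elim _ _)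
  obtain ⟨s, rfl⟩ := Ext.addEquiv₀.symm.surjective x₂
  have hs : s ≫ S.g = 𝟙 S.X₃ := by
    have h1 : Ext.mk₀ (s ≫ S.g) = Ext.mk₀ (𝟙 S.X₃) := by
      rw [← hx₂]
      change _ = (Ext.mk₀ s).comp (Ext.mk₀ S.g) (add_zero 0)
      rw [Ext.mk₀_comp_mk₀]
    exact Ext.addEquiv₀.symm.injective h1
  have := hS.mono_f
  exact ⟨ShortComplex.Splitting.ofExactOfSection S hS.exact s hs inferInstance⟩

end Abstract

section Scheme

open Groth.Agent.H31 Groth.Agent.H45

variable {X : Scheme.{u}}

instance additive_T (I : X.Modules) :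
    (ExtInvertible.T X.sheaf I).Additive :=
  Functor.additive_of_iso ((tensorBiFlipIso X.sheaf).app I)

/-- `Ext(M, N) = 0` if `Ext(M ⊗ I, N ⊗ I) = 0` for an invertible `I` (with inverse `L`) -/
theorem subsingleton_ext_of_tensor [HasExt.{u} X.Modules]
    (M N I L M' N' : X.Modules) (e : CohB1.tensorMod L I ≅ Coh.structureModule X)
    (eM : CohB1.tensorMod M I ≅ M') (eN : CohB1.tensorMod N I ≅ N') (i : ℕ)
    (h : Subsingleton (Ext.{u} M' N' i)) : Subsingleton (Ext.{u} M N i) := by
  have : EnoughInjectives X.Modules := ModExt.enoughInjectives X.ringCatSheaf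
  let F : X.Modules ≌ X.Modules := ExtInvertible.equiv (O := X.sheaf) (I := I) (L := L) e
  have : F.functor.Additive := additive_T I
  refine subsingleton_ext_of_equivalence F M N i ?_
  exact subsingleton_ext_of_iso (X := F.functor.obj M) (Y := F.functor.obj N) eM eN i h

end Scheme

section Twist

open Groth.Agent.H31

variable (n : ℕ) (R : Type u) [CommRing R]

/-- `O(j) ⊗ O(l) ≅ O(j + l)` on projective space over a ring -/
theorem nonempty_twist_tensor (j l m : ℤ) (hm : m = j + l) :
    Nonempty (CohB1.tensorMod (Twist.twistProjSpace n R j) (Twist.twistProjSpace n R l) ≅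
      Twist.twistProjSpace n R m) := by
  refine Groth.Agent.H18.TwMul.nonempty_tensorMod_tilde_twist_iso (CohB1.polyGrading n R)
    (CohB1.polyGrading n R) (fun x => ?_) j l m hm
  obtain ⟨i, hi⟩ := Groth.Agent.H18.exists_notMem_of_adjoin_eq_top (CohB1.polyGrading n R)
      (fun i : Fin (n + 1) => (MvPolynomial.X i : MvPolynomial (Fin (n + 1)) R))
      (MvPolynomial.adjoin_range_X) x
  exact ⟨MvPolynomial.X i, MvPolynomial.isHomogeneous_X R i, hi⟩

/-- `O(0) ≅ O` on projective space -/
theorem nonempty_twist_zero_iso :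
    Nonempty (Twist.twistProjSpace n R 0 ≅ Coh.structureModule (CohB1.ProjSpace n R)) :=
  Groth.Agent.H18.nonempty_twist_zero_iso (CohB1.polyGrading n R)

/-- `Ext^i(O(b), O(a)) = 0` as soon as `H^i(O(a - b)) = 0` -/
theorem subsingleton_ext_twist [HasExt.{u} (CohB1.ProjSpace n R).Modules] (a b : ℤ) (i : ℕ)
    (h : Subsingleton (Coh.HH (CohB1.ProjSpace n R) (Twist.twistProjSpace n R (a - b)) i)) :
    Subsingleton (Ext.{u} (Twist.twistProjSpace n R b) (Twist.twistProjSpace n R a) i) := by
  obtain ⟨e0⟩ := nonempty_twist_zero_iso n R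
  obtain ⟨e1⟩ := nonempty_twist_tensor n R b (-b) 0 (by ring)
  obtain ⟨e2⟩ := nonempty_twist_tensor n R a (-b) (a - b) (by ring)
  refine subsingleton_ext_of_tensor (Twist.twistProjSpace n R b) (Twist.twistProjSpace n R a)
    (Twist.twistProjSpace n R (-b)) (Twist.twistProjSpace n R b)
    (Coh.structureModule (CohB1.ProjSpace n R)) (Twist.twistProjSpace n R (a - b))
    (e1 ≪≫ e0) (e1 ≪≫ e0) e2 i ?_
  have hE : HasExt.{u} (SheafOfModules.{u} (CohB1.ProjSpace n R).ringCatSheaf) :=
    ‹HasExt.{u} (CohB1.ProjSpace n R).Modules›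
  obtain ⟨φ⟩ := @ModH.nonempty_ext_unit_addEquiv _ _ _ (CohB1.ProjSpace n R).ringCatSheaf hE
    (Twist.twistProjSpace n R (a - b)) i
  exact φ.injective.subsingleton

end Twist

end Groth.Agent.H97.ExtTwist
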