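import Mathlib
import Groth.Agent.H77.CompactFP

/-!
# Functors on modules determined by finitely presented modules: additivity
-/

namespace Groth.Agent.H97.FPAdditive

open CategoryTheory CategoryTheory.Limits

universe u v' u'

variable {A : Type u} [CommRing A] {B : Type u'} [Category.{v'} B] [Preadditive B]

variable (F' : ModuleCat.{u} A ⥤ B)
  [hadd : (ObjectProperty.ι (fun M : ModuleCat.{u} A => Module.FinitePresentation A M) ⋙
    F').Additive]

include hadd in
/-- additivity for maps between f.p. modules -/
theorem map_add_fp {M N : ModuleCat.{u} A} (hM : Module.FinitePresentation A M)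
    (hN : Module.FinitePresentation A N) (f g : M ⟶ N) :
    F'.map (f + g) = F'.map f + F'.map g := by
  let P : ObjectProperty (ModuleCat.{u} A) := fun M => Module.FinitePresentation A M
  let X : P.FullSubcategory := ⟨M, hM⟩
  let Y : P.FullSubcategory := ⟨N, hN⟩
  have h := hadd.map_add (X := X) (Y := Y) (f := ObjectProperty.homMk f)
    (g := ObjectProperty.homMk g)
  exact h

include hadd in
/-- additivity for maps out of a f.p. module (the `P × P` trick) -/
theorem map_add_of_fp_source {M N : ModuleCat.{u} A} (hM : Module.FinitePresentation A M)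
    (f g : M ⟶ N) : F'.map (f + g) = F'.map f + F'.map g := by
  let MM : ModuleCat.{u} A := ModuleCat.of A (M × M)
  have hMM : Module.FinitePresentation A MM := Module.FinitePresentation.prod M M
  let i1 : M ⟶ MM := ModuleCat.ofHom (LinearMap.inl A M M)
  let i2 : M ⟶ MM := ModuleCat.ofHom (LinearMap.inr A M M)
  let h : MM ⟶ N := ModuleCat.ofHom (LinearMap.coprod f.hom g.hom)
  have e1 : i1 ≫ h = f := by
    ext x
    simp [i1, h, MM]
  have e2 : i2 ≫ h = g := by
    ext x
    simp [i2, h, MM]
  have e3 : f + g = (i1 + i2) ≫ h := by
    rw [Preadditive.add_comp, e1, e2]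
  rw [e3, F'.map_comp, map_add_fp F' hM hMM, Preadditive.add_comp, ← F'.map_comp,
    ← F'.map_comp, e1, e2]

open Groth.Agent.H77.FPLim Groth.Agent.H77.CompactFP in
include hadd in
/-- the images of the f.p. approximations are jointly epimorphic after applying `F'` -/
theorem map_add_general [PreservesFilteredColimitsOfSize.{u, u} F'] {M N : ModuleCat.{u} A}
    (f g : M ⟶ N) : F'.map (f + g) = F'.map f + F'.map g := by
  classical
  let π : (M →₀ A) →ₗ[A] M := Finsupp.linearCombination A (id : M → M)
  let supp : Finset M → Submodule A (M →₀ A) := fun s => Finsupp.supported A A (s : Set M)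
  have hmono : Monotone supp := fun s t h =>
    Finsupp.supported_mono (Finset.coe_subset.mpr h)
  have hπ : Function.Surjective π := by
    intro m
    exact ⟨Finsupp.single m 1, by simp [π]⟩
  have hcov : ∀ x : M →₀ A, ∃ s, x ∈ supp s := fun x =>
    ⟨x.support, by
      change x ∈ Finsupp.supported A A (x.support : Set M)
      rw [Finsupp.mem_supported]⟩
  have hfp : ∀ s, Module.FinitePresentation A (supp s) := by
    intro s
    have : Finite (s : Set M) := s.finite_toSet.to_subtype
    exact fp_of_equiv (Finsupp.supportedEquivFinsupp (s : Set M))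
  have hdir := isDirected (π := π) hmono
  have : IsFiltered (Idx π supp) := isFiltered_of_directed_le_nonempty _
  have hc : IsColimit (cocone (π := π) hmono) := isColimit hmono hπ hcov
  have hFc : IsColimit (F'.mapCocone (cocone (π := π) hmono)) := isColimitOfPreserves F' hc
  refine hFc.hom_ext (fun a => ?_)
  simp only [Functor.mapCocone_ι_app]
  have hfa : Module.FinitePresentation A ((diagram (π := π) hmono).obj a) :=
    finitePresentation hfp a
  have key := map_add_of_fp_source F' hfa ((cocone (π := π) hmono).ι.app a ≫ f)
    ((cocone (π := π) hmono).ι.app a ≫ g)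
  rw [← Preadditive.comp_add, F'.map_comp, F'.map_comp, F'.map_comp] at key
  exact key.trans (Preadditive.comp_add _ _ _ _ _ _).symm

end Groth.Agent.H97.FPAdditive
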