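import Mathlib
import Groth.Agent.H97.FPAdditive
import Groth.Agent.H97.CoprodFiltered

namespace Groth.Agent.H97.FPAdditiveMain

open CategoryTheory CategoryTheory.Limits

universe u v' u'

theorem main (A : Type u) [CommRing A] {B : Type u'} [Category.{v'} B] [Preadditive B]
    [HasFiniteBiproducts B] [HasFilteredColimitsOfSize.{u, u} B]
    (F' : ModuleCat.{u} A ⥤ B) [PreservesFilteredColimitsOfSize.{u, u} F']
    [(ObjectProperty.ι (fun M : ModuleCat.{u} A => Module.FinitePresentation A M) ⋙
      F').Additive] :
    F'.Additive ∧ ∀ J : Type u, PreservesColimitsOfShape (Discrete J) F' := by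
  have hadd : F'.Additive := ⟨fun {M N f g} => FPAdditive.map_add_general F' f g⟩
  refine ⟨hadd, fun J => ?_⟩
  have : PreservesColimitsOfShape (Finset (Discrete J)) F' :=
    PreservesFilteredColimitsOfSize.preserves_filtered_colimits _
  exact CoprodFiltered.preservesColimitsOfShape_discrete F'

end Groth.Agent.H97.FPAdditiveMain
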