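import Mathlib

open CategoryTheory

namespace Groth.Agent.H97.FinSub

universe u

variable {R : Type u} [CommRing R] (F : CochainComplex (ModuleCat.{u} R) ℤ)

section
variable (S : ∀ n : ℤ, Submodule R (F.X n))
  (hS : ∀ n (x : F.X n), x ∈ S n → (F.d n (n + 1)).hom x ∈ S (n + 1))

include hS in
lemma d_mem (i j : ℤ) (x : F.X i) (hx : x ∈ S i) : (F.d i j).hom x ∈ S j := by
  by_cases h : i + 1 = j
  · subst h; exact hS i x hx
  · rw [F.shape i j h]
    simp

/-- the subcomplex given by a family of submodules stable under the differential -/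
noncomputable def sub : CochainComplex (ModuleCat.{u} R) ℤ where
  X n := ModuleCat.of R (S n)
  d i j := ModuleCat.ofHom ((F.d i j).hom.restrict (fun x hx => d_mem F S hS i j x hx))
  shape i j h := by
    ext x
    simp [F.shape i j h]
  d_comp_d' i j k _ _ := by
    ext x
    have h2 : (F.d j k).hom ((F.d i j).hom x.1) = 0 := by
      rw [← LinearMap.comp_apply, ← ModuleCat.hom_comp, F.d_comp_d i j k]
      rfl
    simpa using h2

noncomputable def subι : sub F S hS ⟶ F where
  f n := ModuleCat.ofHom (S n).subtype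
  comm' i j _ := by
    ext x
    rfl

end

section main

variable [∀ n : ℤ, Module.Free R (F.X n)] {N : ℕ} (deg : Fin N → ℤ) (f : ∀ i : Fin N, F.X (deg i))

noncomputable abbrev bas (n : ℤ) := Module.Free.chooseBasis R (F.X n)

inductive Reach : (Σ n : ℤ, Module.Free.ChooseBasisIndex R (F.X n)) → Prop
  | base (i : Fin N) (k : Module.Free.ChooseBasisIndex R (F.X (deg i)))
      (hk : k ∈ ((bas F (deg i)).repr (f i)).support) : Reach ⟨deg i, k⟩
  | step (n : ℤ) (k : Module.Free.ChooseBasisIndex R (F.X n))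
      (k' : Module.Free.ChooseBasisIndex R (F.X (n + 1))) (h : Reach ⟨n, k⟩)
      (hk : k' ∈ ((bas F (n + 1)).repr ((F.d n (n + 1)).hom (bas F n k))).support) :
      Reach ⟨n + 1, k'⟩

noncomputable def S (n : ℤ) : Submodule R (F.X n) :=
  Submodule.span R (Set.range fun k : {k // Reach F deg f ⟨n, k⟩} => bas F n k.1)

lemma hS (n : ℤ) (x : F.X n) (hx : x ∈ S F deg f n) :
    (F.d n (n + 1)).hom x ∈ S F deg f (n + 1) := by
  have : (S F deg f n).map (F.d n (n + 1)).hom ≤ S F deg f (n + 1) := by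
    rw [S, Submodule.map_span_le]
    rintro _ ⟨⟨k, hk⟩, rfl⟩
    have h1 := (bas F (n + 1)).mem_span_repr_support ((F.d n (n + 1)).hom (bas F n k))
    refine Submodule.span_mono ?_ h1
    rintro _ ⟨k', hk', rfl⟩
    exact ⟨⟨k', Reach.step n k k' hk hk'⟩, rfl⟩
  exact this ⟨x, hx, rfl⟩

lemma f_mem (i : Fin N) : f i ∈ S F deg f (deg i) := by
  have h1 := (bas F (deg i)).mem_span_repr_support (f i)
  refine Submodule.span_mono ?_ h1
  rintro _ ⟨k', hk', rfl⟩
  exact ⟨⟨k', Reach.base i k' hk'⟩, rfl⟩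

lemma reach_ge (a : ℤ) (ha : ∀ i, a ≤ deg i) (p) (hp : Reach F deg f p) : a ≤ p.1 := by
  induction hp with
  | base i k hk => exact ha i
  | step n k k' h hk ih => exact le_trans ih (by simp)

lemma reach_inv (p) (hp : Reach F deg f p) :
    (∃ i, ∃ k ∈ ((bas F (deg i)).repr (f i)).support, p = ⟨deg i, k⟩) ∨
    ∃ q, Reach F deg f q ∧
      ∃ k' ∈ ((bas F (q.1 + 1)).repr ((F.d q.1 (q.1 + 1)).hom (bas F q.1 q.2))).support,
        p = ⟨q.1 + 1, k'⟩ := by
  cases hp with
  | base i k hk => exact Or.inl ⟨i, k, hk, rfl⟩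
  | step n k k' h hk => exact Or.inr ⟨⟨n, k⟩, h, k', hk, rfl⟩

lemma finite_fibre (a : ℤ) (ha : ∀ i, a ≤ deg i) (j : ℕ) :
    ∀ n : ℤ, n < a + j → {p | Reach F deg f p ∧ p.1 = n}.Finite := by
  induction j with
  | zero =>
    intro n hn
    convert Set.finite_empty
    ext p
    simp only [Set.mem_ofPred_eq, Set.mem_empty_iff_false, iff_false, not_and]
    intro hp h
    have := reach_ge F deg f a ha p hp
    omega
  | succ j ih =>
    intro n hn
    have hprev := ih (n - 1) (by push_cast at hn; omega)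
    have hB : {p : Σ n : ℤ, Module.Free.ChooseBasisIndex R (F.X n) |
        ∃ i, ∃ k ∈ ((bas F (deg i)).repr (f i)).support, p = ⟨deg i, k⟩}.Finite := by
      have : {p : Σ n : ℤ, Module.Free.ChooseBasisIndex R (F.X n) |
          ∃ i, ∃ k ∈ ((bas F (deg i)).repr (f i)).support, p = ⟨deg i, k⟩} =
          ⋃ i : Fin N, (fun k => (⟨deg i, k⟩ : Σ n : ℤ, Module.Free.ChooseBasisIndex R (F.X n))) ''
            (((bas F (deg i)).repr (f i)).support : Set _) := by
        ext p
        simp only [Set.mem_ofPred_eq, Set.mem_iUnion, Set.mem_image, Finset.mem_coe]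
        constructor
        · rintro ⟨i, k, hk, rfl⟩; exact ⟨i, k, hk, rfl⟩
        · rintro ⟨i, k, hk, rfl⟩; exact ⟨i, k, hk, rfl⟩
      rw [this]
      exact Set.finite_iUnion fun i => (Finset.finite_toSet _).image _
    have hStep : {p : Σ n : ℤ, Module.Free.ChooseBasisIndex R (F.X n) |
        ∃ q ∈ {p | Reach F deg f p ∧ p.1 = n - 1},
          ∃ k' ∈ ((bas F (q.1 + 1)).repr ((F.d q.1 (q.1 + 1)).hom (bas F q.1 q.2))).support,
            p = ⟨q.1 + 1, k'⟩}.Finite := by
      have : {p : Σ n : ℤ, Module.Free.ChooseBasisIndex R (F.X n) |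
        ∃ q ∈ {p | Reach F deg f p ∧ p.1 = n - 1},
          ∃ k' ∈ ((bas F (q.1 + 1)).repr ((F.d q.1 (q.1 + 1)).hom (bas F q.1 q.2))).support,
            p = ⟨q.1 + 1, k'⟩} =
          ⋃ q ∈ {p | Reach F deg f p ∧ p.1 = n - 1},
            (fun k' => (⟨q.1 + 1, k'⟩ : Σ n : ℤ, Module.Free.ChooseBasisIndex R (F.X n))) ''
            (((bas F (q.1 + 1)).repr ((F.d q.1 (q.1 + 1)).hom (bas F q.1 q.2))).support : Set _) := by
        ext p
        simp only [Set.mem_ofPred_eq, Set.mem_iUnion, Set.mem_image, Finset.mem_coe]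
        constructor
        · rintro ⟨q, hq, k', hk', rfl⟩; exact ⟨q, hq, k', hk', rfl⟩
        · rintro ⟨q, hq, k', hk', rfl⟩; exact ⟨q, hq, k', hk', rfl⟩
      rw [this]
      exact Set.Finite.biUnion hprev fun q _ => (Finset.finite_toSet _).image _
    refine (hB.union hStep).subset ?_
    rintro p ⟨hp, hpn⟩
    rcases reach_inv F deg f p hp with h | ⟨q, hq, k', hk', rfl⟩
    · exact Or.inl h
    · refine Or.inr ⟨q, ⟨hq, ?_⟩, k', hk', rfl⟩
      simp only at hpn
      omega

lemma finite_reach (n : ℤ) : Finite {k // Reach F deg f ⟨n, k⟩} := by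
  obtain ⟨a, ha⟩ : ∃ a : ℤ, ∀ i, a ≤ deg i := by
    obtain ⟨a, ha⟩ := (Finset.univ.image fun i => -deg i).exists_le
    exact ⟨-a, fun i => by
      have := ha _ (Finset.mem_image_of_mem (fun i => -deg i) (Finset.mem_univ i))
      omega⟩
  have h1 := finite_fibre F deg f a ha (n - a + 1).toNat n (by
    have := Int.self_le_toNat (n - a + 1)
    omega)
  have h2 : {k | Reach F deg f ⟨n, k⟩}.Finite := by
    refine (h1.preimage (f := fun k => (⟨n, k⟩ : Σ n : ℤ, Module.Free.ChooseBasisIndex R (F.X n)))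
      (Set.injOn_of_injective (fun k₁ k₂ h => by cases h; rfl))).subset ?_
    intro k hk
    exact ⟨hk, rfl⟩
  exact h2.to_subtype


theorem exists_sub (b : ℤ) (hb : ∀ n : ℤ, b < n → Limits.IsZero (F.X n)) :
    ∃ (G : CochainComplex (ModuleCat.{u} R) ℤ) (ι : G ⟶ F),
      (∀ n : ℤ, Function.Injective (ι.f n)) ∧
      (∃ a c : ℤ, ∀ n : ℤ, (n < a ∨ c < n) → Limits.IsZero (G.X n)) ∧
      (∀ n : ℤ, Module.Finite R (G.X n) ∧ Module.Free R (G.X n)) ∧
      ∀ i : Fin N, f i ∈ Set.range (ι.f (deg i)) := by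
  refine ⟨sub F (S F deg f) (hS F deg f), subι F _ _, ?_, ?_, ?_, ?_⟩
  · intro n x y h
    exact Subtype.ext h
  · obtain ⟨a, ha⟩ : ∃ a : ℤ, ∀ i, a ≤ deg i := by
      obtain ⟨a, ha⟩ := (Finset.univ.image fun i => -deg i).exists_le
      exact ⟨-a, fun i => by
        have := ha _ (Finset.mem_image_of_mem (fun i => -deg i) (Finset.mem_univ i))
        omega⟩
    refine ⟨a, b, fun n hn => ?_⟩
    rcases hn with hn | hn
    · have hemp : IsEmpty {k // Reach F deg f ⟨n, k⟩} := ⟨fun ⟨k, hk⟩ => by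
        have := reach_ge F deg f a ha _ hk
        simp only at this
        omega⟩
      have hbot : S F deg f n = ⊥ := by
        rw [S, Set.range_eq_empty, Submodule.span_empty]
      have : Subsingleton (S F deg f n) := by
        rw [hbot]; infer_instance
      have : Subsingleton ((sub F (S F deg f) (hS F deg f)).X n) := this
      exact ModuleCat.isZero_of_subsingleton _
    · have h1 : Subsingleton (F.X n) := ModuleCat.subsingleton_of_isZero (hb n hn)
      have : Subsingleton (S F deg f n) := inferInstance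
      have : Subsingleton ((sub F (S F deg f) (hS F deg f)).X n) := this
      exact ModuleCat.isZero_of_subsingleton _
  · intro n
    have hfin := finite_reach F deg f n
    constructor
    · exact Module.Finite.span_of_finite R (Set.finite_range _)
    · have hli : LinearIndependent R (fun k : {k // Reach F deg f ⟨n, k⟩} => bas F n k.1) :=
        (bas F n).linearIndependent.comp _ Subtype.val_injective
      exact Module.Free.of_basis (Module.Basis.span hli)
  · intro i
    exact ⟨⟨f i, f_mem F deg f i⟩, rfl⟩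

end main

end Groth.Agent.H97.FinSub
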