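import Mathlib

set_option autoImplicit false
universe u

namespace Groth.Agent.H97

open TensorProduct

/-- every element of `(R ⧸ I) ⊗ P` is of the form `1 ⊗ w` -/
theorem exists_one_tmul {R : Type u} [CommRing R] (I : Ideal R) {P : Type u} [AddCommGroup P]
    [Module R P] (t : (R ⧸ I) ⊗[R] P) : ∃ w : P, t = (1 : R ⧸ I) ⊗ₜ[R] w := by
  induction t using TensorProduct.induction_on with
  | zero => exact ⟨0, by simp⟩
  | tmul r p =>
    obtain ⟨r, rfl⟩ := Ideal.Quotient.mk_surjective r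
    refine ⟨r • p, ?_⟩
    rw [← TensorProduct.smul_tmul]
    congr 1
    rw [← Ideal.Quotient.algebraMap_eq, Algebra.smul_def, mul_one]
  | add x y hx hy =>
    obtain ⟨a, rfl⟩ := hx
    obtain ⟨b, rfl⟩ := hy
    exact ⟨a + b, by rw [TensorProduct.tmul_add]⟩

theorem one_tmul_eq_zero_iff {R : Type u} [CommRing R] (I : Ideal R) {P : Type u} [AddCommGroup P]
    [Module R P] (p : P) : (1 : R ⧸ I) ⊗ₜ[R] p = 0 ↔ p ∈ (I • ⊤ : Submodule R P) := by
  rw [← (TensorProduct.quotTensorEquivQuotSMul P I).map_eq_zero_iff,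
    TensorProduct.quotTensorEquivQuotSMul_mk_one_tmul, Submodule.Quotient.mk_eq_zero]

/-- the multiplication map `I ⊗ N → N` -/
noncomputable def mulMap {R : Type u} [CommRing R] (I : Ideal R) (N : Type u) [AddCommGroup N]
    [Module R N] : I ⊗[R] N →ₗ[R] N :=
  TensorProduct.lift ((LinearMap.lsmul R N).comp I.subtype)

theorem mulMap_tmul {R : Type u} [CommRing R] (I : Ideal R) (N : Type u) [AddCommGroup N]
    [Module R N] (a : I) (n : N) : mulMap I N (a ⊗ₜ n) = (a : R) • n := by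
  simp [mulMap]

theorem mulMap_natural {R : Type u} [CommRing R] (I : Ideal R) {N N' : Type u} [AddCommGroup N]
    [Module R N] [AddCommGroup N'] [Module R N'] (f : N →ₗ[R] N') (x : I ⊗[R] N) :
    f (mulMap I N x) = mulMap I N' (f.lTensor I x) := by
  induction x using TensorProduct.induction_on with
  | zero => simp
  | tmul a n => simp [mulMap_tmul]
  | add x y hx hy => simp [hx, hy]

theorem mulMap_mem {R : Type u} [CommRing R] (I : Ideal R) {N : Type u} [AddCommGroup N]
    [Module R N] (x : I ⊗[R] N) : mulMap I N x ∈ (I • ⊤ : Submodule R N) := by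
  induction x using TensorProduct.induction_on with
  | zero => simp
  | tmul a n =>
    rw [mulMap_tmul]
    exact Submodule.smul_mem_smul a.2 Submodule.mem_top
  | add x y hx hy =>
    rw [map_add]
    exact Submodule.add_mem _ hx hy

theorem exists_of_mem_smul {R : Type u} [CommRing R] (I : Ideal R) {N : Type u} [AddCommGroup N]
    [Module R N] (Z : Submodule R N) (z : N) (hz : z ∈ I • Z) :
    ∃ w : I ⊗[R] Z, mulMap I N (Z.subtype.lTensor I w) = z := by
  refine Submodule.smul_induction_on hz ?_ ?_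
  · intro a ha n hn
    refine ⟨(⟨a, ha⟩ : I) ⊗ₜ (⟨n, hn⟩ : Z), ?_⟩
    simp [mulMap_tmul]
  · rintro x y ⟨w1, h1⟩ ⟨w2, h2⟩
    exact ⟨w1 + w2, by simp [h1, h2]⟩

/-- Flatness of the cokernel from exactness of the reductions of a partial flat resolution. -/
theorem flat_of_partial_resolution {R : Type u} [CommRing R] {P₃ P₂ P₁ M : Type u}
    [AddCommGroup P₃] [Module R P₃] [AddCommGroup P₂] [Module R P₂]
    [AddCommGroup P₁] [Module R P₁] [AddCommGroup M] [Module R M]
    (d₃ : P₃ →ₗ[R] P₂) (d₂ : P₂ →ₗ[R] P₁) (d₁ : P₁ →ₗ[R] M)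
    (h32 : d₂ ∘ₗ d₃ = 0)
    (h1 : Function.Exact d₂ d₁) (hsurj : Function.Surjective d₁) [Module.Flat R P₁]
    (hI : ∀ I : Ideal R, Function.Exact (d₃.lTensor (R ⧸ I)) (d₂.lTensor (R ⧸ I))) :
    Module.Flat R M := by
  rw [Module.Flat.iff_lift_lsmul_comp_subtype_injective]
  intro I hfg
  -- Step A
  have stepA : ∀ z : P₁, d₁ z = 0 → z ∈ (I • ⊤ : Submodule R P₁) → z ∈ I • LinearMap.range d₂ := by
    intro z hz1 hz2
    obtain ⟨y, rfl⟩ := (h1 z).mp hz1
    have h0 : (d₂.lTensor (R ⧸ I)) ((1 : R ⧸ I) ⊗ₜ[R] y) = 0 := by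
      rw [LinearMap.lTensor_tmul]
      exact (one_tmul_eq_zero_iff I _).mpr hz2
    obtain ⟨t, ht⟩ := (hI I _).mp h0
    obtain ⟨w, rfl⟩ := exists_one_tmul I t
    rw [LinearMap.lTensor_tmul] at ht
    have h2 : (1 : R ⧸ I) ⊗ₜ[R] (y - d₃ w) = 0 := by
      rw [TensorProduct.tmul_sub, ht, sub_self]
    have h3 : y - d₃ w ∈ (I • ⊤ : Submodule R P₂) := (one_tmul_eq_zero_iff I _).mp h2
    have h4 : d₂ y = d₂ (y - d₃ w) := by
      rw [map_sub]
      have : d₂ (d₃ w) = 0 := by
        rw [← LinearMap.comp_apply, h32, LinearMap.zero_apply]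
      rw [this, sub_zero]
    rw [h4]
    have h5 : d₂ (y - d₃ w) ∈ (I • ⊤ : Submodule R P₂).map d₂ := Submodule.mem_map_of_mem h3
    rwa [Submodule.map_smul'', Submodule.map_top] at h5
  -- main
  have hinjP : Function.Injective (mulMap I P₁) :=
    (Module.Flat.iff_lift_lsmul_comp_subtype_injective.mp inferInstance) hfg
  show Function.Injective (mulMap I M)
  rw [injective_iff_map_eq_zero]
  intro x hx
  obtain ⟨xt, rfl⟩ := LinearMap.lTensor_surjective I hsurj x
  have hz1 : d₁ (mulMap I P₁ xt) = 0 := by rw [mulMap_natural, hx]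
  have hz2 := mulMap_mem I xt
  obtain ⟨w, hw⟩ := exists_of_mem_smul I _ _ (stepA _ hz1 hz2)
  have hxt : xt = (LinearMap.range d₂).subtype.lTensor I w := (hinjP hw).symm
  rw [hxt, ← LinearMap.comp_apply, ← LinearMap.lTensor_comp]
  have hcomp : d₁ ∘ₗ (LinearMap.range d₂).subtype = 0 := by
    ext ⟨z, y, rfl⟩
    simpa using h1.apply_apply_eq_zero y
  rw [hcomp, LinearMap.lTensor_zero, LinearMap.zero_apply]

end Groth.Agent.H97
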