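import Mathlib
import Groth.Prelude.Def_CohB1
import Groth.Agent.H97.PFrac
import Groth.Agent.H97.ToPn
import Groth.Agent.H97.BoxMap
import Groth.Agent.Lead.Coh.ProjSpaceCover

/-!
# The morphism to projective space defined by forms of a common degree

Let `ι : X ⟶ Proj 𝒜` be a morphism and `G_0, …, G_m` homogeneous elements of a common positive
degree such that the opens `D₊(G_j)` cover the image of `ι`.  Then `x ↦ (G_0(ι x) : ⋯ : G_m(ι x))`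
is a morphism `X ⟶ P^m_R`, and the preimage of the `j`-th standard chart is `ι⁻¹ D₊(G_j)`.
-/

set_option autoImplicit false
universe u

open AlgebraicGeometry CategoryTheory CategoryTheory.Limits HomogeneousLocalization
  TopologicalSpace Opposite

namespace Groth.Agent.H97.FormsMap

open Groth.Agent.H97.PFrac Groth.Agent.H18.PUP

variable {R A : Type u} [CommRing R] [CommRing A] [Algebra R A]
variable (𝒜 : ℕ → Submodule R A) [GradedAlgebra 𝒜]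
variable {X : Scheme.{u}} (ι : X ⟶ Proj 𝒜) (q : X ⟶ Spec (CommRingCat.of R))
variable {m D : ℕ} (G : Fin (m + 1) → A) (hG : ∀ j, G j ∈ 𝒜 D)

/-- the chart `D₊(G j)` -/
noncomputable def V (j : Fin (m + 1)) : (Proj 𝒜).Opens := Proj.basicOpen 𝒜 (G j)

/-- its preimage -/
noncomputable def W (j : Fin (m + 1)) : X.Opens := ι ⁻¹ᵁ V 𝒜 G j

include hG in
/-- the fraction `G j / G k` on `D₊(G k)` -/
noncomputable def e (j k : Fin (m + 1)) : Γ(Proj 𝒜, V 𝒜 G k) :=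
  frac 𝒜 (hG j) (hG k) (V 𝒜 G k) (fun _ hx => hx)

theorem e_self (k : Fin (m + 1)) : e 𝒜 G hG k k = 1 := frac_self _ _ _ _

/-- the function `(G j / G k) ∘ ι` on `ι⁻¹ D₊(G k)` -/
noncomputable def Fn (j k : Fin (m + 1)) : Γ(X, W 𝒜 ι G k) :=
  (ι.appLE (V 𝒜 G k) (W 𝒜 ι G k) le_rfl).hom (e 𝒜 G hG j k)

theorem Fn_self (k : Fin (m + 1)) : Fn 𝒜 ι G hG k k = 1 := by
  unfold Fn
  rw [e_self, map_one]

theorem res_Fn (j k : Fin (m + 1)) (B : X.Opens) (hB : B ≤ W 𝒜 ι G k)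
    (V' : (Proj 𝒜).Opens) (hV' : V' ≤ V 𝒜 G k) (hBV : B ≤ ι ⁻¹ᵁ V') :
    X.presheaf.map (homOfLE hB).op (Fn 𝒜 ι G hG j k) =
      (ι.appLE V' B hBV).hom ((Proj 𝒜).presheaf.map (homOfLE hV').op (e 𝒜 G hG j k)) := by
  unfold Fn
  have h1 := ConcreteCategory.congr_hom
    (ι.appLE_map (le_rfl : W 𝒜 ι G k ≤ ι ⁻¹ᵁ V 𝒜 G k) (homOfLE hB).op) (e 𝒜 G hG j k)
  have h2 := ConcreteCategory.congr_hom
    (ι.map_appLE hBV (homOfLE hV').op) (e 𝒜 G hG j k)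
  exact h1.trans h2.symm

/-- the cocycle identity on the overlap of two charts -/
theorem res_Fn_mul (j k k' : Fin (m + 1)) :
    X.presheaf.map (homOfLE (inf_le_right : W 𝒜 ι G k ⊓ W 𝒜 ι G k' ≤ W 𝒜 ι G k')).op
        (Fn 𝒜 ι G hG j k') =
      X.presheaf.map (homOfLE (inf_le_right : W 𝒜 ι G k ⊓ W 𝒜 ι G k' ≤ W 𝒜 ι G k')).op
        (Fn 𝒜 ι G hG k k') *
      X.presheaf.map (homOfLE (inf_le_left : W 𝒜 ι G k ⊓ W 𝒜 ι G k' ≤ W 𝒜 ι G k)).op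
        (Fn 𝒜 ι G hG j k) := by
  have hBV : W 𝒜 ι G k ⊓ W 𝒜 ι G k' ≤ ι ⁻¹ᵁ (V 𝒜 G k ⊓ V 𝒜 G k') := fun y hy => ⟨hy.1, hy.2⟩
  rw [res_Fn 𝒜 ι G hG j k' _ inf_le_right (V 𝒜 G k ⊓ V 𝒜 G k') inf_le_right hBV,
    res_Fn 𝒜 ι G hG k k' _ inf_le_right (V 𝒜 G k ⊓ V 𝒜 G k') inf_le_right hBV,
    res_Fn 𝒜 ι G hG j k _ inf_le_left (V 𝒜 G k ⊓ V 𝒜 G k') inf_le_left hBV,
    ← map_mul]
  congr 1
  exact frac_res_mul 𝒜 (hG j) (hG k) (hG k')
    (V 𝒜 G k) (V 𝒜 G k') (V 𝒜 G k ⊓ V 𝒜 G k') (fun _ hx => hx) (fun _ hx => hx)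
    inf_le_right inf_le_left

/-- the structure homomorphism `R → Γ(X, B)` -/
noncomputable def cst (B : X.Opens) : R →+* Γ(X, B) :=
  (X.presheaf.map (homOfLE (le_top : B ≤ ⊤)).op).hom.comp (ProjUP.toGlobal q)

theorem res_cst {B B' : X.Opens} (h : B' ≤ B) :
    (X.presheaf.map (homOfLE h).op).hom.comp (cst q B) = cst q B' := by
  unfold cst
  rw [← RingHom.comp_assoc, ← CommRingCat.hom_comp, ← Functor.map_comp]
  rfl

/-- the chart homomorphism `z_j ↦ (G j / G k) ∘ ι` -/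
noncomputable def E (k : Fin (m + 1)) : MvPolynomial (Fin (m + 1)) R →+* Γ(X, W 𝒜 ι G k) :=
  MvPolynomial.eval₂Hom (cst q (W 𝒜 ι G k)) (fun j => Fn 𝒜 ι G hG j k)

theorem E_X (j k : Fin (m + 1)) : E 𝒜 ι q G hG k (MvPolynomial.X j) = Fn 𝒜 ι G hG j k := by
  unfold E
  rw [MvPolynomial.coe_eval₂Hom, MvPolynomial.eval₂_X]

theorem E_C (k : Fin (m + 1)) (a : R) :
    E 𝒜 ι q G hG k (MvPolynomial.C a) = cst q (W 𝒜 ι G k) a := by
  unfold E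
  rw [MvPolynomial.coe_eval₂Hom, MvPolynomial.eval₂_C]

theorem isUnit_E (k : Fin (m + 1)) : IsUnit (E 𝒜 ι q G hG k (MvPolynomial.X k)) := by
  rw [E_X, Fn_self]
  exact isUnit_one

theorem res_E (k : Fin (m + 1)) {B : X.Opens} (h : B ≤ W 𝒜 ι G k)
    (a : MvPolynomial (Fin (m + 1)) R) :
    X.presheaf.map (homOfLE h).op (E 𝒜 ι q G hG k a) =
      MvPolynomial.eval₂Hom (cst q B)
        (fun j => X.presheaf.map (homOfLE h).op (Fn 𝒜 ι G hG j k)) a := by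
  unfold E
  rw [MvPolynomial.coe_eval₂Hom, MvPolynomial.coe_eval₂Hom]
  have := MvPolynomial.eval₂_comp_left (X.presheaf.map (homOfLE h).op).hom
    (cst q (W 𝒜 ι G k)) (fun j => Fn 𝒜 ι G hG j k) a
  rw [res_cst] at this
  exact this

theorem compat_E (k k' : Fin (m + 1)) :
    ∃ u : Γ(X, W 𝒜 ι G k ⊓ W 𝒜 ι G k'), ∀ (l : ℕ) (a : MvPolynomial (Fin (m + 1)) R),
      a ∈ CohB1.polyGrading m R l →
      X.presheaf.map (homOfLE (inf_le_right : W 𝒜 ι G k ⊓ W 𝒜 ι G k' ≤ W 𝒜 ι G k')).op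
          (E 𝒜 ι q G hG k' a) =
        u ^ l *
          X.presheaf.map (homOfLE (inf_le_left : W 𝒜 ι G k ⊓ W 𝒜 ι G k' ≤ W 𝒜 ι G k)).op
            (E 𝒜 ι q G hG k a) := by
  refine ⟨X.presheaf.map (homOfLE (inf_le_right : W 𝒜 ι G k ⊓ W 𝒜 ι G k' ≤ W 𝒜 ι G k')).op
    (Fn 𝒜 ι G hG k k'), fun l a ha => ?_⟩
  rw [res_E, res_E]
  have hfun : (fun j => X.presheaf.map
      (homOfLE (inf_le_right : W 𝒜 ι G k ⊓ W 𝒜 ι G k' ≤ W 𝒜 ι G k')).op (Fn 𝒜 ι G hG j k')) =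
      fun j => X.presheaf.map
        (homOfLE (inf_le_right : W 𝒜 ι G k ⊓ W 𝒜 ι G k' ≤ W 𝒜 ι G k')).op (Fn 𝒜 ι G hG k k') *
        X.presheaf.map
        (homOfLE (inf_le_left : W 𝒜 ι G k ⊓ W 𝒜 ι G k' ≤ W 𝒜 ι G k)).op (Fn 𝒜 ι G hG j k) :=
    funext fun j => res_Fn_mul 𝒜 ι G hG j k k'
  rw [hfun]
  exact Groth.Agent.H97.BoxMap.eval₂Hom_scale _ _ _
    ((MvPolynomial.mem_homogeneousSubmodule _ _).mp ha)

theorem E_algebraMap (k : Fin (m + 1)) (a : R) :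
    E 𝒜 ι q G hG k (algebraMap R (MvPolynomial (Fin (m + 1)) R) a) =
      X.presheaf.map (homOfLE (le_top : W 𝒜 ι G k ≤ ⊤)).op (ProjUP.toGlobal q a) := by
  rw [MvPolynomial.algebraMap_eq, E_C]
  rfl

include hG in
/-- the morphism `X ⟶ P^m_R` defined by the forms `G j`, with the preimages of the standard
charts -/
theorem exists_map (hcov : ∀ x : X, ∃ j, ι.base x ∈ V 𝒜 G j) :
    ∃ r : X ⟶ CohB1.ProjSpace m R,
      r ≫ CohB1.ProjSpace.toSpec m R = q ∧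
        ∀ k, r ⁻¹ᵁ Groth.Agent.Lead.Coh.stdOpen m R k = W 𝒜 ι G k := by
  classical
  have hcover : IsOpenCover (W 𝒜 ι G) := by
    rw [IsOpenCover, eq_top_iff]
    intro y _
    rw [Opens.mem_iSup]
    obtain ⟨j, hj⟩ := hcov y
    exact ⟨j, hj⟩
  obtain ⟨r, hr⟩ := Groth.Agent.H97.ToPn.exists_glue (CohB1.polyGrading m R) (W 𝒜 ι G)
    (fun k => (MvPolynomial.X k : MvPolynomial (Fin (m + 1)) R)) one_pos
    (Groth.Agent.H97.BoxMap.X_mem R m)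
    (E 𝒜 ι q G hG) (isUnit_E 𝒜 ι q G hG) hcover (compat_E 𝒜 ι q G hG)
  refine ⟨r, ?_, fun k' => le_antisymm ?_ ?_⟩
  · exact Groth.Agent.H97.ToPn.glue_comp_toSpecZero (CohB1.polyGrading m R) q (W 𝒜 ι G)
      (fun k => (MvPolynomial.X k : MvPolynomial (Fin (m + 1)) R)) one_pos
      (Groth.Agent.H97.BoxMap.X_mem R m)
      (E 𝒜 ι q G hG) (isUnit_E 𝒜 ι q G hG) hcover (E_algebraMap 𝒜 ι q G hG) r hr
  · intro y hy
    obtain ⟨k, hk⟩ : ∃ k, y ∈ W 𝒜 ι G k := by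
      obtain ⟨j, hj⟩ := hcov y
      exact ⟨j, hj⟩
    have h1 : y ∈ W 𝒜 ι G k ⊓ r ⁻¹ᵁ Proj.basicOpen (CohB1.polyGrading m R)
        (MvPolynomial.X k' : MvPolynomial (Fin (m + 1)) R) := ⟨hk, hy⟩
    rw [Groth.Agent.H97.ToPn.inf_preimage_eq_basicOpen (CohB1.polyGrading m R) (W 𝒜 ι G)
      (fun k => (MvPolynomial.X k : MvPolynomial (Fin (m + 1)) R)) one_pos
      (Groth.Agent.H97.BoxMap.X_mem R m)
      (E 𝒜 ι q G hG) (isUnit_E 𝒜 ι q G hG) r hr k k', E_X] at h1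
    have h2' := (Scheme.basicOpen_appLE ι (W 𝒜 ι G k) (V 𝒜 G k) le_rfl (e 𝒜 G hG k' k)).le h1
    have h3 : (Proj 𝒜).basicOpen (e 𝒜 G hG k' k) = Proj.basicOpen 𝒜 (G k * G k') :=
      basicOpen_frac 𝒜 (hG k') (hG k)
    have h4 : ι.base y ∈ (Proj 𝒜).basicOpen (e 𝒜 G hG k' k) := h2'.2
    rw [h3, Proj.basicOpen_mul] at h4
    exact h4.2
  · exact le_preimage_basicOpen (CohB1.polyGrading m R) (W 𝒜 ι G k')
      (Groth.Agent.H97.BoxMap.X_mem R m k') one_pos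
      (E 𝒜 ι q G hG k') (isUnit_E 𝒜 ι q G hG k') r (hr k')

end Groth.Agent.H97.FormsMap
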