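import Mathlib
import Groth.Agent.H97.FormsMap

/-!
# The morphism defined by forms: chart description

A variant of `FormsMap.exists_map` which also records that the morphism restricts on each chart
`ι⁻¹ D₊(G k)` to helper18's `localMap` of the chart homomorphism `E k`.
-/

set_option autoImplicit false
universe u

open AlgebraicGeometry CategoryTheory CategoryTheory.Limits HomogeneousLocalization
  TopologicalSpace Opposite

namespace Groth.Agent.H97.FormsMap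

open Groth.Agent.H97.PFrac Groth.Agent.H18.PUP

variable {R A : Type u} [CommRing R] [CommRing A] [Algebra R A]
variable (𝒜 : ℕ → Submodule R A) [GradedAlgebra 𝒜]
variable {X : Scheme.{u}} (ι : X ⟶ Proj 𝒜) (q : X ⟶ Spec (CommRingCat.of R))
variable {m D : ℕ} (G : Fin (m + 1) → A) (hG : ∀ j, G j ∈ 𝒜 D)

include hG in
theorem exists_map' (hcov : ∀ x : X, ∃ j, ι.base x ∈ V 𝒜 G j) :
    ∃ r : X ⟶ Proj (CohB1.polyGrading m R),
      (∀ k, (W 𝒜 ι G k).ι ≫ r = localMap (CohB1.polyGrading m R) (W 𝒜 ι G k)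
        (Groth.Agent.H97.BoxMap.X_mem R m k) one_pos (E 𝒜 ι q G hG k) (isUnit_E 𝒜 ι q G hG k)) ∧
      r ≫ CohB1.ProjSpace.toSpec m R = q ∧
        ∀ k, r ⁻¹ᵁ Proj.basicOpen (CohB1.polyGrading m R)
          (MvPolynomial.X k : MvPolynomial (Fin (m + 1)) R) = W 𝒜 ι G k := by
  classical
  have hcover : IsOpenCover (W 𝒜 ι G) := by
    rw [IsOpenCover, eq_top_iff]
    intro y _
    rw [Opens.mem_iSup]
    obtain ⟨j, hj⟩ := hcov y
    exact ⟨j, hj⟩
  obtain ⟨r, hr⟩ := Groth.Agent.H97.ToPn.exists_glue (CohB1.polyGrading m R) (W 𝒜 ι G)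
    (fun k => (MvPolynomial.X k : MvPolynomial (Fin (m + 1)) R)) one_pos
    (Groth.Agent.H97.BoxMap.X_mem R m)
    (E 𝒜 ι q G hG) (isUnit_E 𝒜 ι q G hG) hcover (compat_E 𝒜 ι q G hG)
  refine ⟨r, hr, ?_, fun k' => le_antisymm ?_ ?_⟩
  · exact Groth.Agent.H97.ToPn.glue_comp_toSpecZero (CohB1.polyGrading m R) q (W 𝒜 ι G)
      (fun k => (MvPolynomial.X k : MvPolynomial (Fin (m + 1)) R)) one_pos
      (Groth.Agent.H97.BoxMap.X_mem R m)
      (E 𝒜 ι q G hG) (isUnit_E 𝒜 ι q G hG) hcover (E_algebraMap 𝒜 ι q G hG) r hr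
  · intro y hy
    obtain ⟨k, hk⟩ : ∃ k, y ∈ W 𝒜 ι G k := by
      obtain ⟨j, hj⟩ := hcov y
      exact ⟨j, hj⟩
    have h1 : y ∈ W 𝒜 ι G k ⊓ r ⁻¹ᵁ Proj.basicOpen (CohB1.polyGrading m R)
        (MvPolynomial.X k' : MvPolynomial (Fin (m + 1)) R) := ⟨hk, hy⟩
    rw [Groth.Agent.H97.ToPn.inf_preimage_eq_basicOpen (CohB1.polyGrading m R) (W 𝒜 ι G)
      (fun k => (MvPolynomial.X k : MvPolynomial (Fin (m + 1)) R)) one_pos
      (Groth.Agent.H97.BoxMap.X_mem R m)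
      (E 𝒜 ι q G hG) (isUnit_E 𝒜 ι q G hG) r hr k k', E_X] at h1
    have h2' := (Scheme.basicOpen_appLE ι (W 𝒜 ι G k) (V 𝒜 G k) le_rfl (e 𝒜 G hG k' k)).le h1
    have h3 : (Proj 𝒜).basicOpen (e 𝒜 G hG k' k) = Proj.basicOpen 𝒜 (G k * G k') :=
      basicOpen_frac 𝒜 (hG k') (hG k)
    have h4 : ι.base y ∈ (Proj 𝒜).basicOpen (e 𝒜 G hG k' k) := h2'.2
    rw [h3, Proj.basicOpen_mul] at h4
    exact h4.2
  · exact le_preimage_basicOpen (CohB1.polyGrading m R) (W 𝒜 ι G k')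
      (Groth.Agent.H97.BoxMap.X_mem R m k') one_pos
      (E 𝒜 ι q G hG k') (isUnit_E 𝒜 ι q G hG k') r (hr k')

end Groth.Agent.H97.FormsMap
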