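import Mathlib

open Polynomial

namespace Groth.Agent.H97.FrobBasis

/-- over a field of characteristic `p`, for separable `g` of degree `n`, a polynomial `a` of
degree `< n` with `g ∣ a(X^q)` vanishes. -/
theorem eq_zero_of_dvd_comp {k : Type*} [Field k] (p : ℕ) [Fact p.Prime] [CharP k p]
    (g : k[X]) (hsep : g.Separable) (s : ℕ) (a : k[X]) (ha : a.natDegree < g.natDegree)
    (hdvd : g ∣ a.comp (X ^ (p ^ s))) : a = 0 := by
  classical
  by_contra ha0
  let K := AlgebraicClosure k
  have : CharP K p := charP_of_injective_algebraMap (algebraMap k K).injective p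
  set g' := g.map (algebraMap k K) with hg'
  set a' := a.map (algebraMap k K) with ha'
  have ha'0 : a' ≠ 0 := (Polynomial.map_ne_zero_iff (algebraMap k K).injective).mpr ha0
  have hg0 : g ≠ 0 := hsep.ne_zero
  have hg'0 : g' ≠ 0 := (Polynomial.map_ne_zero_iff (algebraMap k K).injective).mpr hg0
  have hcard : g'.roots.card = g.natDegree := by
    rw [← Polynomial.natDegree_map (algebraMap k K)]
    exact (IsAlgClosed.splits g').natDegree_eq_card_roots.symm
  have hnodup : g'.roots.Nodup := Polynomial.nodup_roots hsep.map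
  have hsub : (g'.roots.toFinset.image (fun x => x ^ (p ^ s))) ⊆ a'.roots.toFinset := by
    intro y hy
    obtain ⟨x, hx, rfl⟩ := Finset.mem_image.mp hy
    rw [Multiset.mem_toFinset, mem_roots hg'0] at hx
    rw [Multiset.mem_toFinset, mem_roots ha'0]
    obtain ⟨c, hc⟩ := hdvd
    have := congrArg (fun f => (f.map (algebraMap k K)).eval x) hc
    simp only [Polynomial.map_mul, eval_mul, Polynomial.map_comp, Polynomial.map_pow, map_X,
      eval_comp, eval_pow, eval_X] at this
    rw [IsRoot.def, this]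
    rw [IsRoot.def] at hx
    rw [hx, zero_mul]
  have hinj : Function.Injective (fun x : K => x ^ (p ^ s)) := by
    have := (iterateFrobenius K p s).injective
    intro x y hxy
    apply this
    simpa [iterateFrobenius_def] using hxy
  have h1 : (g'.roots.toFinset.image (fun x => x ^ (p ^ s))).card = g.natDegree := by
    rw [Finset.card_image_of_injective _ hinj, Multiset.toFinset_card_of_nodup hnodup, hcard]
  have h2 := Finset.card_le_card hsub
  have h3 : a'.roots.toFinset.card ≤ a'.natDegree :=
    (Multiset.toFinset_card_le _).trans (card_roots' a')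
  rw [h1] at h2
  have h4 : a'.natDegree = a.natDegree := Polynomial.natDegree_map _
  omega


theorem linearIndependent_pow {k : Type*} [Field k] (p : ℕ) [Fact p.Prime] [CharP k p]
    (g : k[X]) (hsep : g.Separable) (s : ℕ) :
    LinearIndependent k (fun i : Fin g.natDegree => AdjoinRoot.root g ^ (p ^ s * (i : ℕ))) := by
  rw [Fintype.linearIndependent_iff]
  intro c hc
  set a : k[X] := ∑ i : Fin g.natDegree, C (c i) * X ^ (i : ℕ) with ha
  have hadeg : a.degree < g.natDegree := degree_sum_fin_lt c
  have hmk : AdjoinRoot.mk g (a.comp (X ^ (p ^ s))) = 0 := by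
    rw [← hc, ha, Polynomial.sum_comp, map_sum]
    refine Finset.sum_congr rfl fun i _ => ?_
    rw [mul_comp, C_comp, pow_comp, X_comp, map_mul, map_pow, map_pow, AdjoinRoot.mk_X,
      AdjoinRoot.mk_C, ← pow_mul, Algebra.smul_def]
    rfl
  have hdvd : g ∣ a.comp (X ^ (p ^ s)) := AdjoinRoot.mk_eq_zero.mp hmk
  have ha0 : a = 0 := by
    by_cases h0 : a = 0
    · exact h0
    · exact eq_zero_of_dvd_comp p g hsep s a ((natDegree_lt_iff_degree_lt h0).mpr hadeg) hdvd
  intro i
  have : a.coeff i = c i := by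
    rw [ha, finsetSum_coeff]
    simp only [coeff_C_mul, coeff_X_pow]
    rw [Finset.sum_eq_single i]
    · simp
    · intro j _ hji
      have : (i : ℕ) ≠ (j : ℕ) := fun h => hji (Fin.ext h.symm)
      simp [this]
    · simp
  rw [← this, ha0, coeff_zero]

theorem span_pow_eq_top {k : Type*} [Field k] (p : ℕ) [Fact p.Prime] [CharP k p]
    (g : k[X]) (hsep : g.Separable) (s : ℕ) :
    Submodule.span k (Set.range
      (fun i : Fin g.natDegree => AdjoinRoot.root g ^ (p ^ s * (i : ℕ)))) = ⊤ := by
  have hg0 : g ≠ 0 := hsep.ne_zero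
  have : Module.Finite k (AdjoinRoot g) := (AdjoinRoot.powerBasis hg0).finite
  apply (linearIndependent_pow p g hsep s).span_eq_top_of_card_eq_finrank'
  rw [Fintype.card_fin, (AdjoinRoot.powerBasis hg0).finrank, AdjoinRoot.powerBasis_dim]


open IsLocalRing in
theorem exists_basis {A : Type*} [CommRing A] [IsLocalRing A] (p : ℕ) [Fact p.Prime]
    [hchar : CharP (IsLocalRing.ResidueField A) p] (g : A[X]) (hg : g.Monic) (hsep : g.Separable)
    (s : ℕ) :
    ∃ b : Module.Basis (Fin g.natDegree) A (AdjoinRoot g),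
      ∀ i : Fin g.natDegree, b i = AdjoinRoot.root g ^ (p ^ s * (i : ℕ)) := by
  classical
  obtain ⟨m, hm⟩ : ∃ m : Ideal A, m = maximalIdeal A := ⟨_, rfl⟩
  have hmax : m.IsMaximal := hm ▸ maximalIdeal.isMaximal A
  let _ : Field (A ⧸ m) := Ideal.Quotient.field m
  have : CharP (A ⧸ m) p := by subst hm; exact hchar
  set g' : (A ⧸ m)[X] := g.map (Ideal.Quotient.mk m) with hg'
  have hsep' : g'.Separable := hsep.map
  have hdeg : g'.natDegree = g.natDegree := hg.natDegree_map _
  let π : AdjoinRoot g →+* AdjoinRoot g' :=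
    ((AdjoinRoot.quotEquivQuotMap g m).toRingEquiv.toRingHom.comp (Ideal.Quotient.mk _) :
      AdjoinRoot g →+* (A ⧸ m)[X] ⧸ Ideal.span {map (Ideal.Quotient.mk m) g})
  have hπker : ∀ x, π x = 0 → x ∈ Ideal.map (AdjoinRoot.of g) m := by
    intro x hx
    rw [← Ideal.Quotient.eq_zero_iff_mem]
    apply (AdjoinRoot.quotEquivQuotMap g m).injective
    rw [map_zero]
    exact hx
  have hπmk : ∀ f : A[X], π (AdjoinRoot.mk g f) = AdjoinRoot.mk g' (f.map (Ideal.Quotient.mk m)) :=
    fun f => AdjoinRoot.quotEquivQuotMap_apply_mk g f m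
  let b : Fin g.natDegree → AdjoinRoot g := fun i => AdjoinRoot.root g ^ (p ^ s * (i : ℕ))
  have hπb : ∀ i : Fin g.natDegree, π (b i) = AdjoinRoot.root g' ^ (p ^ s * (i : ℕ)) := by
    intro i
    have : b i = AdjoinRoot.mk g (X ^ (p ^ s * (i : ℕ))) := by simp [b, AdjoinRoot.mk_X]
    rw [this, hπmk, Polynomial.map_pow, Polynomial.map_X, map_pow, AdjoinRoot.mk_X]
  have hπc : ∀ c : A, π (algebraMap A (AdjoinRoot g) c) =
      algebraMap (A ⧸ m) (AdjoinRoot g') (Ideal.Quotient.mk m c) := by
    intro c
    have : algebraMap A (AdjoinRoot g) c = AdjoinRoot.mk g (C c) := rfl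
    rw [this, hπmk, Polynomial.map_C]
    rfl
  have hfin : Module.Finite A (AdjoinRoot g) := (AdjoinRoot.powerBasis' hg).finite
  have hspan : ⊤ ≤ Submodule.span A (Set.range b) := by
    apply Submodule.le_of_le_smul_of_le_jacobson_bot (I := m) hfin.1
      (hm ▸ IsLocalRing.maximalIdeal_le_jacobson _)
    intro x _
    have hx : π x ∈ Submodule.span (A ⧸ m) (Set.range
        (fun i : Fin g'.natDegree => AdjoinRoot.root g' ^ (p ^ s * (i : ℕ)))) := by
      rw [span_pow_eq_top p g' hsep' s]; exact Submodule.mem_top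
    rw [Submodule.mem_span_range_iff_exists_fun] at hx
    obtain ⟨c, hc⟩ := hx
    choose c' hc' using fun i => Ideal.Quotient.mk_surjective (c i)
    let y : AdjoinRoot g := ∑ i : Fin g.natDegree, c' (Fin.cast hdeg.symm i) • b i
    have hy : y ∈ Submodule.span A (Set.range b) :=
      Submodule.sum_mem _ fun i _ => Submodule.smul_mem _ _ (Submodule.subset_span ⟨i, rfl⟩)
    have hxy : x - y ∈ (m • ⊤ : Submodule A (AdjoinRoot g)) := by
      rw [Ideal.smul_top_eq_map, Submodule.restrictScalars_mem]
      apply hπker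
      rw [map_sub, ← hc, sub_eq_zero]
      show _ = π (∑ i : Fin g.natDegree, c' (Fin.cast hdeg.symm i) • b i)
      rw [map_sum]
      refine Fintype.sum_equiv (finCongr hdeg) _ _ fun i => ?_
      have h1 : Fin.cast hdeg.symm (finCongr hdeg i) = i := by ext; simp
      have h2 : ((finCongr hdeg i : Fin g.natDegree) : ℕ) = i := by simp
      rw [Algebra.smul_def (c i), Algebra.smul_def (c' _) (b _), map_mul, hπb, hπc, hc', h1, h2]
    have : x = y + (x - y) := by ring
    rw [this]
    exact Submodule.add_mem_sup hy hxy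
  have hcard : Fintype.card (Fin g.natDegree) = Module.finrank A (AdjoinRoot g) := by
    rw [Fintype.card_fin, (AdjoinRoot.powerBasis' hg).finrank, AdjoinRoot.powerBasis'_dim]
  refine ⟨basisOfTopLeSpanOfCardEqFinrank b hspan hcard, fun i => ?_⟩
  rw [coe_basisOfTopLeSpanOfCardEqFinrank]

end Groth.Agent.H97.FrobBasis
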