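import Mathlib

namespace Groth.Agent.H97.GaussJacobi

open Finset

variable {F : Type*} [Field F] [Fintype F] [DecidableEq F] {R : Type*} [CommRing R] [IsDomain R]

/-- evaluation of a finite product of multiplicative characters at a unit -/
theorem prod_apply_unit {ι : Type*} (s : Finset ι) (φ : ι → MulChar F R) (y : F) (hy : y ≠ 0) :
    (∏ i ∈ s, φ i) y = ∏ i ∈ s, φ i y := by
  classical
  induction s using Finset.induction_on with
  | empty => simp [MulChar.one_apply (isUnit_iff_ne_zero.mpr hy)]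
  | insert a s ha ih => rw [Finset.prod_insert ha, Finset.prod_insert ha, MulChar.mul_apply, ih]

/-- an additive character maps finite sums to products -/
theorem addChar_sum {ι : Type*} (s : Finset ι) (Ψ : AddChar F R) (y : ι → F) :
    Ψ (∑ i ∈ s, y i) = ∏ i ∈ s, Ψ (y i) := by
  classical
  induction s using Finset.induction_on with
  | empty => simp
  | insert a s ha ih =>
    rw [Finset.sum_insert ha, Finset.prod_insert ha, AddChar.map_add_eq_mul, ih]

/-- the inner sum for fixed `y0 ≠ 0` after rescaling -/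
theorem inner_rescale (N : ℕ) (φ : Fin (N+1) → MulChar F R) (hprod : ∏ i, φ i = 1)
    (Ψ : AddChar F R) (y0 : F) (hy0 : y0 ≠ 0) :
    ∑ x : Fin N → F, (Ψ (y0 + ∑ i, x i) * (φ 0 y0 * ∏ i : Fin N, φ i.succ (x i))) =
      ∑ x : Fin N → F, (Ψ (y0 * (1 + ∑ i, x i)) * ∏ i : Fin N, φ i.succ (x i)) := by
  rw [← (Equiv.piCongrRight (fun _ : Fin N => Equiv.mulLeft₀ y0 hy0)).sum_comp]
  refine Finset.sum_congr rfl fun x _ => ?_
  have h1 : ∑ i, (Equiv.piCongrRight (fun _ : Fin N => Equiv.mulLeft₀ y0 hy0)) x i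
      = y0 * ∑ i, x i := by
    simp [Finset.mul_sum]
  have h2 : φ 0 y0 * ∏ i : Fin N,
      φ i.succ ((Equiv.piCongrRight (fun _ : Fin N => Equiv.mulLeft₀ y0 hy0)) x i)
      = ∏ i : Fin N, φ i.succ (x i) := by
    have e : ∀ i : Fin N, φ i.succ ((Equiv.piCongrRight
        (fun _ : Fin N => Equiv.mulLeft₀ y0 hy0)) x i) = φ i.succ y0 * φ i.succ (x i) := by
      intro i
      simp
    simp only [e, Finset.prod_mul_distrib]
    rw [← mul_assoc, ← Fin.prod_univ_succ (fun i => φ i y0), ← prod_apply_unit _ _ _ hy0, hprod,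
      MulChar.one_apply (isUnit_iff_ne_zero.mpr hy0), one_mul]
  rw [h1, h2, mul_add, mul_one]

theorem prod_gauss (N : ℕ) (φ : Fin (N+1) → MulChar F R) (hprod : ∏ i, φ i = 1)
    (hnt : ∃ i : Fin N, φ i.succ ≠ 1) (Ψ : AddChar F R) (hΨ : Ψ ≠ 1) :
    ∏ i : Fin (N+1), (∑ y : F, Ψ y * φ i y) =
      (Fintype.card F : R) *
        ∑ x ∈ (univ : Finset (Fin N → F)).filter (fun x => ∑ i, x i = -1),
          ∏ i : Fin N, φ i.succ (x i) := by
  have hprim := AddChar.IsPrimitive.of_ne_one hΨ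
  calc ∏ i : Fin (N+1), (∑ y : F, Ψ y * φ i y)
      = ∑ y : Fin (N+1) → F, ∏ i, (Ψ (y i) * φ i (y i)) := by
        rw [Finset.prod_univ_sum, Fintype.piFinset_univ]
    _ = ∑ y : Fin (N+1) → F, Ψ (∑ i, y i) * ∏ i, φ i (y i) := by
        refine Finset.sum_congr rfl fun y _ => ?_
        rw [Finset.prod_mul_distrib, addChar_sum]
    _ = ∑ y0 : F, ∑ x : Fin N → F,
          Ψ (y0 + ∑ i, x i) * (φ 0 y0 * ∏ i : Fin N, φ i.succ (x i)) := by
        rw [← (Fin.consEquiv (fun _ => F)).sum_comp, Fintype.sum_prod_type]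
        refine Finset.sum_congr rfl fun y0 _ => Finset.sum_congr rfl fun x _ => ?_
        simp [Fin.sum_univ_succ, Fin.prod_univ_succ]
    _ = ∑ y0 ∈ univ.erase (0:F), ∑ x : Fin N → F,
          Ψ (y0 * (1 + ∑ i, x i)) * ∏ i : Fin N, φ i.succ (x i) := by
        refine (Finset.sum_erase (a := (0:F)) univ ?_).symm.trans ?_
        · simp [MulChar.map_zero]
        · refine Finset.sum_congr rfl fun y0 hy0 => ?_
          exact inner_rescale N φ hprod Ψ y0 (Finset.ne_of_mem_erase hy0)
    _ = ∑ x : Fin N → F, (∏ i : Fin N, φ i.succ (x i)) *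
          ∑ y0 ∈ univ.erase (0:F), Ψ (y0 * (1 + ∑ i, x i)) := by
        rw [Finset.sum_comm]
        refine Finset.sum_congr rfl fun x _ => ?_
        rw [Finset.mul_sum]
        exact Finset.sum_congr rfl fun y0 _ => mul_comm _ _
    _ = ∑ x : Fin N → F, (∏ i : Fin N, φ i.succ (x i)) *
          ((if 1 + ∑ i, x i = 0 then (Fintype.card F : R) else 0) - 1) := by
        refine Finset.sum_congr rfl fun x _ => ?_
        congr 1
        rw [Finset.sum_erase_eq_sub (Finset.mem_univ _), AddChar.sum_mulShift _ hprim]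
        simp
    _ = (Fintype.card F : R) *
          ∑ x ∈ univ.filter (fun x : Fin N → F => ∑ i, x i = -1), ∏ i, φ i.succ (x i)
          - ∑ x : Fin N → F, ∏ i : Fin N, φ i.succ (x i) := by
        simp only [mul_sub, mul_one, Finset.sum_sub_distrib]
        congr 1
        rw [Finset.mul_sum, Finset.sum_filter]
        refine Finset.sum_congr rfl fun x _ => ?_
        have : (1 + ∑ i, x i = 0) ↔ (∑ i, x i = -1) := by
          constructor <;> intro h <;> linear_combination h
        simp only [this]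
        split_ifs <;> ring
    _ = _ := by
        have : ∑ x : Fin N → F, ∏ i : Fin N, φ i.succ (x i) = 0 := by
          obtain ⟨i0, hi0⟩ := hnt
          have := Finset.prod_univ_sum (fun _ : Fin N => (univ : Finset F))
            (fun i y => φ i.succ y)
          rw [Fintype.piFinset_univ] at this
          rw [← this]
          exact Finset.prod_eq_zero (Finset.mem_univ i0) (MulChar.sum_eq_zero_of_ne_one hi0)
        rw [this, sub_zero]

/-- conversion between unit-valued and field-valued tuples -/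
theorem sum_units_eq (N : ℕ) (ψ : Fin N → MulChar F R) :
    ∑ x ∈ (Finset.univ : Finset (Fin N → Fˣ)).filter (fun x => ∑ i, ((x i : Fˣ) : F) = -1),
        ∏ i : Fin N, ψ i ((x i : Fˣ) : F) =
      ∑ z ∈ (univ : Finset (Fin N → F)).filter (fun z => ∑ i, z i = -1),
        ∏ i : Fin N, ψ i (z i) := by
  refine Finset.sum_bij_ne_zero (fun x _ _ => fun j => ((x j : Fˣ) : F)) ?_ ?_ ?_ ?_
  · intro x hx _
    simpa using hx
  · intro x _ _ x' _ _ h
    funext j
    exact Units.ext (congrFun h j)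
  · intro z hz hne
    have hz0 : ∀ j, z j ≠ 0 := by
      intro j hj
      apply hne
      exact Finset.prod_eq_zero (Finset.mem_univ j) (by rw [hj, MulChar.map_zero])
    refine ⟨fun j => Units.mk0 (z j) (hz0 j), ?_, ?_, ?_⟩
    · simpa using hz
    · simpa using hne
    · funext j; simp
  · intro x _ _
    rfl

theorem main (N : ℕ) (hN : 1 ≤ N) (χ : Fin (N + 1) → MulChar F R) (hprod : ∏ i, χ i = 1)
    (hnt : ∃ i, χ i ≠ 1) (Ψ : AddChar F R) (hΨ : Ψ ≠ 1) :
    (Fintype.card F : R) * ((-1) ^ (N - 1) *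
        ∑ x ∈ (Finset.univ : Finset (Fin N → Fˣ)).filter
          (fun x => ∑ i, ((x i : Fˣ) : F) = -1),
          ∏ i : Fin N, (χ i.succ)⁻¹ ((x i : Fˣ) : F)) =
      ∏ i : Fin (N + 1), (-(∑ y : F, Ψ y * (χ i)⁻¹ y)) := by
  have hprod' : ∏ i, (χ i)⁻¹ = 1 := by
    rw [Finset.prod_inv_distrib, hprod, inv_one]
  have hnt' : ∃ i : Fin N, (χ i.succ)⁻¹ ≠ 1 := by
    by_contra hcon
    push Not at hcon
    have h1 : ∀ i : Fin N, χ i.succ = 1 := fun i => inv_eq_one.mp (hcon i)
    have h0 : χ 0 = 1 := by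
      rw [Fin.prod_univ_succ] at hprod
      simpa [h1] using hprod
    obtain ⟨i, hi⟩ := hnt
    refine Fin.cases ?_ ?_ i hi
    · exact fun h => h h0
    · exact fun j h => h (h1 j)
  rw [Finset.prod_neg, prod_gauss N (fun i => (χ i)⁻¹) hprod' hnt' Ψ hΨ, sum_units_eq N
    (fun i => (χ i.succ)⁻¹)]
  simp only [Finset.card_univ, Fintype.card_fin]
  obtain ⟨M, rfl⟩ : ∃ M, N = M + 1 := ⟨N - 1, by omega⟩
  simp only [Nat.add_sub_cancel]
  ring

end Groth.Agent.H97.GaussJacobi
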