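import Mathlib

/-!
Graded Nakayama for non-negatively ℤ-graded rings with degree-zero part a field:
finitely generated projective graded modules are free on homogeneous elements.
-/

set_option autoImplicit false

namespace Groth.Agent.H97.GrNak

open DirectSum

section Comp

variable {R : Type*} [CommRing R] {σ : Type*} [SetLike σ R] [AddSubmonoidClass σ R]
  (𝒜 : ℤ → σ) [GradedRing 𝒜]
variable {M : Type*} [AddCommGroup M] [Module R M] {τ : Type*} [SetLike τ M]
  [AddSubmonoidClass τ M] (ℳ : ℤ → τ) [DirectSum.Decomposition ℳ] [SetLike.GradedSMul 𝒜 ℳ]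

/-- The degree-`d` component, as an additive map. -/
noncomputable def comp (d : ℤ) : M →+ M where
  toFun m := (decompose ℳ m d : M)
  map_zero' := by simp
  map_add' x y := by simp [decompose_add]

lemma comp_apply (d : ℤ) (m : M) : comp ℳ d m = (decompose ℳ m d : M) := rfl

lemma comp_mem (d : ℤ) (m : M) : comp ℳ d m ∈ ℳ d := (decompose ℳ m d).2

lemma comp_of_mem {e d : ℤ} {x : M} (hx : x ∈ ℳ e) :
    comp ℳ d x = if e = d then x else 0 := by
  split_ifs with h
  · subst h
    exact decompose_of_mem_same ℳ hx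
  · exact decompose_of_mem_ne ℳ hx h

lemma sum_comp (m : M) : ∃ s : Finset ℤ, m = ∑ i ∈ s, comp ℳ i m := by
  classical
  exact ⟨(decompose ℳ m).support, (sum_support_decompose ℳ m).symm⟩

lemma eq_zero_of_comp_eq_zero (m : M) (h : ∀ d, comp ℳ d m = 0) : m = 0 := by
  obtain ⟨s, hs⟩ := sum_comp ℳ m
  rw [hs]
  exact Finset.sum_eq_zero (fun i _ => h i)

include 𝒜 in
/-- Membership principle for components of a scalar multiple. -/
lemma comp_smul_mem (N : AddSubmonoid M) (r : R) (y : M) (d : ℤ)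
    (h : ∀ i e, i + e = d → comp 𝒜 i r • comp ℳ e y ∈ N) :
    comp ℳ d (r • y) ∈ N := by
  obtain ⟨s, hs⟩ := sum_comp 𝒜 r
  obtain ⟨t, ht⟩ := sum_comp ℳ y
  have h1 : r • y = ∑ i ∈ s, ∑ e ∈ t, comp 𝒜 i r • comp ℳ e y := by
    conv_lhs => rw [hs, ht]
    rw [Finset.sum_smul]
    refine Finset.sum_congr rfl (fun i _ => ?_)
    rw [Finset.smul_sum]
  rw [h1, map_sum]
  refine N.sum_mem (fun i _ => ?_)
  rw [map_sum]
  refine N.sum_mem (fun e _ => ?_)
  have hmem : comp 𝒜 i r • comp ℳ e y ∈ ℳ (i + e) :=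
    SetLike.GradedSMul.smul_mem (comp_mem 𝒜 i r) (comp_mem ℳ e y)
  rw [comp_of_mem ℳ hmem]
  split_ifs with h2
  · exact h i e h2
  · exact N.zero_mem

end Comp


section Irrelevant

variable {R : Type*} [CommRing R] {σ : Type*} [SetLike σ R] [AddSubmonoidClass σ R]
  (𝒜 : ℤ → σ) [GradedRing 𝒜]

/-- The irrelevant ideal: generated by the elements of positive degree. -/
def irr : Ideal R := Ideal.span {x | ∃ i : ℤ, 0 < i ∧ x ∈ 𝒜 i}

variable (hneg : ∀ i : ℤ, i < 0 → ∀ x ∈ 𝒜 i, x = 0)

include hneg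

lemma comp_neg {d : ℤ} (hd : d < 0) (r : R) : comp 𝒜 d r = 0 :=
  hneg d hd _ (comp_mem 𝒜 d r)

lemma comp_zero_of_mem_irr {a : R} (ha : a ∈ irr 𝒜) : comp 𝒜 0 a = 0 := by
  induction ha using Submodule.span_induction with
  | mem x hx =>
    obtain ⟨i, hi, hxi⟩ := hx
    rw [comp_of_mem 𝒜 hxi, if_neg (ne_of_gt hi)]
  | zero => exact map_zero _
  | add x y _ _ hx hy => rw [map_add, hx, hy, add_zero]
  | smul s x _ hx =>
    have := comp_smul_mem 𝒜 𝒜 (⊥ : AddSubmonoid R) s x 0 (fun i e hie => ?_)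
    · simpa using this
    · rw [AddSubmonoid.mem_bot]
      rcases lt_trichotomy i 0 with hi | hi | hi
      · rw [comp_neg 𝒜 hneg hi, zero_smul]
      · subst hi
        have : e = 0 := by omega
        subst this
        rw [hx, smul_zero]
      · have : e < 0 := by omega
        rw [comp_neg 𝒜 hneg this, smul_zero]

lemma comp_eq_zero_of_mem_irr_pow (n : ℕ) :
    ∀ a ∈ (irr 𝒜) ^ n, ∀ d : ℤ, d < n → comp 𝒜 d a = 0 := by
  induction n with
  | zero =>
    intro a _ d hd
    exact comp_neg 𝒜 hneg (by simpa using hd) a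
  | succ n ih =>
    intro a ha d hd
    rw [pow_succ] at ha
    refine Submodule.mul_induction_on ha (fun x hx y hy => ?_)
      (fun x y hx hy => by rw [map_add, hx, hy, add_zero])
    have := comp_smul_mem 𝒜 𝒜 (⊥ : AddSubmonoid R) x y d (fun i e hie => ?_)
    · simpa using this
    · rw [AddSubmonoid.mem_bot]
      by_cases hi : i < n
      · rw [ih x hx i hi, zero_smul]
      · have he : e ≤ 0 := by push_cast at hd; omega
        rcases lt_or_eq_of_le he with he' | he'
        · rw [comp_neg 𝒜 hneg he', smul_zero]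
        · subst he'
          rw [comp_zero_of_mem_irr 𝒜 hneg hy, smul_zero]

lemma eq_zero_of_forall_mem_irr_pow {a : R} (ha : ∀ n : ℕ, a ∈ (irr 𝒜) ^ n) : a = 0 := by
  apply eq_zero_of_comp_eq_zero 𝒜
  intro d
  rcases lt_or_ge d 0 with hd | hd
  · exact comp_neg 𝒜 hneg hd a
  · have := comp_eq_zero_of_mem_irr_pow 𝒜 hneg (d.toNat + 1) a (ha _) d (by
      push_cast
      rw [Int.toNat_of_nonneg hd]
      omega)
    exact this

omit hneg in
lemma comp_mem_irr {i : ℤ} (hi : 0 < i) (r : R) : comp 𝒜 i r ∈ irr 𝒜 :=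
  Ideal.subset_span ⟨i, hi, comp_mem 𝒜 i r⟩

lemma sub_comp_zero_mem_irr (r : R) : r - comp 𝒜 0 r ∈ irr 𝒜 := by
  classical
  obtain ⟨s, hs⟩ := sum_comp 𝒜 r
  have h1 : r = ∑ i ∈ insert 0 s, comp 𝒜 i r := by
    by_cases h0 : (0 : ℤ) ∈ s
    · rw [Finset.insert_eq_of_mem h0]; exact hs
    · rw [Finset.sum_insert h0, ← hs]
      -- comp 0 r = 0 since 0 ∉ s
      have : comp 𝒜 0 r = 0 := by
        conv_lhs => rw [hs]
        rw [map_sum]
        refine Finset.sum_eq_zero (fun i hi => ?_)
        rw [comp_of_mem 𝒜 (comp_mem 𝒜 i r), if_neg]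
        rintro rfl
        exact h0 hi
      rw [this, zero_add]
  have h2' : comp 𝒜 0 r + ∑ i ∈ (insert 0 s).erase 0, comp 𝒜 i r = r := by
    rw [Finset.add_sum_erase _ (fun i => comp 𝒜 i r) (Finset.mem_insert_self 0 s)]
    exact h1.symm
  have h2 : r - comp 𝒜 0 r = ∑ i ∈ (insert 0 s).erase 0, comp 𝒜 i r := by
    rw [sub_eq_iff_eq_add, add_comm]
    exact h2'.symm
  rw [h2]
  refine Ideal.sum_mem _ (fun i hi => ?_)
  have hi0 : i ≠ 0 := Finset.ne_of_mem_erase hi
  rcases lt_or_gt_of_ne hi0 with h | h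
  · rw [comp_neg 𝒜 hneg h]
    exact Ideal.zero_mem _
  · exact comp_mem_irr 𝒜 h r

end Irrelevant


section Generation

variable {R : Type*} [CommRing R] {σ : Type*} [SetLike σ R] [AddSubmonoidClass σ R]
  (𝒜 : ℤ → σ) [GradedRing 𝒜]
variable {M : Type*} [AddCommGroup M] [Module R M] {τ : Type*} [SetLike τ M]
  [AddSubmonoidClass τ M] (ℳ : ℤ → τ) [DirectSum.Decomposition ℳ] [SetLike.GradedSMul 𝒜 ℳ]

include 𝒜 in
/-- The span of a set of homogeneous elements is stable under taking components. -/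
lemma comp_mem_span (S : Set M) (hS : ∀ s ∈ S, SetLike.IsHomogeneousElem ℳ s) {n : M}
    (hn : n ∈ Submodule.span R S) (d : ℤ) : comp ℳ d n ∈ Submodule.span R S := by
  induction hn using Submodule.span_induction generalizing d with
  | mem x hx =>
    obtain ⟨e, he⟩ := hS x hx
    rw [comp_of_mem ℳ he]
    split_ifs
    · exact Submodule.subset_span hx
    · exact zero_mem _
  | zero => rw [map_zero]; exact zero_mem _
  | add x y _ _ hx hy => rw [map_add]; exact add_mem (hx d) (hy d)
  | smul r x _ hx =>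
    exact comp_smul_mem 𝒜 ℳ (Submodule.span R S).toAddSubmonoid r x d
      (fun i e _ => Submodule.smul_mem _ _ (hx e))

variable (hneg : ∀ i : ℤ, i < 0 → ∀ x ∈ 𝒜 i, x = 0)

include hneg in
/-- Graded Nakayama: homogeneous elements generating modulo the irrelevant ideal generate. -/
theorem span_eq_top_of_sup_irr [Module.Finite R M] (S : Set M)
    (hS : ∀ s ∈ S, SetLike.IsHomogeneousElem ℳ s)
    (h : Submodule.span R S ⊔ (irr 𝒜) • (⊤ : Submodule R M) = ⊤) :
    Submodule.span R S = ⊤ := by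
  set N := Submodule.span R S with hN
  have hQ : (⊤ : Submodule R (M ⧸ N)) ≤ irr 𝒜 • (⊤ : Submodule R (M ⧸ N)) := by
    have h1 : (⊤ : Submodule R (M ⧸ N)) = Submodule.map N.mkQ ⊤ := by
      rw [Submodule.map_top, Submodule.range_mkQ]
    have h2 : Submodule.map N.mkQ (N ⊔ (irr 𝒜) • (⊤ : Submodule R M)) =
        irr 𝒜 • (⊤ : Submodule R (M ⧸ N)) := by
      rw [Submodule.map_sup, Submodule.mkQ_map_self, bot_sup_eq, Submodule.map_smul'', ← h1]
    rw [← h2, h, ← h1]
  obtain ⟨r, hr1, hr2⟩ := Submodule.exists_sub_one_mem_and_smul_eq_zero_of_fg_of_le_smul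
    (irr 𝒜) (⊤ : Submodule R (M ⧸ N)) Module.Finite.fg_top hQ
  have hrN : ∀ x : M, r • x ∈ N := fun x => by
    have := hr2 (N.mkQ x) trivial
    rwa [← map_smul, Submodule.mkQ_apply, Submodule.Quotient.mk_eq_zero] at this
  have hhom : ∀ d, ∀ x ∈ ℳ d, x ∈ N := by
    intro d x hx
    have h1 := comp_mem_span 𝒜 ℳ S hS (hrN x) d
    have h2 : comp ℳ d (r • x) = x := by
      have : r • x = x + (r - 1) • x := by rw [sub_smul, one_smul]; abel
      rw [this, map_add, comp_of_mem ℳ hx, if_pos rfl]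
      have h3 := comp_smul_mem 𝒜 ℳ (⊥ : AddSubmonoid M) (r - 1) x d (fun i e hie => ?_)
      · rw [AddSubmonoid.mem_bot] at h3
        rw [h3, add_zero]
      · rw [AddSubmonoid.mem_bot, comp_of_mem ℳ hx]
        split_ifs with hde
        · have : i = 0 := by omega
          subst this
          rw [comp_zero_of_mem_irr 𝒜 hneg hr1, zero_smul]
        · rw [smul_zero]
    rwa [h2] at h1
  rw [eq_top_iff]
  intro x _
  obtain ⟨s, hs⟩ := sum_comp ℳ x
  rw [hs]
  exact Submodule.sum_mem _ (fun i _ => hhom i _ (comp_mem ℳ i x))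

include hneg in
/-- A generating family of a projective module whose relations have coefficients in the
irrelevant ideal is linearly independent. -/
theorem linearIndependent_of_projective {ι : Type*} (m : ι → M) [Module.Projective R M]
    (hsp : Submodule.span R (Set.range m) = ⊤)
    (hker : ∀ c : ι →₀ R, Finsupp.linearCombination R m c = 0 → ∀ v, c v ∈ irr 𝒜) :
    LinearIndependent R m := by
  classical
  set ψ := Finsupp.linearCombination R m with hψdef
  have hψ : Function.Surjective ψ := by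
    rw [← LinearMap.range_eq_top, Finsupp.range_linearCombination, hsp]
  obtain ⟨σ', hσ⟩ := Module.projective_lifting_property ψ LinearMap.id hψ
  set e : (ι →₀ R) →ₗ[R] (ι →₀ R) := LinearMap.id - σ' ∘ₗ ψ with hedef
  have he_ker : ∀ x, ψ (e x) = 0 := by
    intro x
    have := LinearMap.congr_fun hσ (ψ x)
    simp only [LinearMap.comp_apply, LinearMap.id_apply] at this
    simp [hedef, this]
  have he_id : ∀ c, ψ c = 0 → e c = c := by
    intro c hc
    simp [hedef, hc]
  have key : ∀ n : ℕ, ∀ c : ι →₀ R, ψ c = 0 → ∀ v, c v ∈ (irr 𝒜) ^ (n + 1) := by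
    intro n
    induction n with
    | zero =>
      intro c hc v
      simpa using hker c hc v
    | succ n ih =>
      intro c hc v
      have h1 : c = ∑ w ∈ c.support, c w • Finsupp.single w (1 : R) := by
        conv_lhs => rw [← Finsupp.sum_single c]
        rw [Finsupp.sum]
        refine Finset.sum_congr rfl (fun w _ => ?_)
        rw [Finsupp.smul_single, smul_eq_mul, mul_one]
      have h2 : c = ∑ w ∈ c.support, c w • e (Finsupp.single w (1 : R)) := by
        conv_lhs => rw [← he_id c hc, h1]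
        simp only [map_sum, map_smul]
      have h3 : c v = ∑ w ∈ c.support, c w * (e (Finsupp.single w (1 : R))) v := by
        conv_lhs => rw [h2]
        simp [Finsupp.coe_finsetSum, Finset.sum_apply]
      rw [h3, pow_succ]
      refine Ideal.sum_mem _ (fun w _ => ?_)
      refine Ideal.mul_mem_mul (ih c hc w) ?_
      exact hker _ (he_ker _) v
  rw [linearIndependent_iff]
  intro c hc
  ext v
  rw [Finsupp.zero_apply]
  apply eq_zero_of_forall_mem_irr_pow 𝒜 hneg
  intro n
  rcases n with _ | n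
  · simp
  · exact key n c hc v

end Generation


section Main

universe u

theorem exists_homogeneous_basis {k : Type u} [Field k] {R : Type u} [CommRing R] [Algebra k R]
    {σ : Type u} [SetLike σ R] [AddSubmonoidClass σ R] (𝒜 : ℤ → σ) [GradedRing 𝒜]
    (hneg : ∀ i : ℤ, i < 0 → ∀ x ∈ 𝒜 i, x = 0)
    (h0 : ∀ x ∈ 𝒜 0, ∃ c : k, algebraMap k R c = x)
    {M : Type u} [AddCommGroup M] [Module R M] [Module.Finite R M]
    {τ : Type u} [SetLike τ M] [AddSubmonoidClass τ M] (ℳ : ℤ → τ) [DirectSum.Decomposition ℳ]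
    [SetLike.GradedSMul 𝒜 ℳ] [Module.Projective R M] :
    ∃ (ι : Type u) (b : Module.Basis ι R M), ∀ i : ι, SetLike.IsHomogeneousElem ℳ (b i) := by
  classical
  set P : Submodule R M := (irr 𝒜) • (⊤ : Submodule R M) with hP
  letI : Module k (M ⧸ P) := Module.compHom (M ⧸ P) (algebraMap k R)
  have hsmul : ∀ (c : k) (q : M ⧸ P), c • q = algebraMap k R c • q := fun _ _ => rfl
  set π := P.mkQ with hπ
  -- elements of the irrelevant ideal act by zero on the quotient
  have hirr : ∀ a ∈ irr 𝒜, ∀ q : M ⧸ P, a • q = 0 := by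
    intro a ha q
    obtain ⟨y, rfl⟩ := Submodule.mkQ_surjective P q
    rw [← map_smul, Submodule.mkQ_apply, Submodule.Quotient.mk_eq_zero]
    exact Submodule.smul_mem_smul ha trivial
  -- scalar action through the degree-zero component
  have hact : ∀ (r : R) (c : k), algebraMap k R c = comp 𝒜 0 r → ∀ q : M ⧸ P, r • q = c • q := by
    intro r c hc q
    have : r = algebraMap k R c + (r - comp 𝒜 0 r) := by rw [hc]; abel
    conv_lhs => rw [this]
    rw [add_smul, hirr _ (sub_comp_zero_mem_irr 𝒜 hneg r), add_zero, hsmul]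
  set t : Set (M ⧸ P) := π '' {x : M | SetLike.IsHomogeneousElem ℳ x} with ht
  have hspan_t : Submodule.span k t = ⊤ := by
    rw [eq_top_iff]
    intro q _
    obtain ⟨x, rfl⟩ := Submodule.mkQ_surjective P q
    obtain ⟨s, hs⟩ := sum_comp ℳ x
    rw [hs, map_sum]
    refine Submodule.sum_mem _ (fun i _ => Submodule.subset_span ?_)
    exact ⟨comp ℳ i x, ⟨i, comp_mem ℳ i x⟩, rfl⟩
  obtain ⟨b, hbt, hbspan, hbli⟩ := exists_linearIndependent k t
  rw [hspan_t] at hbspan
  have hchoose : ∀ v : b, ∃ x : M, SetLike.IsHomogeneousElem ℳ x ∧ π x = v.1 := by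
    intro v
    obtain ⟨x, hx, hxv⟩ := hbt v.2
    exact ⟨x, hx, hxv⟩
  choose s hs1 hs2 using hchoose
  -- generation
  have hgen : Submodule.span R (Set.range s) = ⊤ := by
    apply span_eq_top_of_sup_irr 𝒜 ℳ hneg (Set.range s)
    · rintro _ ⟨v, rfl⟩
      exact hs1 v
    · rw [eq_top_iff]
      intro x _
      have hx : π x ∈ Submodule.span k b := by rw [hbspan]; trivial
      have hlift : ∀ q ∈ Submodule.span k b, ∃ n ∈ Submodule.span R (Set.range s), π n = q := by
        intro q hq
        induction hq using Submodule.span_induction with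
        | mem q hq => exact ⟨s ⟨q, hq⟩, Submodule.subset_span ⟨_, rfl⟩, hs2 ⟨q, hq⟩⟩
        | zero => exact ⟨0, zero_mem _, map_zero _⟩
        | add q1 q2 _ _ h1 h2 =>
          obtain ⟨n1, hn1, rfl⟩ := h1
          obtain ⟨n2, hn2, rfl⟩ := h2
          exact ⟨n1 + n2, add_mem hn1 hn2, map_add _ _ _⟩
        | smul c q _ h1 =>
          obtain ⟨n1, hn1, rfl⟩ := h1
          exact ⟨algebraMap k R c • n1, Submodule.smul_mem _ _ hn1, by rw [map_smul, hsmul]⟩
      obtain ⟨n, hn, hnx⟩ := hlift _ hx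
      have hdiff : x - n ∈ P := by
        rw [← Submodule.Quotient.mk_eq_zero, Submodule.Quotient.mk_sub, sub_eq_zero]
        exact hnx.symm
      have : x = n + (x - n) := by abel
      rw [this]
      exact Submodule.add_mem_sup hn hdiff
  -- relations have coefficients in the irrelevant ideal
  have hker : ∀ c : b →₀ R, Finsupp.linearCombination R s c = 0 → ∀ v, c v ∈ irr 𝒜 := by
    intro c hc v
    have hg : ∀ w : b, ∃ γ : k, algebraMap k R γ = comp 𝒜 0 (c w) :=
      fun w => h0 _ (comp_mem 𝒜 0 (c w))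
    choose g hg' using hg
    have h1 : ∑ w ∈ c.support, g w • (w.1 : M ⧸ P) = 0 := by
      have h2 := congrArg π hc
      rw [Finsupp.linearCombination_apply, Finsupp.sum, map_sum, map_zero] at h2
      rw [← h2]
      refine Finset.sum_congr rfl (fun w _ => ?_)
      rw [map_smul, hs2, hact (c w) (g w) (hg' w)]
    have h3 := (linearIndependent_iff'.mp hbli) c.support g h1
    by_cases hv : v ∈ c.support
    · have h4 : comp 𝒜 0 (c v) = 0 := by rw [← hg' v, h3 v hv, map_zero]
      have := sub_comp_zero_mem_irr 𝒜 hneg (c v)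
      rwa [h4, sub_zero] at this
    · rw [Finsupp.notMem_support_iff.mp hv]
      exact zero_mem _
  have hli : LinearIndependent R s := linearIndependent_of_projective 𝒜 hneg s hgen hker
  refine ⟨b, Module.Basis.mk hli hgen.ge, fun i => ?_⟩
  rw [Module.Basis.mk_apply]
  exact hs1 i

end Main

end Groth.Agent.H97.GrNak
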