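import Mathlib
import Groth.Agent.Lead.RegularCompletion

/-!
# `I`-adic completion of a Noetherian local ring along a proper ideal:
local, same dimension, regular iff regular.
-/

set_option autoImplicit false
universe u
open CategoryTheory IsLocalRing TensorProduct

namespace Groth.Agent.H97.IAdic

variable (A : Type u) [CommRing A] [IsLocalRing A] [IsNoetherianRing A] (I : Ideal A)

local notation "Â" => AdicCompletion I A

theorem isLocalRing (hI : I ≠ ⊤) : IsLocalRing Â := by
  have fg : I.FG := IsNoetherian.noetherian I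
  have hc : IsAdicComplete (I.map (algebraMap A Â)) Â := AdicCompletion.isAdicComplete_self I fg
  have hJ : I.map (algebraMap A Â) ≤ Ideal.jacobson ⊥ := IsAdicComplete.le_jacobson_bot _
  have hker : RingHom.ker (AdicCompletion.evalOneₐ I).toRingHom = I.map (algebraMap A Â) :=
    AdicCompletion.ker_evalOneₐ_eq_map I fg
  have : Nontrivial (A ⧸ I) := Ideal.Quotient.nontrivial_iff.mpr hI
  have : IsLocalRing (A ⧸ I) :=
    IsLocalRing.of_surjective' (Ideal.Quotient.mk I) Ideal.Quotient.mk_surjective
  let e : (Â ⧸ RingHom.ker (AdicCompletion.evalOneₐ I).toRingHom) ≃+* (A ⧸ I) :=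
    RingHom.quotientKerEquivOfSurjective
      (f := (AdicCompletion.evalOneₐ I).toRingHom) (AdicCompletion.evalOneₐ_surjective I)
  have hloc : IsLocalRing (Â ⧸ RingHom.ker (AdicCompletion.evalOneₐ I).toRingHom) :=
    e.symm.isLocalRing
  have hlh : IsLocalHom (Ideal.Quotient.mk (RingHom.ker (AdicCompletion.evalOneₐ I).toRingHom)) :=
    isLocalHom_of_le_jacobson_bot _ (hker ▸ hJ)
  exact RingHom.domain_isLocalRing
    (Ideal.Quotient.mk (RingHom.ker (AdicCompletion.evalOneₐ I).toRingHom))

theorem maximalIdeal_eq_map (hI : I ≠ ⊤) :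
    haveI := isLocalRing A I hI
    maximalIdeal Â = (maximalIdeal A).map (algebraMap A Â) := by
  haveI := isLocalRing A I hI
  have fg : I.FG := IsNoetherian.noetherian I
  exact (IsLocalRing.eq_maximalIdeal (AdicCompletion.isMaximal_map_of_le I (maximalIdeal A)
    (IsLocalRing.le_maximalIdeal hI) fg)).symm

theorem isLocalHom (hI : I ≠ ⊤) :
    haveI := isLocalRing A I hI
    IsLocalHom (algebraMap A Â) := by
  haveI := isLocalRing A I hI
  apply ((IsLocalRing.local_hom_TFAE _).out 0 2).mpr
  rw [maximalIdeal_eq_map A I hI]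

theorem ringKrullDim_eq (hI : I ≠ ⊤) : ringKrullDim Â = ringKrullDim A := by
  haveI := isLocalRing A I hI
  haveI := isLocalHom A I hI
  haveI : IsNoetherianRing Â := Groth.Agent.H20.isNoetherianRing_adicCompletion I
  have hcomap : (maximalIdeal Â).comap (algebraMap A Â) = maximalIdeal A :=
    ((IsLocalRing.local_hom_TFAE (algebraMap A Â)).out 0 4).mp (isLocalHom A I hI)
  haveI : (maximalIdeal Â).LiesOver (maximalIdeal A) := ⟨hcomap.symm⟩
  have h := Ideal.height_eq_height_add_of_liesOver_of_hasGoingDown (maximalIdeal A)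
    (maximalIdeal Â)
  have h0 : ((maximalIdeal Â).map
      (Ideal.Quotient.mk ((maximalIdeal A).map (algebraMap A Â)))).height = 0 := by
    have : (maximalIdeal Â).map
        (Ideal.Quotient.mk ((maximalIdeal A).map (algebraMap A Â))) = ⊥ := by
      rw [← maximalIdeal_eq_map A I hI]
      exact Ideal.map_quotient_self _
    rw [this]
    have : Nontrivial (Â ⧸ (maximalIdeal A).map (algebraMap A Â)) := by
      rw [← maximalIdeal_eq_map A I hI]
      infer_instance
    exact Ideal.height_bot
  rw [h0, add_zero] at h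
  rw [← IsLocalRing.maximalIdeal_height_eq_ringKrullDim,
    ← IsLocalRing.maximalIdeal_height_eq_ringKrullDim, h]

/-- `Â ⊗ k` is the residue field of `Â` -/
noncomputable def completionTensorResidueEquiv (hI : I ≠ ⊤) :
    haveI := isLocalRing A I hI
    (Â ⊗[A] ResidueField A) ≃ₗ[Â] ResidueField Â :=
  haveI := isLocalRing A I hI
  (Algebra.TensorProduct.quotIdealMapEquivTensorQuot Â (maximalIdeal A)).symm.toLinearEquiv.trans
    (Submodule.quotEquivOfEq _ _ (maximalIdeal_eq_map A I hI).symm)

theorem isRegularLocalRing_adicCompletion (hI : I ≠ ⊤) [IsRegularLocalRing A] :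
    IsRegularLocalRing Â := by
  haveI := isLocalRing A I hI
  haveI : IsNoetherianRing Â := Groth.Agent.H20.isNoetherianRing_adicCompletion I
  obtain ⟨d, hd, -⟩ := Groth.Agent.Lead.RLR.exists_ringKrullDim_eq A
  have h1 := Groth.Agent.Lead.RLR.hasProjectiveDimensionLT_residueField A d hd
  have h2 := Groth.Agent.Lead.RLR.hasProjectiveDimensionLT_baseChange A Â d (ResidueField A) h1
  have h3 : HasProjectiveDimensionLT (ModuleCat.of Â (ResidueField Â)) (d + 1) :=
    hasProjectiveDimensionLT_of_iso (completionTensorResidueEquiv A I hI).toModuleIso (d + 1)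
  exact Groth.Agent.Lead.RLR.isRegularLocalRing_of_hasProjectiveDimensionLT _ (d + 1) h3

theorem isRegularLocalRing_adicCompletion_iff (hI : I ≠ ⊤) :
    IsRegularLocalRing A ↔ IsRegularLocalRing Â := by
  constructor
  · intro h
    exact isRegularLocalRing_adicCompletion A I hI
  · intro h
    haveI := isLocalHom A I hI
    exact Groth.Agent.Lead.RLR.isRegularLocalRing_of_flat A Â

end Groth.Agent.H97.IAdic
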