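import Mathlib

set_option autoImplicit false

namespace Groth.Agent.H97

universe u

/-- in a ring with connected spectrum every idempotent is `0` or `1`. -/
theorem idem_eq_zero_or_one {R : Type u} [CommRing R] [ConnectedSpace (PrimeSpectrum R)]
    (e : R) (he : IsIdempotentElem e) : e = 0 ∨ e = 1 := by
  have hcl : IsClopen (PrimeSpectrum.basicOpen e : Set (PrimeSpectrum R)) :=
    PrimeSpectrum.isClopen_basicOpen_of_mul_add e (1 - e)
      (by rw [mul_sub, mul_one, he.eq, sub_self]) (by ring)
  rcases isClopen_iff.mp hcl with h | h
  · left
    apply PrimeSpectrum.basicOpen_injOn_isIdempotentElem he IsIdempotentElem.zero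
    apply SetLike.ext'
    rw [h]
    simp
  · right
    apply PrimeSpectrum.basicOpen_injOn_isIdempotentElem he IsIdempotentElem.one
    apply SetLike.ext'
    rw [h]
    simp

end Groth.Agent.H97
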