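import Mathlib

/-!
`κ(q) ⊗ Â_p = κ(q)`: the ideal generated by `q B_q` in `B_q ⊗_A Â_p` is maximal.
-/

set_option autoImplicit false
universe u

namespace Groth.Agent.H97.KappaCompl

open IsLocalRing TensorProduct

theorem main (A B : Type u) [CommRing A] [CommRing B]
    [Algebra A B] [IsNoetherianRing A] (q : Ideal B) [q.IsPrime] :
    ((maximalIdeal (Localization.AtPrime q)).map
      (Algebra.TensorProduct.includeLeftRingHom :
        Localization.AtPrime q →+* TensorProduct A (Localization.AtPrime q)
          (AdicCompletion (maximalIdeal (Localization.AtPrime (q.under A)))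
            (Localization.AtPrime (q.under A))))).IsMaximal := by
  set Ap := Localization.AtPrime (q.under A) with hAp
  set Bq := Localization.AtPrime q with hBq
  set m := maximalIdeal Ap with hm
  have hfg : m.FG := IsNoetherian.noetherian m
  let φ : Ap →+* Bq := Localization.localRingHom (q.under A) q (algebraMap A B) rfl
  letI algφ : Algebra Ap Bq := φ.toAlgebra
  haveI : IsScalarTower A Ap Bq := IsScalarTower.of_algebraMap_eq' (by
    ext a
    rw [RingHom.comp_apply, RingHom.algebraMap_toAlgebra]
    show _ = Localization.localRingHom (q.under A) q (algebraMap A B) rfl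
      (algebraMap A (Localization.AtPrime (q.under A)) a)
    rw [Localization.localRingHom_to_map]
    exact IsScalarTower.algebraMap_apply A B (Localization.AtPrime q) a)
  haveI hloc : IsLocalHom φ := Localization.isLocalHom_localRingHom _ _ _ rfl
  set I := (maximalIdeal Bq).map
    (Algebra.TensorProduct.includeLeftRingHom : Bq →+* Bq ⊗[A] AdicCompletion m Ap) with hI
  -- claim 2
  have claim2 : ∀ (b : Bq) (x : AdicCompletion m Ap),
      x ∈ m.map (algebraMap Ap (AdicCompletion m Ap)) → b ⊗ₜ[A] x ∈ I := by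
    intro b x hx
    rw [← Submodule.restrictScalars_mem Ap, ← Ideal.smul_top_eq_map] at hx
    refine Submodule.smul_induction_on hx (fun μ hμ y _ => ?_) (fun x y hx hy => ?_)
    · have h1 : b ⊗ₜ[A] (μ • y) = ((μ • b) ⊗ₜ[A] (1 : AdicCompletion m Ap)) * (1 ⊗ₜ[A] y) := by
        rw [Algebra.TensorProduct.tmul_mul_tmul, mul_one, one_mul, TensorProduct.smul_tmul]
      rw [h1]
      refine I.mul_mem_right _ ?_
      have h2 : μ • b ∈ maximalIdeal Bq := by
        rw [Algebra.smul_def]
        exact Ideal.mul_mem_right _ _ (map_nonunit φ μ hμ)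
      exact Ideal.mem_map_of_mem _ h2
    · rw [tmul_add]
      exact I.add_mem hx hy
  -- step 1
  have step1 : ∀ t : Bq ⊗[A] AdicCompletion m Ap, ∃ b : Bq, t - b ⊗ₜ[A] 1 ∈ I := by
    intro t
    induction t using TensorProduct.induction_on with
    | zero => exact ⟨0, by simp⟩
    | add x y hx hy =>
      obtain ⟨b1, h1⟩ := hx
      obtain ⟨b2, h2⟩ := hy
      refine ⟨b1 + b2, ?_⟩
      have : x + y - (b1 + b2) ⊗ₜ[A] (1 : AdicCompletion m Ap) =
          (x - b1 ⊗ₜ[A] 1) + (y - b2 ⊗ₜ[A] 1) := by
        rw [add_tmul]; abel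
      rw [this]
      exact I.add_mem h1 h2
    | tmul b x =>
      obtain ⟨α, hα⟩ := Ideal.Quotient.mk_surjective (AdicCompletion.evalOneₐ m x)
      have hker : x - algebraMap Ap (AdicCompletion m Ap) α ∈
          m.map (algebraMap Ap (AdicCompletion m Ap)) := by
        rw [← AdicCompletion.ker_evalOneₐ_eq_map m hfg, RingHom.mem_ker, map_sub, sub_eq_zero]
        have := congrArg (fun f => f α) (AdicCompletion.evalOneₐ_comp_algebraMap_eq_mk m)
        simp only [RingHom.comp_apply] at this
        rw [this, hα]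
        rfl
      refine ⟨α • b, ?_⟩
      have : b ⊗ₜ[A] x - (α • b) ⊗ₜ[A] (1 : AdicCompletion m Ap) =
          b ⊗ₜ[A] (x - algebraMap Ap (AdicCompletion m Ap) α) := by
        rw [tmul_sub, TensorProduct.smul_tmul, Algebra.smul_def α (1 : AdicCompletion m Ap),
          mul_one]
      rw [this]
      exact claim2 b _ hker
  -- the map to the residue field
  let f : Bq →ₐ[A] ResidueField Bq := IsScalarTower.toAlgHom A Bq (ResidueField Bq)
  let g0 : AdicCompletion m Ap →+* ResidueField Bq :=
    (ResidueField.map φ).comp (AdicCompletion.evalOneₐ m).toRingHom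
  let g : AdicCompletion m Ap →ₐ[A] ResidueField Bq :=
    { g0 with
      commutes' := fun a => by
        have h1 : algebraMap A (AdicCompletion m Ap) a =
            algebraMap Ap (AdicCompletion m Ap) (algebraMap A Ap a) :=
          IsScalarTower.algebraMap_apply A Ap (AdicCompletion m Ap) a
        have h2 := congrArg (fun f => f (algebraMap A Ap a))
          (AdicCompletion.evalOneₐ_comp_algebraMap_eq_mk m)
        simp only [RingHom.comp_apply] at h2
        show (ResidueField.map φ) ((AdicCompletion.evalOneₐ m).toRingHom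
          (algebraMap A (AdicCompletion m Ap) a)) = _
        rw [h1, h2]
        show (ResidueField.map φ) (residue Ap (algebraMap A Ap a)) = _
        rw [ResidueField.map_residue]
        have h3 : φ (algebraMap A Ap a) = algebraMap A Bq a :=
          (IsScalarTower.algebraMap_apply A Ap Bq a).symm
        rw [h3]
        rfl }
  let Φ : Bq ⊗[A] AdicCompletion m Ap →ₐ[A] ResidueField Bq :=
    Algebra.TensorProduct.lift f g (fun _ _ => Commute.all _ _)
  have hΦ1 : ∀ b : Bq, Φ (b ⊗ₜ[A] 1) = residue Bq b := by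
    intro b
    simp only [Φ, Algebra.TensorProduct.lift_tmul, map_one, mul_one]
    rfl
  have hsurj : Function.Surjective Φ := by
    intro x
    obtain ⟨b, rfl⟩ := residue_surjective x
    exact ⟨b ⊗ₜ[A] 1, hΦ1 b⟩
  have hIle : I ≤ RingHom.ker Φ.toRingHom := by
    rw [hI, Ideal.map_le_iff_le_comap]
    intro b hb
    rw [Ideal.mem_comap, RingHom.mem_ker]
    show Φ (b ⊗ₜ[A] 1) = 0
    rw [hΦ1]
    exact (residue_eq_zero_iff b).mpr hb
  have hker : RingHom.ker Φ.toRingHom = I := by
    apply le_antisymm _ hIle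
    intro t ht
    obtain ⟨b, hb⟩ := step1 t
    have h2 := hIle hb
    rw [RingHom.mem_ker] at ht h2
    have h3 : Φ (b ⊗ₜ[A] 1) = 0 := by
      have h4 : Φ (t - b ⊗ₜ[A] 1) = 0 := h2
      have h5 : Φ t = 0 := ht
      rw [map_sub, h5, zero_sub, neg_eq_zero] at h4
      exact h4
    rw [hΦ1] at h3
    have hb' : b ∈ maximalIdeal Bq := (residue_eq_zero_iff b).mp h3
    have h6 : t = (t - b ⊗ₜ[A] 1) + b ⊗ₜ[A] 1 := by abel
    rw [h6]
    exact I.add_mem hb (Ideal.mem_map_of_mem _ hb')
  rw [← hker]
  exact RingHom.ker_isMaximal_of_surjective Φ.toRingHom hsurj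

end Groth.Agent.H97.KappaCompl
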