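import Mathlib

/-!
# N-1 descends from Laurent polynomials
-/

namespace Groth.Agent.H97.LaurentN1

open Polynomial

universe u

theorem finite_integralClosure (R : Type u) [CommRing R] [IsDomain R] [IsNoetherianRing R]
    (S : Type u) [CommRing S] [IsDomain S] [Algebra R[X] S] [IsLocalization.Away (X : R[X]) S]
    (h : Module.Finite S (integralClosure S (FractionRing S))) :
    Module.Finite R (integralClosure R (FractionRing R)) := by
  classical
  let ι : R →+* S := (algebraMap R[X] S).comp C
  have hι_inj : Function.Injective ι := by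
    refine (IsLocalization.injective S (M := Submonoid.powers (X : R[X])) ?_).comp C_injective
    exact powers_le_nonZeroDivisors_of_noZeroDivisors X_ne_zero
  let ev1 : S →+* R := IsLocalization.Away.lift (X : R[X]) (g := Polynomial.evalRingHom 1)
    (by simp)
  have hev1 : ∀ r, ev1 (ι r) = r := by
    intro r
    simp [ι, ev1, IsLocalization.Away.lift_eq]
  let φ : FractionRing R →+* FractionRing S :=
    IsFractionRing.lift (g := (algebraMap S (FractionRing S)).comp ι)
      ((IsFractionRing.injective S (FractionRing S)).comp hι_inj)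
  have hφ : ∀ r, φ (algebraMap R (FractionRing R) r) = algebraMap S (FractionRing S) (ι r) :=
    fun r => IsFractionRing.lift_algebraMap _ r
  have hint : ∀ x : integralClosure R (FractionRing R),
      φ x.1 ∈ integralClosure S (FractionRing S) := by
    intro x
    exact IsIntegral.map_of_comp_eq ι φ (by ext r; exact (hφ r).symm) x.2
  let g : integralClosure R (FractionRing R) → integralClosure S (FractionRing S) :=
    fun x => ⟨φ x.1, hint x⟩
  have hS : IsNoetherianRing S :=
    IsLocalization.isNoetherianRing (Submonoid.powers (X : R[X])) S inferInstance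
  have hN : IsNoetherian S (integralClosure S (FractionRing S)) :=
    isNoetherian_of_isNoetherianRing_of_finite S _
  have hfg : (Submodule.span S (Set.range g)).FG := IsNoetherian.noetherian _
  obtain ⟨s', hs', hspan⟩ := (Submodule.fg_span_iff_fg_span_finset_subset _).mp hfg
  rw [← Set.image_univ] at hs'
  obtain ⟨u, -, hu⟩ := Finset.subset_set_image_iff.mp hs'
  -- u generates
  refine ⟨⟨u, ?_⟩⟩
  rw [eq_top_iff]
  rintro x -
  have hx : g x ∈ Submodule.span S (g '' (u : Set _)) := by
    have : g '' (u : Set _) = (s' : Set _) := by rw [← hu]; simp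
    rw [this, ← hspan]
    exact Submodule.subset_span ⟨x, rfl⟩
  obtain ⟨c, hc⟩ := (Submodule.mem_span_image_finset_iff_exists_fun' S).mp hx
  -- equation in L
  have hcL : ∑ y ∈ u, algebraMap S (FractionRing S) (c y) * φ y.1 = φ x.1 := by
    have := congrArg Subtype.val hc
    simpa [g, Algebra.smul_def] using this
  -- denominators
  obtain ⟨d, hd⟩ := IsLocalization.exist_integer_multiples_of_finset (nonZeroDivisors R)
    (insert x.1 (u.image Subtype.val))
  obtain ⟨a0, ha0⟩ := hd x.1 (Finset.mem_insert_self _ _)
  have hau : ∀ y ∈ u, ∃ r : R, algebraMap R (FractionRing R) r = (d : R) • y.1 := fun y hy =>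
    hd y.1 (Finset.mem_insert_of_mem (Finset.mem_image_of_mem _ hy))
  choose! a ha using hau
  have hdφ : ∀ z : FractionRing R, φ ((d : R) • z) = algebraMap S (FractionRing S) (ι d) * φ z := by
    intro z
    rw [Algebra.smul_def, map_mul, hφ]
  have h1 : algebraMap S (FractionRing S) (ι a0) =
      algebraMap S (FractionRing S) (∑ y ∈ u, c y * ι (a y)) := by
    have hay : ∀ y ∈ u, algebraMap S (FractionRing S) (ι (a y)) =
        algebraMap S (FractionRing S) (ι d) * φ y.1 := fun y hy => by
      rw [← hφ (a y), ha y hy, hdφ]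
    rw [← hφ a0, ha0, hdφ, ← hcL, Finset.mul_sum, map_sum]
    refine Finset.sum_congr rfl fun y hy => ?_
    rw [map_mul, hay y hy]
    ring
  have h2 : ι a0 = ∑ y ∈ u, c y * ι (a y) := IsFractionRing.injective S (FractionRing S) h1
  have h3 : a0 = ∑ y ∈ u, ev1 (c y) * a y := by
    have := congrArg ev1 h2
    simpa [hev1] using this
  have h4 : (d : R) • x.1 = (d : R) • ∑ y ∈ u, ev1 (c y) • y.1 := by
    rw [← ha0, h3, map_sum, Finset.smul_sum]
    refine Finset.sum_congr rfl fun y hy => ?_
    rw [map_mul, ha y hy, Algebra.smul_def, Algebra.smul_def, Algebra.smul_def]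
    ring
  have hd0 : algebraMap R (FractionRing R) (d : R) ≠ 0 := by
    intro h0
    exact nonZeroDivisors.ne_zero d.2 ((IsFractionRing.injective R (FractionRing R)) (by
      rw [h0, map_zero]))
  have h5 : x.1 = ∑ y ∈ u, ev1 (c y) • y.1 := by
    rw [Algebra.smul_def, Algebra.smul_def] at h4
    exact mul_left_cancel₀ hd0 h4
  have h6 : x = ∑ y ∈ u, ev1 (c y) • y := by
    apply Subtype.ext
    rw [h5]
    simp
  rw [h6]
  exact Submodule.sum_mem _ fun y hy => Submodule.smul_mem _ _ (Submodule.subset_span hy)

end Groth.Agent.H97.LaurentN1
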