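import Mathlib
import Groth.Agent.H97.ComplIso

/-!
# Inverse limits of finite modules are finite over the completion
-/

namespace Groth.Agent.H97.LimFinite

open AdicCompletion

theorem exists_seq {α : Type*} (P : ℕ → α → Prop) (R : ℕ → α → α → Prop) (h0 : ∃ a, P 0 a)
    (hstep : ∀ n a, P n a → ∃ a', P (n + 1) a' ∧ R n a a') :
    ∃ s : ℕ → α, (∀ n, P n (s n)) ∧ ∀ n, R n (s n) (s (n + 1)) := by
  obtain ⟨a0, ha0⟩ := h0
  have : Nonempty α := ⟨a0⟩
  choose! g hg1 hg2 using hstep
  let s : ℕ → α := fun n => Nat.rec a0 (fun n a => g n a) n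
  have hs : ∀ n, P n (s n) := by
    intro n
    induction n with
    | zero => exact ha0
    | succ n ih => exact hg1 n (s n) ih
  exact ⟨s, hs, fun n => hg2 n (s n) (hs n)⟩

theorem nilp_span {A : Type*} [CommRing A] (I : Ideal A) {M : Type*} [AddCommGroup M] [Module A M]
    (N : Submodule A M) (k : ℕ) (hk : I ^ k • (⊤ : Submodule A M) = ⊥) (h : N ⊔ I • ⊤ = ⊤) :
    N = ⊤ := by
  have key : ∀ j, (⊤ : Submodule A M) ≤ N ⊔ I ^ j • ⊤ := by
    intro j
    induction j with
    | zero => simp
    | succ j ih =>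
      calc (⊤ : Submodule A M) ≤ N ⊔ I ^ j • ⊤ := ih
        _ = N ⊔ I ^ j • (N ⊔ I • ⊤) := by rw [h]
        _ = N ⊔ (I ^ j • N ⊔ I ^ j • (I • ⊤)) := by rw [Submodule.smul_sup]
        _ ≤ N ⊔ I ^ (j + 1) • ⊤ := by
            rw [← mul_smul, ← pow_succ]
            exact sup_le le_sup_left
              (sup_le (le_trans Submodule.smul_le_right le_sup_left) le_sup_right)
  have := key k
  rw [hk, sup_bot_eq] at this
  exact top_le_iff.mp this

universe u v

theorem finite_of_limit (A : Type u) [CommRing A] (I : Ideal A) (hI : I.FG)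
    (M : ℕ → Type v) [∀ n, AddCommGroup (M n)] [∀ n, Module A (M n)] [∀ n, Module.Finite A (M n)]
    (f : ∀ n, M (n + 1) →ₗ[A] M n) (hf : ∀ n, Function.Surjective (f n))
    (hker : ∀ n, LinearMap.ker (f n) = I ^ (n + 1) • (⊤ : Submodule A (M (n + 1))))
    (hkill : ∀ n, I ^ (n + 1) • (⊤ : Submodule A (M n)) = ⊥)
    (L : Type v) [AddCommGroup L] [Module A L] (π : ∀ n, L →ₗ[A] M n)
    (hπ : ∀ n, f n ∘ₗ π (n + 1) = π n)
    (hinj : ∀ x : L, (∀ n, π n x = 0) → x = 0)
    (hlift : ∀ y : (∀ n, M n), (∀ n, f n (y (n + 1)) = y n) → ∃ x : L, ∀ n, π n x = y n)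
    [Module (AdicCompletion I A) L] [IsScalarTower A (AdicCompletion I A) L] :
    Module.Finite (AdicCompletion I A) L := by
  obtain ⟨r, e, he⟩ := Module.Finite.exists_fin (R := A) (M := M 0)
  have hπ' : ∀ n (y : L), f n (π (n + 1) y) = π n y := fun n y =>
    congrArg (fun g => g y) (hπ n)
  -- lifts
  have hlift0 : ∀ m : M 0, ∃ x : L, π 0 x = m := by
    intro m
    let y : ∀ n, M n := fun n => Nat.rec m (fun n yn => Classical.choose (hf n yn)) n
    have hy : ∀ n, f n (y (n + 1)) = y n := fun n => Classical.choose_spec (hf n (y n))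
    obtain ⟨x, hx⟩ := hlift y hy
    exact ⟨x, hx 0⟩
  choose E hE using fun j => hlift0 (e j)
  -- spans
  have hspan : ∀ n, Submodule.span A (Set.range fun j => π n (E j)) = ⊤ := by
    intro n
    induction n with
    | zero => simp only [hE]; exact he
    | succ n ih =>
      apply nilp_span I _ (n + 2) (hkill (n + 1))
      rw [eq_top_iff]
      intro z _
      have hz : f n z ∈ Submodule.span A (Set.range fun j => π n (E j)) := by rw [ih]; trivial
      obtain ⟨c, hc⟩ := (Submodule.mem_span_range_iff_exists_fun A).mp hz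
      have hmem : z - ∑ j, c j • π (n + 1) (E j) ∈ LinearMap.ker (f n) := by
        rw [LinearMap.mem_ker, map_sub, map_sum]
        simp only [map_smul, hπ', hc, sub_self]
      rw [hker n] at hmem
      have h2 : I ^ (n + 1) • (⊤ : Submodule A (M (n + 1))) ≤ I • ⊤ :=
        Submodule.smul_mono_left (Ideal.pow_le_self (Nat.succ_ne_zero n))
      have h3 : z = ∑ j, c j • π (n + 1) (E j) + (z - ∑ j, c j • π (n + 1) (E j)) := by abel
      rw [h3]
      exact Submodule.add_mem_sup (Submodule.sum_mem _ fun j _ =>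
        Submodule.smul_mem _ _ (Submodule.subset_span ⟨j, rfl⟩)) (h2 hmem)
  -- action formula
  have hact : ∀ (n : ℕ) (c : AdicCompletion I A) (a : A),
      evalₐ I (n + 1) c = Ideal.Quotient.mk _ a → ∀ y : L, π n (c • y) = a • π n y := by
    intro n c a hca y
    have h0 : c - algebraMap A (AdicCompletion I A) a ∈
        RingHom.ker (evalₐ I (n + 1) : AdicCompletion I A →+* A ⧸ I ^ (n + 1)) := by
      rw [RingHom.mem_ker]
      show (evalₐ I (n + 1)) (c - algebraMap A (AdicCompletion I A) a) = 0
      rw [map_sub, hca, AlgHom.commutes]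
      exact sub_self _
    rw [ComplIso.ker_evalₐ I hI, ← Ideal.map_pow] at h0
    have key : ∀ w ∈ Ideal.map (algebraMap A (AdicCompletion I A)) (I ^ (n + 1)),
        ∀ y : L, π n (w • y) = 0 := by
      intro w hw
      refine Submodule.span_induction ?_ ?_ ?_ ?_ hw
      · rintro _ ⟨i, hi, rfl⟩ y
        rw [algebraMap_smul, map_smul]
        have : i • π n y ∈ I ^ (n + 1) • (⊤ : Submodule A (M n)) :=
          Submodule.smul_mem_smul hi trivial
        rw [hkill n] at this
        exact (Submodule.mem_bot A).mp this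
      · intro y; rw [zero_smul, _root_.map_zero]
      · intro w1 w2 _ _ h1 h2 y; rw [add_smul, map_add, h1, h2, add_zero]
      · intro w' w _ h y; rw [smul_eq_mul, mul_comm, mul_smul]; exact h _
    have h1 : c • y = a • y + (c - algebraMap A (AdicCompletion I A) a) • y := by
      rw [sub_smul, algebraMap_smul]; abel
    rw [h1, map_add, key _ h0, add_zero, map_smul]
  -- every x is a combination
  have hcomb : ∀ x : L, ∃ c : Fin r → AdicCompletion I A, x = ∑ j, c j • E j := by
    intro x
    obtain ⟨s, hs1, hs2⟩ := exists_seq (α := Fin r → A)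
      (P := fun n a => ∑ j, a j • π n (E j) = π n x)
      (R := fun n a a' => ∀ j, a' j - a j ∈ I ^ (n + 1))
      (by
        have hz : π 0 x ∈ Submodule.span A (Set.range fun j => π 0 (E j)) := by
          rw [hspan 0]; trivial
        exact (Submodule.mem_span_range_iff_exists_fun A).mp hz)
      (by
        intro n a ha
        have hmem : π (n + 1) x - ∑ j, a j • π (n + 1) (E j) ∈ LinearMap.ker (f n) := by
          rw [LinearMap.mem_ker, map_sub, map_sum]
          simp only [map_smul, hπ', ha, sub_self]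
        rw [hker n, ← hspan (n + 1), Submodule.mem_ideal_smul_span_iff_exists_sum] at hmem
        obtain ⟨b, hb, hbz⟩ := hmem
        refine ⟨fun j => a j + b j, ?_, fun j => by simpa using hb j⟩
        rw [Finsupp.sum_fintype b (fun i c => c • π (n + 1) (E i)) (fun i => zero_smul _ _)] at hbz
        simp only [add_smul, Finset.sum_add_distrib, hbz]
        abel)
    have hcauchy : ∀ j n, (fun n => s n j) n ≡ (fun n => s n j) (n + 1)
        [SMOD (I ^ n • ⊤ : Submodule A A)] := by
      intro j n
      rw [SModEq.sub_mem]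
      have h1 : s n j - s (n + 1) j = -(s (n + 1) j - s n j) := by ring
      rw [h1]
      have h2 : s (n + 1) j - s n j ∈ I ^ n := Ideal.pow_le_pow_right (Nat.le_succ n) (hs2 n j)
      simpa using (I ^ n).neg_mem h2
    refine ⟨fun j => AdicCompletion.mk I A (AdicCauchySequence.mk I A (fun n => s n j)
      (hcauchy j)), ?_⟩
    rw [← sub_eq_zero]
    apply hinj
    intro n
    rw [map_sub, map_sum, sub_eq_zero, ← hs1 n]
    refine (Finset.sum_congr rfl fun j _ => ?_).symm
    apply hact
    rw [evalₐ_mk, Ideal.Quotient.eq]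
    exact hs2 n j
  exact Module.Finite.of_surjective (Fintype.linearCombination (AdicCompletion I A) E) (fun x => by
    obtain ⟨c, hc⟩ := hcomb x
    exact ⟨c, by rw [Fintype.linearCombination_apply]; exact hc.symm⟩)

end Groth.Agent.H97.LimFinite
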