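import Mathlib

set_option autoImplicit false

namespace Groth.Agent.H97

open Matrix

variable {n : ℕ}

/-- general binomial remainder: `(1+N)^p = 1 + p•N + N^2 * Q` with `Q` commuting with `N` -/
theorem one_add_pow_expand (N : Matrix (Fin n) (Fin n) ℤ) (p : ℕ) :
    ∃ Q : Matrix (Fin n) (Fin n) ℤ, Commute N Q ∧ (1 + N) ^ p = 1 + (p : ℤ) • N + N ^ 2 * Q := by
  induction p with
  | zero => exact ⟨0, Commute.zero_right N, by simp⟩
  | succ p ih =>
    obtain ⟨Q, hc, hQ⟩ := ih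
    refine ⟨Q + (p : ℤ) • 1 + Q * N, ?_, ?_⟩
    · refine Commute.add_right (Commute.add_right hc ?_) (hc.mul_right (Commute.refl N))
      exact (Commute.one_right N).smul_right _
    · rw [pow_succ, hQ]
      have h1 : N * Q = Q * N := hc.eq
      simp only [mul_add, add_mul, mul_one, one_mul, smul_mul_assoc, mul_smul_comm, Nat.cast_succ,
        add_smul, one_smul, pow_two, mul_assoc, smul_add]
      rw [h1]
      abel

theorem smul_eq_zero_of_pow (a : ℕ) (Z : Matrix (Fin n) (Fin n) ℤ) (h : ((3 : ℤ) ^ a) • Z = 0) :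
    Z = 0 := by
  ext i j
  have := congrFun (congrFun h i) j
  simp only [Matrix.smul_apply, smul_eq_mul, Matrix.zero_apply] at this
  rcases mul_eq_zero.mp this with h1 | h1
  · exact absurd h1 (by positivity)
  · simpa using h1

/-- key step: if `1 + 3^a X` has prime order `p` then `3 ∣ X` -/
theorem step_dvd (p : ℕ) (hp : p.Prime) (a : ℕ) (ha : 1 ≤ a) (X : Matrix (Fin n) (Fin n) ℤ)
    (h : (1 + ((3 : ℤ) ^ a) • X) ^ p = 1) : ∃ X', X = (3 : ℤ) • X' := by
  by_cases hp3 : p = 3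
  · subst hp3
    have e : (1 + ((3 : ℤ) ^ a) • X) ^ 3 =
        1 + ((3 : ℤ) ^ a) • ((3 : ℤ) • X + ((3 : ℤ) ^ (a + 1)) • X ^ 2 + ((3 : ℤ) ^ (2 * a)) • X ^ 3) := by
      simp only [pow_succ, pow_zero, one_mul, mul_add, add_mul, mul_one, smul_mul_assoc,
        mul_smul_comm, smul_add, smul_smul]
      have h2 : (3 : ℤ) ^ (2 * a) = 3 ^ a * 3 ^ a := by rw [two_mul, pow_add]
      rw [h2]
      module
    rw [e] at h
    have h3 : ((3 : ℤ) ^ a) • ((3 : ℤ) • X + ((3 : ℤ) ^ (a + 1)) • X ^ 2 + ((3 : ℤ) ^ (2 * a)) • X ^ 3) = 0 := by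
      have := congrArg (fun M => M - 1) h
      simpa using this
    have h4 := smul_eq_zero_of_pow a _ h3
    obtain ⟨b, rfl⟩ : ∃ b, a = b + 1 := ⟨a - 1, by omega⟩
    have h5 : (3 : ℤ) • (X + ((3 : ℤ) ^ (b + 1)) • X ^ 2 + ((3 : ℤ) ^ (2 * b + 1)) • X ^ 3) = 0 := by
      rw [← h4]
      simp only [smul_add, smul_smul]
      have e1 : (3 : ℤ) * 3 ^ (b + 1) = 3 ^ (b + 1 + 1) := by ring
      have e2 : (3 : ℤ) * 3 ^ (2 * b + 1) = 3 ^ (2 * (b + 1)) := by ring
      rw [e1, e2]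
    have h6 := smul_eq_zero_of_pow 1 _ (by rw [pow_one]; exact h5)
    refine ⟨-(((3 : ℤ) ^ b) • X ^ 2 + ((3 : ℤ) ^ (2 * b)) • X ^ 3), ?_⟩
    have : X = -(((3 : ℤ) ^ (b + 1)) • X ^ 2 + ((3 : ℤ) ^ (2 * b + 1)) • X ^ 3) := by
      have := eq_neg_of_add_eq_zero_left (by rw [← add_assoc]; exact h6 :
        X + (((3 : ℤ) ^ (b + 1)) • X ^ 2 + ((3 : ℤ) ^ (2 * b + 1)) • X ^ 3) = 0)
      exact this
    conv_lhs => rw [this]
    simp only [smul_neg, smul_add, smul_smul]
    have e1 : (3 : ℤ) * 3 ^ b = 3 ^ (b + 1) := by ring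
    have e2 : (3 : ℤ) * 3 ^ (2 * b) = 3 ^ (2 * b + 1) := by ring
    rw [e1, e2]
  · obtain ⟨Q, _, hQ⟩ := one_add_pow_expand (((3 : ℤ) ^ a) • X) p
    rw [hQ] at h
    have h3 : ((3 : ℤ) ^ a) • ((p : ℤ) • X + ((3 : ℤ) ^ a) • (X ^ 2 * Q)) = 0 := by
      have := congrArg (fun M => M - 1) h
      simp only [add_sub_cancel_left, sub_self, add_assoc] at this
      rw [← this]
      simp only [pow_two, smul_mul_assoc, mul_smul_comm, smul_add, smul_smul, mul_assoc]
      congr 1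
      rw [mul_comm]
    have h4 := smul_eq_zero_of_pow a _ h3
    obtain ⟨b, rfl⟩ : ∃ b, a = b + 1 := ⟨a - 1, by omega⟩
    -- p X = - 3 * (3^b X^2 Q)
    have hcop : IsCoprime (p : ℤ) 3 := by
      have : Nat.Coprime p 3 := (Nat.coprime_primes hp Nat.prime_three).mpr hp3
      exact_mod_cast Nat.isCoprime_iff_coprime.mpr this
    obtain ⟨u, v, huv⟩ := hcop
    refine ⟨v • X - u • (((3 : ℤ) ^ b) • (X ^ 2 * Q)), ?_⟩
    have h5 : (p : ℤ) • X = -(((3 : ℤ) ^ (b + 1)) • (X ^ 2 * Q)) := eq_neg_of_add_eq_zero_left h4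
    have h6 : X = (u * p + v * 3 : ℤ) • X := by rw [huv, one_smul]
    conv_lhs => rw [h6]
    rw [add_smul, mul_smul, h5]
    simp only [smul_neg, smul_sub, smul_smul, pow_succ]
    have : ∀ (c d : ℤ) (Y Z : Matrix (Fin n) (Fin n) ℤ), c • Y = d • Z → -(c • Y) = -(d • Z) :=
      fun _ _ _ _ h => by rw [h]
    rw [sub_eq_add_neg, add_comm]
    congr 1
    · rw [mul_comm]
    · congr 1
      congr 1
      ring

/-- descent: a matrix `≡ 1 mod 3` of prime order is the identity -/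
theorem eq_one_of_prime_pow (p : ℕ) (hp : p.Prime) (X : Matrix (Fin n) (Fin n) ℤ)
    (h : (1 + (3 : ℤ) • X) ^ p = 1) : X = 0 := by
  -- for every a ≥ 1 there is X_a with 3 X = 3^a X_a
  have key : ∀ a : ℕ, 1 ≤ a → ∃ Y : Matrix (Fin n) (Fin n) ℤ, (3 : ℤ) • X = ((3 : ℤ) ^ a) • Y := by
    intro a ha
    induction a, ha using Nat.le_induction with
    | base => exact ⟨X, by simp⟩
    | succ a ha ih =>
      obtain ⟨Y, hY⟩ := ih
      rw [hY] at h
      obtain ⟨Y', rfl⟩ := step_dvd p hp a ha Y h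
      exact ⟨Y', by rw [hY, smul_smul, pow_succ]⟩
  ext i j
  by_contra hne
  simp only [Matrix.zero_apply] at hne
  obtain ⟨Y, hY⟩ := key ((3 * X i j).natAbs + 1) (by omega)
  have h1 := congrFun (congrFun hY i) j
  simp only [Matrix.smul_apply, smul_eq_mul] at h1
  have h2 : ((3 : ℤ) ^ ((3 * X i j).natAbs + 1)) ∣ 3 * X i j := ⟨Y i j, h1⟩
  have h3 : 3 * X i j ≠ 0 := by
    intro h0
    rcases mul_eq_zero.mp h0 with h | h
    · norm_num at h
    · exact hne h
  have h4 := Int.natAbs_le_of_dvd_ne_zero h2 h3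
  rw [Int.natAbs_pow] at h4
  have h5 : (3 * X i j).natAbs + 1 < (3 : ℤ).natAbs ^ ((3 * X i j).natAbs + 1) := by
    have : (3 : ℤ).natAbs = 3 := rfl
    rw [this]
    exact Nat.lt_pow_self (by norm_num)
  omega

/-- products of matrices `≡ 1 mod 3` -/
theorem pow_one_add_three (X : Matrix (Fin n) (Fin n) ℤ) (m : ℕ) :
    ∃ Y : Matrix (Fin n) (Fin n) ℤ, (1 + (3 : ℤ) • X) ^ m = 1 + (3 : ℤ) • Y := by
  induction m with
  | zero => exact ⟨0, by simp⟩
  | succ m ih =>
    obtain ⟨Y, hY⟩ := ih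
    refine ⟨Y + X + (3 : ℤ) • (Y * X), ?_⟩
    rw [pow_succ, hY]
    simp only [mul_add, add_mul, mul_one, one_mul, smul_mul_assoc, mul_smul_comm, smul_add,
      smul_smul]
    abel

/-- a matrix `≡ 1 mod 3` of finite order is the identity -/
theorem eq_one_of_pow (m : ℕ) (hm : 1 ≤ m) (X : Matrix (Fin n) (Fin n) ℤ)
    (h : (1 + (3 : ℤ) • X) ^ m = 1) : X = 0 := by
  induction m using Nat.strong_induction_on generalizing X with
  | _ m ih =>
    by_cases h1 : m = 1
    · subst h1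
      rw [pow_one] at h
      have : (3 : ℤ) • X = 0 := by
        have := congrArg (fun M => M - 1) h
        simpa using this
      exact smul_eq_zero_of_pow 1 X (by rw [pow_one]; exact this)
    · have hm2 : 2 ≤ m := by omega
      set p := m.minFac with hp
      have hpp : p.Prime := Nat.minFac_prime (by omega)
      obtain ⟨m', hm'⟩ : p ∣ m := Nat.minFac_dvd m
      have hm'pos : 1 ≤ m' := by
        rcases Nat.eq_zero_or_pos m' with h0 | h0
        · rw [h0, mul_zero] at hm'; omega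
        · exact h0
      have hlt : m' < m := by
        rw [hm']
        have := hpp.two_le
        nlinarith
      obtain ⟨Y, hY⟩ := pow_one_add_three X m'
      have h2 : (1 + (3 : ℤ) • Y) ^ p = 1 := by
        rw [← hY, ← pow_mul, mul_comm, ← hm', h]
      have hY0 := eq_one_of_prime_pow p hpp Y h2
      rw [hY0, smul_zero, add_zero] at hY
      exact ih m' hlt hm'pos X hY

end Groth.Agent.H97
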