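import Mathlib

set_option autoImplicit false
universe u

namespace Groth.Agent.H97.MonicForm

variable {k : Type u} [CommRing k] (d n : ℕ)

/-- the `τ`-homogenised translate of `g` (of `x`-degree `≤ N`) -/
noncomputable def phi (U : MvPolynomial (Fin d ⊕ Fin n) k) (v : Fin d → k) (N s : ℕ)
    (g : MvPolynomial (Fin d ⊕ Fin n) k) : Polynomial (MvPolynomial (Fin d ⊕ Fin n) k) :=
  ∑ m ∈ g.support,
    Polynomial.C (MvPolynomial.C (MvPolynomial.coeff m g)) *
      Polynomial.X ^ (N - ∑ i : Fin d, m (Sum.inl i)) *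
      (∏ i : Fin d, (Polynomial.X * Polynomial.C (MvPolynomial.X (Sum.inl i)) +
          Polynomial.C (U ^ s * MvPolynomial.C (v i))) ^ m (Sum.inl i)) *
      ∏ j : Fin n, Polynomial.C (MvPolynomial.X (Sum.inr j)) ^ m (Sum.inr j)

theorem monomial_identity (m : (Fin d ⊕ Fin n) →₀ ℕ) (a : k) (N : ℕ)
    (hm : ∑ i : Fin d, m (Sum.inl i) ≤ N) :
    (Polynomial.X ^ N * Polynomial.C (MvPolynomial.monomial m a) :
      Polynomial (MvPolynomial (Fin d ⊕ Fin n) k)) =
    Polynomial.C (MvPolynomial.C a) *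
      Polynomial.X ^ (N - ∑ i : Fin d, m (Sum.inl i)) *
      (∏ i : Fin d, (Polynomial.X * Polynomial.C (MvPolynomial.X (Sum.inl i))) ^ m (Sum.inl i)) *
      ∏ j : Fin n, Polynomial.C (MvPolynomial.X (Sum.inr j)) ^ m (Sum.inr j) := by
  rw [MvPolynomial.monomial_eq, Finsupp.prod_fintype _ _ (fun i => pow_zero _),
    Fintype.prod_sum_type]
  simp only [map_mul, map_prod, map_pow, mul_pow, Finset.prod_mul_distrib,
    Finset.prod_pow_eq_pow_sum]
  have h : (Polynomial.X : Polynomial (MvPolynomial (Fin d ⊕ Fin n) k)) ^ N =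
      Polynomial.X ^ (N - ∑ i : Fin d, m (Sum.inl i)) *
        Polynomial.X ^ (∑ i : Fin d, m (Sum.inl i)) := by
    rw [← pow_add, Nat.sub_add_cancel hm]
  rw [h]
  ring

theorem phi_congr_hom {S : Type*} [CommRing S] (U : MvPolynomial (Fin d ⊕ Fin n) k) (v : Fin d → k)
    (N s : ℕ) (g : MvPolynomial (Fin d ⊕ Fin n) k)
    (hdeg : ∀ m ∈ g.support, ∑ i : Fin d, m (Sum.inl i) ≤ N)
    (q : Polynomial (MvPolynomial (Fin d ⊕ Fin n) k) →+* S) (h0 : q (Polynomial.C U) ^ s = 0) :
    q (Polynomial.X ^ N * Polynomial.C g) = q (phi d n U v N s g) := by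
  have hg : (Polynomial.C g : Polynomial (MvPolynomial (Fin d ⊕ Fin n) k)) =
      ∑ m ∈ g.support, Polynomial.C (MvPolynomial.monomial m (MvPolynomial.coeff m g)) := by
    conv_lhs => rw [g.as_sum]
    rw [map_sum]
  rw [hg, Finset.mul_sum, phi, map_sum, map_sum]
  refine Finset.sum_congr rfl fun m hm => ?_
  rw [monomial_identity d n m _ N (hdeg m hm)]
  simp only [map_mul, map_prod, map_pow, map_add, h0, zero_mul, add_zero]

theorem phi_congr (U : MvPolynomial (Fin d ⊕ Fin n) k) (v : Fin d → k) (N s : ℕ)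
    (g : MvPolynomial (Fin d ⊕ Fin n) k)
    (hdeg : ∀ m ∈ g.support, ∑ i : Fin d, m (Sum.inl i) ≤ N) :
    ∃ r : Polynomial (MvPolynomial (Fin d ⊕ Fin n) k),
      Polynomial.X ^ N * Polynomial.C g = phi d n U v N s g + Polynomial.C U ^ s * r := by
  have hmem : Polynomial.X ^ N * Polynomial.C g - phi d n U v N s g ∈
      Ideal.span {Polynomial.C U ^ s} := by
    rw [← Ideal.Quotient.eq]
    refine phi_congr_hom (S := Polynomial (MvPolynomial (Fin d ⊕ Fin n) k) ⧸
        Ideal.span {Polynomial.C U ^ s}) d n U v N s g hdeg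
      (Ideal.Quotient.mk (Ideal.span {Polynomial.C U ^ s})) ?_
    have h : Ideal.Quotient.mk (Ideal.span {Polynomial.C U ^ s}) (Polynomial.C U ^ s) = 0 :=
      Ideal.Quotient.eq_zero_iff_mem.mpr (Ideal.mem_span_singleton_self _)
    rw [← h, map_pow]
  rw [Ideal.mem_span_singleton'] at hmem
  obtain ⟨r, hr⟩ := hmem
  refine ⟨r, ?_⟩
  rw [mul_comm _ r, hr]
  ring

theorem phi_zero (U : MvPolynomial (Fin d ⊕ Fin n) k) (v : Fin d → k) (s : ℕ)
    (g : MvPolynomial (Fin d ⊕ Fin n) k)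
    (hdeg : ∀ m ∈ g.support, ∑ i : Fin d, m (Sum.inl i) ≤ 0) :
    phi d n U v 0 s g = Polynomial.C g := by
  have hg : (Polynomial.C g : Polynomial (MvPolynomial (Fin d ⊕ Fin n) k)) =
      ∑ m ∈ g.support, Polynomial.C (MvPolynomial.monomial m (MvPolynomial.coeff m g)) := by
    conv_lhs => rw [g.as_sum]
    rw [map_sum]
  rw [hg, phi]
  refine Finset.sum_congr rfl fun m hm => ?_
  have hmi : ∀ i : Fin d, m (Sum.inl i) = 0 := by
    intro i
    have h1 := Finset.single_le_sum (f := fun j : Fin d => m (Sum.inl j))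
      (fun j _ => Nat.zero_le _) (Finset.mem_univ i)
    have h2 := hdeg m hm
    omega
  have h3 := monomial_identity d n m (MvPolynomial.coeff m g) 0 (hdeg m hm)
  rw [pow_zero, one_mul] at h3
  rw [h3]
  congr 2
  exact Finset.prod_congr rfl fun i _ => by rw [hmi i, pow_zero, pow_zero]

theorem main (U ζ : MvPolynomial (Fin d ⊕ Fin n) k) (v : Fin d → k) (N s : ℕ) (hs : N ≤ s)
    {Λ : Type*} [Fintype Λ] (f : Λ → MvPolynomial (Fin d ⊕ Fin n) k)
    (hdeg : ∀ l, ∀ m ∈ (f l).support, ∑ i : Fin d, m (Sum.inl i) ≤ N)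
    (c : ℕ → MvPolynomial (Fin d ⊕ Fin n) k)
    (hE : ζ ^ N + ∑ i ∈ Finset.Icc 1 N, c i * ζ ^ (N - i) * U ^ i ∈ Ideal.span (Set.range f)) :
    ∃ c' : ℕ → Polynomial (MvPolynomial (Fin d ⊕ Fin n) k),
      (Polynomial.X * Polynomial.C ζ) ^ N +
        ∑ i ∈ Finset.Icc 1 N, c' i * (Polynomial.X * Polynomial.C ζ) ^ (N - i) *
          Polynomial.C U ^ i ∈
      Ideal.span (Set.range fun l : Λ => phi d n U v N s (f l)) := by
  classical
  obtain ⟨a, ha⟩ := (Ideal.mem_span_range_iff_exists_fun).mp hE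
  have hmemφ : ∑ l, Polynomial.C (a l) * phi d n U v N s (f l) ∈
      Ideal.span (Set.range fun l : Λ => phi d n U v N s (f l)) :=
    Ideal.sum_mem _ fun l _ => Ideal.mul_mem_left _ _ (Ideal.subset_span ⟨l, rfl⟩)
  rcases Nat.eq_zero_or_pos N with hN | hN
  · subst hN
    refine ⟨fun _ => 0, ?_⟩
    have h1 : (Polynomial.X * Polynomial.C ζ) ^ 0 +
        ∑ i ∈ Finset.Icc 1 0, (0 : Polynomial (MvPolynomial (Fin d ⊕ Fin n) k)) *
          (Polynomial.X * Polynomial.C ζ) ^ (0 - i) * Polynomial.C U ^ i =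
        ∑ l, Polynomial.C (a l) * phi d n U v 0 s (f l) := by
      have h2 : ∀ l, phi d n U v 0 s (f l) = Polynomial.C (f l) :=
        fun l => phi_zero d n U v s (f l) (hdeg l)
      simp_rw [h2, ← map_mul]
      rw [← map_sum, ha]
      simp
    rw [h1]
    exact hmemφ
  · choose r hr using fun l => phi_congr d n U v N s (f l) (hdeg l)
    obtain ⟨R, hR⟩ : ∃ R, R = ∑ l, Polynomial.C (a l) * r l := ⟨_, rfl⟩
    have key : Polynomial.X ^ N * Polynomial.C
        (ζ ^ N + ∑ i ∈ Finset.Icc 1 N, c i * ζ ^ (N - i) * U ^ i) =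
        ∑ l, Polynomial.C (a l) * phi d n U v N s (f l) + Polynomial.C U ^ s * R := by
      rw [← ha, map_sum, Finset.mul_sum, hR, Finset.mul_sum, ← Finset.sum_add_distrib]
      refine Finset.sum_congr rfl fun l _ => ?_
      rw [map_mul, mul_left_comm, hr l]
      ring
    refine ⟨fun i => Polynomial.C (c i) * Polynomial.X ^ i -
        (if i = N then Polynomial.C U ^ (s - N) * R else 0), ?_⟩
    have h1 : ∑ i ∈ Finset.Icc 1 N, (Polynomial.C (c i) * Polynomial.X ^ i -
          (if i = N then Polynomial.C U ^ (s - N) * R else 0)) *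
          (Polynomial.X * Polynomial.C ζ) ^ (N - i) * Polynomial.C U ^ i =
        ∑ i ∈ Finset.Icc 1 N, Polynomial.C (c i) * Polynomial.X ^ i *
          (Polynomial.X * Polynomial.C ζ) ^ (N - i) * Polynomial.C U ^ i -
          Polynomial.C U ^ s * R := by
      simp_rw [sub_mul]
      rw [Finset.sum_sub_distrib]
      congr 1
      rw [Finset.sum_eq_single N]
      · rw [if_pos rfl, Nat.sub_self, pow_zero, mul_one, mul_right_comm, ← pow_add,
          Nat.sub_add_cancel hs]
      · intro i _ hi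
        rw [if_neg hi, zero_mul, zero_mul]
      · intro h
        exact absurd (Finset.mem_Icc.mpr ⟨hN, le_rfl⟩) h
    have h2 : Polynomial.X ^ N * Polynomial.C
        (ζ ^ N + ∑ i ∈ Finset.Icc 1 N, c i * ζ ^ (N - i) * U ^ i) =
        (Polynomial.X * Polynomial.C ζ) ^ N +
        ∑ i ∈ Finset.Icc 1 N, Polynomial.C (c i) * Polynomial.X ^ i *
          (Polynomial.X * Polynomial.C ζ) ^ (N - i) * Polynomial.C U ^ i := by
      rw [map_add, map_pow, mul_add, ← mul_pow, map_sum, Finset.mul_sum]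
      refine congrArg _ ?_
      refine Finset.sum_congr rfl fun i hi => ?_
      have hi' := (Finset.mem_Icc.mp hi).2
      rw [map_mul, map_mul, map_pow, map_pow, mul_pow]
      have h3 : (Polynomial.X : Polynomial (MvPolynomial (Fin d ⊕ Fin n) k)) ^ N =
          Polynomial.X ^ i * Polynomial.X ^ (N - i) := by
        rw [← pow_add, Nat.add_sub_cancel' hi']
      rw [h3]
      ring
    have hG : (Polynomial.X * Polynomial.C ζ) ^ N +
        ∑ i ∈ Finset.Icc 1 N, (Polynomial.C (c i) * Polynomial.X ^ i -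
          (if i = N then Polynomial.C U ^ (s - N) * R else 0)) *
          (Polynomial.X * Polynomial.C ζ) ^ (N - i) * Polynomial.C U ^ i =
        ∑ l, Polynomial.C (a l) * phi d n U v N s (f l) := by
      rw [h1, ← add_sub_assoc, ← h2, key]
      exact add_sub_cancel_right _ _
    rw [hG]
    exact hmemφ

end Groth.Agent.H97.MonicForm
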