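import Mathlib

/-!
Counting monomials with exponents in `[1, p-1]` and a prescribed number of small exponents,
via generating functions.
-/

set_option autoImplicit false

namespace Groth.Agent.H97.MonoCount

open Polynomial

/-- Generating function lemma: the coefficient of `X^t` in a product of sums of monomials counts
exponent vectors. -/
lemma coeff_prod_sum {n b : ℕ} (S : Fin n → Finset (Fin b)) (t : ℕ) :
    (∏ i, ∑ e ∈ S i, (X : ℕ[X]) ^ (e : ℕ)).coeff t =
      ((Fintype.piFinset S).filter (fun e => ∑ i, (e i : ℕ) = t)).card := by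
  classical
  rw [Finset.prod_univ_sum]
  simp_rw [Finset.prod_pow_eq_pow_sum]
  rw [Polynomial.finsetSum_coeff]
  simp_rw [Polynomial.coeff_X_pow]
  rw [Finset.card_filter]
  refine Finset.sum_congr rfl (fun e _ => ?_)
  simp [eq_comm]

lemma sum_fin_filter (b : ℕ) (P : ℕ → Prop) [DecidablePred P] :
    ∑ e ∈ Finset.univ.filter (fun e : Fin b => P (e : ℕ)), (X : ℕ[X]) ^ (e : ℕ) =
      ∑ e ∈ (Finset.range b).filter P, (X : ℕ[X]) ^ e := by
  rw [Finset.sum_filter, Finset.sum_filter,
    Fin.sum_univ_eq_sum_range (fun e => if P e then (X : ℕ[X]) ^ e else 0) b]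

lemma card_eq_coeff (a b t : ℕ) :
    Fintype.card {e : Fin a → Fin b // (∀ i, 1 ≤ (e i : ℕ)) ∧ ∑ i, (e i : ℕ) = t} =
      ((∑ e ∈ Finset.Ico 1 b, (X : ℕ[X]) ^ e) ^ a).coeff t := by
  classical
  rw [Fintype.card_subtype]
  have hS : ∑ e ∈ Finset.Ico 1 b, (X : ℕ[X]) ^ e =
      ∑ e ∈ (Finset.univ.filter (fun e : Fin b => 1 ≤ (e : ℕ))), (X : ℕ[X]) ^ (e : ℕ) := by
    rw [sum_fin_filter b (fun e => 1 ≤ e)]
    congr 1
    ext e
    simp only [Finset.mem_Ico, Finset.mem_filter, Finset.mem_range]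
    tauto
  have hpow : (∑ e ∈ Finset.Ico 1 b, (X : ℕ[X]) ^ e) ^ a =
      ∏ _i : Fin a, ∑ e ∈ (Finset.univ.filter (fun e : Fin b => 1 ≤ (e : ℕ))),
        (X : ℕ[X]) ^ (e : ℕ) := by
    rw [Finset.prod_const, Finset.card_univ, Fintype.card_fin, hS]
  rw [hpow, coeff_prod_sum]
  congr 1
  ext e
  simp [Fintype.mem_piFinset]


lemma coeff_zero_pow_eq_zero (q a : ℕ) (ha : 0 < a) :
    ((∑ e ∈ Finset.Ico 1 (q + 1), (X : ℕ[X]) ^ e) ^ a).coeff 0 = 0 := by
  rw [Polynomial.coeff_zero_eq_eval_zero, Polynomial.eval_pow, Polynomial.eval_finsetSum]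
  have : ∑ e ∈ Finset.Ico 1 (q + 1), Polynomial.eval 0 ((X : ℕ[X]) ^ e) = 0 := by
    refine Finset.sum_eq_zero (fun e he => ?_)
    rw [Finset.mem_Ico] at he
    simp only [Polynomial.eval_pow, Polynomial.eval_X]
    exact zero_pow (by omega)
  rw [this]
  exact zero_pow (by omega)

theorem main (p n s D : ℕ) (hp : Odd p) :
    Fintype.card {e : Fin n → Fin p // (∀ i, 1 ≤ (e i : ℕ)) ∧ ∑ i, (e i : ℕ) = s ∧
        (Finset.univ.filter fun i => 2 * (e i : ℕ) < p).card = D} =
      n.choose D * ∑ j ∈ Finset.range (s + 1),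
        Fintype.card {e : Fin D → Fin ((p + 1) / 2) // (∀ i, 1 ≤ (e i : ℕ)) ∧
          ∑ i, (e i : ℕ) = j} *
          Fintype.card {e : Fin (n - D) → Fin ((p + 1) / 2) // (∀ i, 1 ≤ (e i : ℕ)) ∧
            ∑ i, (e i : ℕ) = (s - j - (n - D) * ((p - 1) / 2))} := by
  classical
  obtain ⟨q, rfl⟩ := hp
  have hq1 : (2 * q + 1 + 1) / 2 = q + 1 := by omega
  have hq2 : (2 * q + 1 - 1) / 2 = q := by omega
  simp_rw [card_eq_coeff]
  rw [hq1, hq2]
  set A : ℕ[X] := ∑ e ∈ Finset.Ico 1 (q + 1), (X : ℕ[X]) ^ e with hA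
  rw [Fintype.card_subtype]
  set L := Finset.univ.filter (fun e : Fin n → Fin (2 * q + 1) =>
    (∀ i, 1 ≤ (e i : ℕ)) ∧ ∑ i, (e i : ℕ) = s ∧
      (Finset.univ.filter fun i => 2 * (e i : ℕ) < 2 * q + 1).card = D) with hL
  have hfib := Finset.card_eq_sum_card_fiberwise (s := L)
    (t := Finset.powersetCard D (Finset.univ : Finset (Fin n)))
    (f := fun e => Finset.univ.filter fun i => 2 * (e i : ℕ) < 2 * q + 1) (by
      intro e he
      rw [Finset.mem_coe, hL, Finset.mem_filter] at he
      rw [Finset.mem_coe, Finset.mem_powersetCard]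
      exact ⟨Finset.subset_univ _, he.2.2.2⟩)
  rw [hfib]
  set small := Finset.univ.filter
    (fun e : Fin (2 * q + 1) => 1 ≤ (e : ℕ) ∧ 2 * (e : ℕ) < 2 * q + 1) with hsmalldef
  set large := Finset.univ.filter
    (fun e : Fin (2 * q + 1) => 1 ≤ (e : ℕ) ∧ ¬ 2 * (e : ℕ) < 2 * q + 1) with hlargedef
  have hsmall : ∑ e ∈ small, (X : ℕ[X]) ^ (e : ℕ) = A := by
    rw [hsmalldef, sum_fin_filter (2 * q + 1) (fun e => 1 ≤ e ∧ 2 * e < 2 * q + 1), hA]
    congr 1
    ext e
    simp only [Finset.mem_Ico, Finset.mem_filter, Finset.mem_range]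
    omega
  have hlarge : ∑ e ∈ large, (X : ℕ[X]) ^ (e : ℕ) = X ^ q * A := by
    rw [hlargedef, sum_fin_filter (2 * q + 1) (fun e => 1 ≤ e ∧ ¬ 2 * e < 2 * q + 1), hA]
    have h1 : (Finset.range (2 * q + 1)).filter (fun e => 1 ≤ e ∧ ¬ 2 * e < 2 * q + 1) =
        Finset.Ico (1 + q) (q + 1 + q) := by
      ext e
      simp only [Finset.mem_Ico, Finset.mem_filter, Finset.mem_range]
      omega
    rw [h1, ← Finset.sum_Ico_add' (fun e => (X : ℕ[X]) ^ e) 1 (q + 1) q, Finset.mul_sum]
    refine Finset.sum_congr rfl (fun e _ => ?_)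
    rw [pow_add, mul_comm]
  have hT : ∀ T ∈ Finset.powersetCard D (Finset.univ : Finset (Fin n)),
      (L.filter (fun e => (Finset.univ.filter fun i => 2 * (e i : ℕ) < 2 * q + 1) = T)).card =
        (A ^ D * (X ^ q * A) ^ (n - D)).coeff s := by
    intro T hT
    rw [Finset.mem_powersetCard] at hT
    have h1 : L.filter (fun e => (Finset.univ.filter fun i => 2 * (e i : ℕ) < 2 * q + 1) = T) =
        (Fintype.piFinset (fun i => if i ∈ T then small else large)).filter
          (fun e => ∑ i, (e i : ℕ) = s) := by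
      ext e
      simp only [hL, Finset.mem_filter, Finset.mem_univ, true_and, Fintype.mem_piFinset]
      constructor
      · rintro ⟨⟨h1, h2, h3⟩, h4⟩
        refine ⟨fun i => ?_, h2⟩
        by_cases hi : i ∈ T
        · rw [if_pos hi, hsmalldef, Finset.mem_filter]
          refine ⟨Finset.mem_univ _, h1 i, ?_⟩
          rw [← h4, Finset.mem_filter] at hi
          exact hi.2
        · rw [if_neg hi, hlargedef, Finset.mem_filter]
          refine ⟨Finset.mem_univ _, h1 i, ?_⟩
          intro hlt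
          apply hi
          rw [← h4, Finset.mem_filter]
          exact ⟨Finset.mem_univ _, hlt⟩
      · rintro ⟨h1, h2⟩
        have hsm : ∀ i, 1 ≤ (e i : ℕ) := by
          intro i
          have := h1 i
          by_cases hi : i ∈ T
          · rw [if_pos hi, hsmalldef, Finset.mem_filter] at this
            exact this.2.1
          · rw [if_neg hi, hlargedef, Finset.mem_filter] at this
            exact this.2.1
        have hT' : (Finset.univ.filter fun i => 2 * (e i : ℕ) < 2 * q + 1) = T := by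
          ext i
          rw [Finset.mem_filter]
          have := h1 i
          by_cases hi : i ∈ T
          · rw [if_pos hi, hsmalldef, Finset.mem_filter] at this
            exact ⟨fun _ => hi, fun _ => ⟨Finset.mem_univ _, this.2.2⟩⟩
          · rw [if_neg hi, hlargedef, Finset.mem_filter] at this
            exact ⟨fun h => absurd h.2 this.2.2, fun h => absurd h hi⟩
        exact ⟨⟨hsm, h2, by rw [hT']; exact hT.2⟩, hT'⟩
    rw [h1, ← coeff_prod_sum]
    congr 1
    have h2 : ∀ i : Fin n, ∑ e ∈ (if i ∈ T then small else large), (X : ℕ[X]) ^ (e : ℕ) =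
        if i ∈ T then A else X ^ q * A := by
      intro i
      split_ifs
      · exact hsmall
      · exact hlarge
    simp_rw [h2]
    rw [Finset.prod_ite, Finset.prod_const, Finset.prod_const]
    congr 2
    · rw [Finset.filter_mem_eq_inter, Finset.univ_inter, hT.2]
    · have : (Finset.univ.filter fun i => i ∉ T) = Tᶜ := by
        ext i
        simp
      rw [this, Finset.card_compl, Fintype.card_fin, hT.2]
  rw [Finset.sum_congr rfl hT, Finset.sum_const, Finset.card_powersetCard, Finset.card_univ,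
    Fintype.card_fin, smul_eq_mul]
  congr 1
  rw [mul_pow, ← pow_mul, Polynomial.coeff_mul]
  have hanti := Finset.Nat.sum_antidiagonal_eq_sum_range_succ
      (fun j l => (A ^ D).coeff j * (X ^ (q * (n - D)) * A ^ (n - D)).coeff l) s
  refine Eq.trans hanti ?_
  refine Finset.sum_congr rfl (fun j _ => ?_)
  congr 1
  rw [Polynomial.coeff_X_pow_mul']
  split_ifs with h
  · rw [mul_comm q (n - D)]
  · have h0 : s - j - (n - D) * q = 0 := by
      rw [mul_comm] 
      omega
    rw [h0]
    have hpos : 0 < n - D := by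
      by_contra hcon
      have : n - D = 0 := by omega
      rw [this] at h
      simp at h
    exact (coeff_zero_pow_eq_zero q (n - D) hpos).symm

end Groth.Agent.H97.MonoCount
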