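import Mathlib

/-!
# Monomorphisms into disjoint unions of spectra of fields
-/

set_option autoImplicit false
universe u

open AlgebraicGeometry CategoryTheory Limits

namespace Groth.Agent.H97.MonoFields

/-- Every morphism into the spectrum of a semisimple commutative ring is flat. -/
theorem flat_of_isSemisimpleRing {R : CommRingCat.{u}} [IsSemisimpleRing R] {Z : Scheme.{u}}
    (h : Z ⟶ Spec R) : Flat h := by
  rw [HasRingHomProperty.iff_of_source_openCover (P := @Flat) Z.affineCover]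
  intro i
  have e : R ≃+* Γ(Spec R, ⊤) := (Scheme.ΓSpecIso R).symm.commRingCatIsoToRingEquiv
  haveI : IsSemisimpleRing Γ(Spec R, ⊤) := e.isSemisimpleRing
  letI := ((Z.affineCover.f i ≫ h).appTop).hom.toAlgebra
  change Module.Flat _ _
  haveI := Module.projective_of_isSemisimpleRing Γ(Spec R, ⊤) Γ(Z.affineCover.X i, ⊤)
  infer_instance

/-- Two flat quasi-compact monomorphisms with the same set-theoretic image are isomorphic. -/
theorem exists_iso_of_mono_of_range_eq {Y W W' : Scheme.{u}} (f : Y ⟶ W) (g : W' ⟶ W)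
    [Mono f] [Mono g] [Flat f] [Flat g] [QuasiCompact f] [QuasiCompact g]
    (h : Set.range f = Set.range g) : ∃ e : Y ≅ W', e.hom ≫ g = f := by
  haveI : Surjective (pullback.fst f g) := ⟨fun y => by
    obtain ⟨w', hw'⟩ : f y ∈ Set.range g := h ▸ ⟨y, rfl⟩
    obtain ⟨z, hz1, -⟩ := Scheme.Pullback.exists_preimage_pullback y w' hw'.symm
    exact ⟨z, hz1⟩⟩
  haveI : Surjective (pullback.snd f g) := ⟨fun w' => by
    obtain ⟨y, hy⟩ : g w' ∈ Set.range f := h ▸ ⟨w', rfl⟩
    obtain ⟨z, -, hz2⟩ := Scheme.Pullback.exists_preimage_pullback y w' hy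
    exact ⟨z, hz2⟩⟩
  haveI : IsIso (pullback.fst f g) := Flat.isIso_of_surjective_of_mono _
  haveI : IsIso (pullback.snd f g) := Flat.isIso_of_surjective_of_mono _
  exact ⟨(asIso (pullback.fst f g)).symm ≪≫ asIso (pullback.snd f g), by
    simp [pullback.condition]⟩

section FiniteProduct

variable {ι : Type u} [Finite ι] (k : ι → Type u) [∀ i, Field (k i)]

theorem exists_eval_eq (P : Spec (CommRingCat.of (Π i, k i))) :
    ∃ (i : ι) (x : Spec (CommRingCat.of (k i))),
      Spec.map (CommRingCat.ofHom (Pi.evalRingHom k i)) x = P := by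
  obtain ⟨⟨i, p⟩, hp⟩ := (PrimeSpectrum.sigmaToPi_bijective k).2 P
  exact ⟨i, p, hp⟩

instance : Finite (Spec (CommRingCat.of (Π i, k i))) :=
  Finite.of_surjective (PrimeSpectrum.sigmaToPi k) (PrimeSpectrum.sigmaToPi_bijective k).2

theorem result_finite {X : Scheme.{u}} (f : X ⟶ Spec (CommRingCat.of (Π i, k i))) [Mono f] :
    ∃ (I : Set ι) (e : X ≅ Spec (CommRingCat.of (Π i : I, k i))),
      e.hom ≫ Spec.map (CommRingCat.ofHom (Pi.ringHom fun i : I => Pi.evalRingHom k i.1)) = f := by
  let I : Set ι := {i | ∃ (y : X) (x : Spec (CommRingCat.of (k i))),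
    f y = Spec.map (CommRingCat.ofHom (Pi.evalRingHom k i)) x}
  refine ⟨I, ?_⟩
  haveI : IsSemisimpleRing (CommRingCat.of (Π i, k i)) :=
    (inferInstance : IsSemisimpleRing (Π i, k i))
  haveI : Flat f := flat_of_isSemisimpleRing f
  haveI : Flat (Spec.map (CommRingCat.ofHom (Pi.ringHom fun i : I => Pi.evalRingHom k i.1))) :=
    flat_of_isSemisimpleRing _
  haveI : Finite X := Finite.of_injective f f.injective
  haveI : QuasiCompact f := (HasAffineProperty.iff_of_isAffine (P := @QuasiCompact)).mpr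
    (inferInstance : CompactSpace X)
  haveI : IsClosedImmersion
      (Spec.map (CommRingCat.ofHom (Pi.ringHom fun i : I => Pi.evalRingHom k i.1))) :=
    IsClosedImmersion.spec_of_surjective _ (by
      intro b
      classical
      refine ⟨fun i => if h : i ∈ I then b ⟨i, h⟩ else 0, ?_⟩
      funext j
      change (if h : j.1 ∈ I then b ⟨j.1, h⟩ else 0) = b j
      rw [dif_pos j.2])
  have hcomp : ∀ (j : I) (x : Spec (CommRingCat.of (k j.1))),
      Spec.map (CommRingCat.ofHom (Pi.ringHom fun i : I => Pi.evalRingHom k i.1))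
        (Spec.map (CommRingCat.ofHom (Pi.evalRingHom (fun i : I => k i.1) j)) x) =
      Spec.map (CommRingCat.ofHom (Pi.evalRingHom k j.1)) x := by
    intro j x
    rw [← Scheme.Hom.comp_apply, ← Spec.map_comp]
    rfl
  refine exists_iso_of_mono_of_range_eq f _ ?_
  ext P
  constructor
  · rintro ⟨y, rfl⟩
    obtain ⟨i, x, hx⟩ := exists_eval_eq k (f y)
    have hi : i ∈ I := ⟨y, x, hx.symm⟩
    exact ⟨Spec.map (CommRingCat.ofHom (Pi.evalRingHom (fun i : I => k i.1) ⟨i, hi⟩)) x, by
      rw [hcomp ⟨i, hi⟩ x, hx]⟩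
  · rintro ⟨w', rfl⟩
    obtain ⟨j, x, rfl⟩ := exists_eval_eq (fun i : I => k i.1) w'
    obtain ⟨y₀, x₀, h₀⟩ := j.2
    refine ⟨y₀, ?_⟩
    rw [hcomp j x, h₀]
    congr 1
    exact Subsingleton.elim _ _

end FiniteProduct

section Coproduct

variable {ι : Type u} (k : ι → Type u) [∀ i, Field (k i)]

/-- A monomorphism into the spectrum of a field is flat and quasi-compact. -/
theorem flat_qc_of_mono_field (K : Type u) [Field K] {Z : Scheme.{u}}
    (h : Z ⟶ Spec (CommRingCat.of K)) [Mono h] : Flat h ∧ QuasiCompact h := by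
  haveI : IsSemisimpleRing (CommRingCat.of K) := (inferInstance : IsSemisimpleRing K)
  refine ⟨flat_of_isSemisimpleRing h, ?_⟩
  haveI : Finite Z := Finite.of_injective h h.injective
  exact (HasAffineProperty.iff_of_isAffine (P := @QuasiCompact)).mpr
    (inferInstance : CompactSpace Z)

theorem flat_qc_of_mono_sigma {Y : Scheme.{u}}
    (f : Y ⟶ ∐ fun i => Spec (CommRingCat.of (k i))) [Mono f] : Flat f ∧ QuasiCompact f := by
  constructor
  · rw [IsZariskiLocalAtTarget.iff_of_openCover (P := @Flat)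
      (sigmaOpenCover fun i => Spec (CommRingCat.of (k i)))]
    intro i
    exact (flat_qc_of_mono_field (k i) (Z := pullback f (Sigma.ι _ i))
      (pullback.snd f (Sigma.ι _ i))).1
  · rw [IsZariskiLocalAtTarget.iff_of_openCover (P := @QuasiCompact)
      (sigmaOpenCover fun i => Spec (CommRingCat.of (k i)))]
    intro i
    exact (flat_qc_of_mono_field (k i) (Z := pullback f (Sigma.ι _ i))
      (pullback.snd f (Sigma.ι _ i))).2

theorem result_sigma {Y : Scheme.{u}} (f : Y ⟶ ∐ fun i => Spec (CommRingCat.of (k i))) [Mono f] :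
    ∃ (J : Set ι) (e : Y ≅ ∐ fun j : J => Spec (CommRingCat.of (k j.1))),
      e.hom ≫ Sigma.desc (fun j : J => Sigma.ι (fun i => Spec (CommRingCat.of (k i))) j.1) = f := by
  let J : Set ι := {i | ∃ (y : Y) (x : Spec (CommRingCat.of (k i))),
    f y = Sigma.ι (fun i => Spec (CommRingCat.of (k i))) i x}
  refine ⟨J, ?_⟩
  haveI : IsOpenImmersion
      (Sigma.desc (fun j : J => Sigma.ι (fun i => Spec (CommRingCat.of (k i))) j.1)) := by
    apply isOpenImmersion_sigmaDesc
    intro a b hab
    have := disjoint_opensRange_sigmaι (fun i => Spec (CommRingCat.of (k i))) a.1 b.1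
      (fun h => hab (Subtype.ext h))
    simpa [Function.onFun_apply, disjoint_iff, TopologicalSpace.Opens.ext_iff,
      Set.disjoint_iff_inter_eq_empty] using this
  obtain ⟨hf1, hf2⟩ := flat_qc_of_mono_sigma k f
  obtain ⟨hg1, hg2⟩ := flat_qc_of_mono_sigma k
    (Sigma.desc (fun j : J => Sigma.ι (fun i => Spec (CommRingCat.of (k i))) j.1))
  refine exists_iso_of_mono_of_range_eq f _ ?_
  ext P
  constructor
  · rintro ⟨y, rfl⟩
    obtain ⟨i, x, hx⟩ := (sigmaOpenCover fun i => Spec (CommRingCat.of (k i))).exists_eq (f y)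
    have hi : i ∈ J := ⟨y, x, hx.symm⟩
    refine ⟨Sigma.ι (fun j : J => Spec (CommRingCat.of (k j.1))) ⟨i, hi⟩ x, ?_⟩
    rw [← Scheme.Hom.comp_apply, Sigma.ι_desc]
    exact hx
  · rintro ⟨w', rfl⟩
    obtain ⟨j, x, rfl⟩ := (sigmaOpenCover fun j : J => Spec (CommRingCat.of (k j.1))).exists_eq w'
    obtain ⟨y₀, x₀, h₀⟩ := j.2
    refine ⟨y₀, ?_⟩
    rw [h₀]
    change _ = (Sigma.ι (fun j : J => Spec (CommRingCat.of (k j.1))) j ≫ Sigma.desc _) x
    rw [Sigma.ι_desc]
    congr 1
    exact Subsingleton.elim _ _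

end Coproduct

end Groth.Agent.H97.MonoFields
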