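import Mathlib
import Groth.Prelude.Def_CohB1
import Groth.Agent.H97.ProjProper

/-!
# Connected components of finite flat covers of `P^1_S` surject
-/

set_option autoImplicit false
universe u
open CategoryTheory CategoryTheory.Limits AlgebraicGeometry TopologicalSpace Opposite

namespace Groth.Agent.H97.P1FinConn

/-- General topological lemma: if every nonempty clopen subset of `X` meets the finite set `F`,
then every point has a preconnected clopen neighbourhood. -/
theorem exists_isClopen_isPreconnected {X : Type*} [TopologicalSpace X] (F : Set X)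
    (hF : F.Finite) (hmeet : ∀ W : Set X, IsClopen W → W.Nonempty → (W ∩ F).Nonempty) (x : X) :
    ∃ W : Set X, IsClopen W ∧ x ∈ W ∧ IsPreconnected W := by
  let 𝒲 : Set (Set X) := {W | IsClopen W ∧ x ∈ W}
  have hne : 𝒲.Nonempty := ⟨Set.univ, isClopen_univ, trivial⟩
  let μ : Set X → ℕ := fun W => (W ∩ F).ncard
  let W := Function.argminOn μ 𝒲 hne
  have hW : W ∈ 𝒲 := Function.argminOn_mem μ 𝒲 hne
  have hmin : ∀ W' ∈ 𝒲, μ W ≤ μ W' := fun W' hW' => Function.argminOn_le μ 𝒲 hW'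
  refine ⟨W, hW.1, hW.2, ?_⟩
  rw [isPreconnected_closed_iff]
  intro t t' ht ht' hcov hn hn'
  by_contra hempty
  rw [Set.not_nonempty_iff_eq_empty] at hempty
  -- the two pieces
  have hW1cl : IsClosed (W ∩ t) := hW.1.1.inter ht
  have hW2cl : IsClosed (W ∩ t') := hW.1.1.inter ht'
  have hW1eq : W ∩ t = W ∩ (t')ᶜ := by
    ext y
    constructor
    · rintro ⟨hy, hyt⟩
      refine ⟨hy, fun hyt' => ?_⟩
      have : y ∈ W ∩ (t ∩ t') := ⟨hy, hyt, hyt'⟩
      rw [hempty] at this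
      exact this
    · rintro ⟨hy, hyt'⟩
      exact ⟨hy, (hcov hy).resolve_right hyt'⟩
  have hW2eq : W ∩ t' = W ∩ tᶜ := by
    ext y
    constructor
    · rintro ⟨hy, hyt'⟩
      refine ⟨hy, fun hyt => ?_⟩
      have : y ∈ W ∩ (t ∩ t') := ⟨hy, hyt, hyt'⟩
      rw [hempty] at this
      exact this
    · rintro ⟨hy, hyt⟩
      exact ⟨hy, (hcov hy).resolve_left hyt⟩
  have hW1 : IsClopen (W ∩ t) := ⟨hW1cl, by rw [hW1eq]; exact hW.1.2.inter ht'.isOpen_compl⟩
  have hW2 : IsClopen (W ∩ t') := ⟨hW2cl, by rw [hW2eq]; exact hW.1.2.inter ht.isOpen_compl⟩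
  have hfin : (W ∩ F).Finite := hF.subset Set.inter_subset_right
  -- strict decrease
  have hlt : ∀ A B : Set X, A ⊆ W → B ⊆ W → Disjoint A B → (B ∩ F).Nonempty →
      (A ∩ F).ncard < (W ∩ F).ncard := by
    intro A B hA hB hAB hBF
    apply Set.ncard_lt_ncard _ hfin
    refine ⟨Set.inter_subset_inter_left _ hA, ?_⟩
    obtain ⟨b, hbB, hbF⟩ := hBF
    intro hsub
    have : b ∈ A ∩ F := hsub ⟨hB hbB, hbF⟩
    exact Set.disjoint_left.mp hAB this.1 hbB
  have hdisj : Disjoint (W ∩ t) (W ∩ t') := by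
    rw [Set.disjoint_left]
    rintro y ⟨hy, hyt⟩ ⟨-, hyt'⟩
    have : y ∈ W ∩ (t ∩ t') := ⟨hy, hyt, hyt'⟩
    rw [hempty] at this
    exact this
  rcases hcov hW.2 with hxt | hxt'
  · have h1 : W ∩ t ∈ 𝒲 := ⟨hW1, hW.2, hxt⟩
    have := hlt (W ∩ t) (W ∩ t') Set.inter_subset_left Set.inter_subset_left hdisj
      (hmeet _ hW2 hn')
    exact absurd (hmin _ h1) (not_le.mpr this)
  · have h1 : W ∩ t' ∈ 𝒲 := ⟨hW2, hW.2, hxt'⟩
    have := hlt (W ∩ t') (W ∩ t) Set.inter_subset_left Set.inter_subset_left hdisj.symm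
      (hmeet _ hW1 hn)
    exact absurd (hmin _ h1) (not_le.mpr this)

theorem main (S X : Scheme.{u}) [PreconnectedSpace S]
    (f : X ⟶ CohB1.ProjSpaceOver 1 S) [IsFinite f] [Flat f] [LocallyOfFinitePresentation f]
    (x : X) (p : CohB1.ProjSpaceOver 1 S) : ∃ y ∈ connectedComponent x, f y = p := by
  have himg : ∀ W : Set X, IsClopen W → W.Nonempty → f '' W = Set.univ := by
    intro W hW hne
    have hcl : IsClopen (f '' W) := ⟨f.isClosedMap _ hW.1, f.isOpenMap _ hW.2⟩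
    rcases isClopen_iff.mp hcl with h | h
    · exfalso
      obtain ⟨w, hw⟩ := hne
      have : f w ∈ f '' W := ⟨w, hw, rfl⟩
      rw [h] at this
      exact this
    · exact h
  have hfin : (f ⁻¹' {p}).Finite := Scheme.Hom.finite_preimage_singleton f p
  have hmeet : ∀ W : Set X, IsClopen W → W.Nonempty → (W ∩ f ⁻¹' {p}).Nonempty := by
    intro W hW hne
    have : p ∈ f '' W := by rw [himg W hW hne]; trivial
    obtain ⟨w, hw, hwp⟩ := this
    exact ⟨w, hw, hwp⟩
  obtain ⟨W, hWcl, hxW, hWconn⟩ := exists_isClopen_isPreconnected _ hfin hmeet x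
  obtain ⟨y, hyW, hyp⟩ := hmeet W hWcl ⟨x, hxW⟩
  exact ⟨y, hWconn.subset_connectedComponent hxW hyW, hyp⟩

end Groth.Agent.H97.P1FinConn
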