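import Mathlib
import Groth.Agent.H97.BoxSurj
import Groth.Agent.H68.FibPowBC

/-!
# A finite surjective `S`-morphism `(P^1_S)^n ⟶ P^n_S` for every scheme `S`

Base change of the morphism over the integers constructed in `BoxSurj`.
-/

set_option autoImplicit false
universe u

open AlgebraicGeometry CategoryTheory CategoryTheory.Limits

namespace Groth.Agent.H97.PMFinal

open Groth.Agent.H97.BoxMap

theorem main (S : Scheme.{u}) (n : ℕ) :
    ∃ φ : widePullback S (fun _ : Fin n => CohB1.ProjSpaceOver 1 S)
        (fun _ => CohB1.ProjSpaceOver.toBase 1 S) ⟶ CohB1.ProjSpaceOver n S,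
      IsFinite φ ∧ Surjective φ ∧
        φ ≫ CohB1.ProjSpaceOver.toBase n S =
          WidePullback.base (fun _ => CohB1.ProjSpaceOver.toBase 1 S) := by
  obtain ⟨r, hr, hfin, hsurj⟩ :=
    Groth.Agent.H97.BoxSurj.exists_finite_surjective_map (ULift.{u} ℤ) n ULift.ringEquiv
  let f := CohB1.ProjSpace.toSpec 1 (ULift.{u} ℤ)
  let b := specULiftZIsTerminal.from S
  let c : SymProd.fibPow (pullback.snd f b) n ⟶ SymProd.fibPow f n :=
    WidePullback.lift (WidePullback.base (fun _ : Fin n => pullback.snd f b) ≫ b)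
      (fun i => WidePullback.π (fun _ : Fin n => pullback.snd f b) i ≫ pullback.fst f b)
      (fun i => by
        rw [Category.assoc, pullback.condition, ← Category.assoc, WidePullback.π_arrow])
  have hcπ : ∀ i : Fin n, c ≫ WidePullback.π (fun _ => f) i =
      WidePullback.π (fun _ => pullback.snd f b) i ≫ pullback.fst f b :=
    fun i => WidePullback.lift_π _ _ _ _ i
  have hcb : c ≫ WidePullback.base (fun _ => f) =
      WidePullback.base (fun _ => pullback.snd f b) ≫ b := WidePullback.lift_base _ _ _ _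
  have hbig := Groth.Agent.H68.FPB.isPullback_fibPow f b n c hcπ hcb
  have hw : (c ≫ r) ≫ CohB1.ProjSpace.toSpec n (ULift.{u} ℤ) =
      WidePullback.base (fun _ : Fin n => pullback.snd f b) ≫ b := by
    rw [Category.assoc, hr]
    exact hcb
  let φ : SymProd.fibPow (pullback.snd f b) n ⟶
      pullback (CohB1.ProjSpace.toSpec n (ULift.{u} ℤ)) b :=
    pullback.lift (c ≫ r) (WidePullback.base (fun _ : Fin n => pullback.snd f b)) hw
  have hφsnd : φ ≫ pullback.snd _ _ = WidePullback.base (fun _ : Fin n => pullback.snd f b) :=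
    pullback.lift_snd _ _ _
  have hφfst : φ ≫ pullback.fst _ _ = c ≫ r := pullback.lift_fst _ _ _
  have hsq : IsPullback c φ r (pullback.fst (CohB1.ProjSpace.toSpec n (ULift.{u} ℤ)) b) := by
    refine IsPullback.of_bot ?_ hφfst.symm
      (IsPullback.of_hasPullback (CohB1.ProjSpace.toSpec n (ULift.{u} ℤ)) b)
    rw [hφsnd, hr]
    exact hbig
  refine ⟨φ, ?_, ?_, hφsnd⟩
  · exact MorphismProperty.of_isPullback (P := @IsFinite) hsq hfin
  · exact MorphismProperty.of_isPullback (P := @Surjective) hsq hsurj

end Groth.Agent.H97.PMFinal
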