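import Mathlib

/-!
# A contractible "path" complex surjecting onto a cochain complex

For an `ℕ`-indexed cochain complex `K` in an abelian category, `P K` has terms
`K^n ⊞ K^{n-1}` and is contractible; `π : P K ⟶ K` is the first projection.
-/

open CategoryTheory Limits ZeroObject

namespace Groth.Agent.H97.PathCx

universe v u

variable {C : Type u} [Category.{v} C] [Abelian C] (K : CochainComplex C ℕ)

/-- shifted objects -/
noncomputable def prevX : ℕ → C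
  | 0 => (0 : C)
  | n + 1 => K.X n

noncomputable def prevD : ∀ n, prevX K n ⟶ prevX K (n + 1)
  | 0 => 0
  | n + 1 => K.d n (n + 1)

lemma prevD_comp (n : ℕ) : prevD K n ≫ prevD K (n + 1) = 0 := by
  cases n with
  | zero => exact zero_comp
  | succ n => exact K.d_comp_d n (n + 1) (n + 2)

/-- identity `K.X n ⟶ prevX K (n+1)` -/
noncomputable def eps (n : ℕ) : K.X n ⟶ prevX K (n + 1) := 𝟙 _

noncomputable def epsInv (n : ℕ) : prevX K (n + 1) ⟶ K.X n := 𝟙 _

@[reassoc (attr := simp)] lemma eps_epsInv (n : ℕ) : eps K n ≫ epsInv K n = 𝟙 _ :=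
  Category.id_comp (𝟙 (K.X n))
@[reassoc (attr := simp)] lemma epsInv_eps (n : ℕ) : epsInv K n ≫ eps K n = 𝟙 _ :=
  Category.id_comp (𝟙 (K.X n))

lemma eps_prevD (n : ℕ) : eps K n ≫ prevD K (n + 1) = K.d n (n + 1) ≫ eps K (n + 1) :=
  (Category.id_comp (K.d n (n + 1))).trans (Category.comp_id (K.d n (n + 1))).symm

@[reassoc] lemma prevD_epsInv (n : ℕ) :
    prevD K (n + 1) ≫ epsInv K (n + 1) = epsInv K n ≫ K.d n (n + 1) :=
  (Category.comp_id (K.d n (n + 1))).trans (Category.id_comp (K.d n (n + 1))).symm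

noncomputable def dP (n : ℕ) : K.X n ⊞ prevX K n ⟶ K.X (n + 1) ⊞ prevX K (n + 1) :=
  biprod.desc (biprod.lift (K.d n (n + 1)) (eps K n)) (biprod.lift 0 (-(prevD K n)))

lemma dP_comp (n : ℕ) : dP K n ≫ dP K (n + 1) = 0 := by
  apply biprod.hom_ext' <;> apply biprod.hom_ext <;>
    simp [dP, eps_prevD, prevD_comp]

lemma dP_fst (n : ℕ) : dP K n ≫ biprod.fst = biprod.fst ≫ K.d n (n + 1) := by
  apply biprod.hom_ext' <;> simp [dP]

lemma key_zero : dP K 0 ≫ ((biprod.snd : K.X 1 ⊞ prevX K 1 ⟶ prevX K 1) ≫ epsInv K 0 ≫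
    (biprod.inl : K.X 0 ⟶ K.X 0 ⊞ prevX K 0)) = 𝟙 (K.X 0 ⊞ prevX K 0) := by
  apply biprod.hom_ext'
  · simp [dP]
  · exact (isZero_zero C).eq_of_src _ _

lemma key_succ (n : ℕ) : dP K (n + 1) ≫
      ((biprod.snd : K.X (n + 2) ⊞ prevX K (n + 2) ⟶ prevX K (n + 2)) ≫ epsInv K (n + 1) ≫
        (biprod.inl : K.X (n + 1) ⟶ K.X (n + 1) ⊞ prevX K (n + 1))) +
    ((biprod.snd : K.X (n + 1) ⊞ prevX K (n + 1) ⟶ prevX K (n + 1)) ≫ epsInv K n ≫
        (biprod.inl : K.X n ⟶ K.X n ⊞ prevX K n)) ≫ dP K n =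
    𝟙 (K.X (n + 1) ⊞ prevX K (n + 1)) := by
  apply biprod.hom_ext'
  · simp [dP]
  · apply biprod.hom_ext
    · simp [dP, prevD_epsInv_assoc]
    · simp [dP]

noncomputable def P : CochainComplex C ℕ :=
  CochainComplex.of (fun n => K.X n ⊞ prevX K n) (dP K) (dP_comp K)

@[simp] lemma P_d (n : ℕ) : (P K).d n (n + 1) = dP K n :=
  CochainComplex.of_d (fun n => K.X n ⊞ prevX K n) (dP K) n

noncomputable def π : P K ⟶ K where
  f n := (biprod.fst : K.X n ⊞ prevX K n ⟶ K.X n)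
  comm' i j hij := by
    obtain rfl : i + 1 = j := hij
    rw [P_d]
    exact (dP_fst K i).symm

/-- the contracting homotopy data -/
noncomputable def hP (i j : ℕ) (hij : (ComplexShape.up ℕ).Rel j i) : (P K).X i ⟶ (P K).X j := by
  obtain rfl : j + 1 = i := hij
  exact (biprod.snd : K.X (j + 1) ⊞ prevX K (j + 1) ⟶ prevX K (j + 1)) ≫ epsInv K j ≫
    (biprod.inl : K.X j ⟶ K.X j ⊞ prevX K j)

lemma nullHomotopicMap_eq : Homotopy.nullHomotopicMap' (hP K) = 𝟙 (P K) := by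
  ext n
  cases n with
  | zero =>
    have h1 : hP K 1 0 rfl = (biprod.snd : K.X 1 ⊞ prevX K 1 ⟶ prevX K 1) ≫ epsInv K 0 ≫
        (biprod.inl : K.X 0 ⟶ K.X 0 ⊞ prevX K 0) := rfl
    rw [Homotopy.nullHomotopicMap'_f_of_not_rel_right (show (ComplexShape.up ℕ).Rel 0 1 from rfl)
      (fun l hl => by simp at hl), h1, P_d]
    exact key_zero K
  | succ n =>
    have h1 : hP K (n + 1) n rfl = (biprod.snd : K.X (n + 1) ⊞ prevX K (n + 1) ⟶ prevX K (n + 1)) ≫
        epsInv K n ≫ (biprod.inl : K.X n ⟶ K.X n ⊞ prevX K n) := rfl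
    have h2 : hP K (n + 2) (n + 1) rfl =
        (biprod.snd : K.X (n + 2) ⊞ prevX K (n + 2) ⟶ prevX K (n + 2)) ≫
        epsInv K (n + 1) ≫ (biprod.inl : K.X (n + 1) ⟶ K.X (n + 1) ⊞ prevX K (n + 1)) := rfl
    rw [Homotopy.nullHomotopicMap'_f (show (ComplexShape.up ℕ).Rel n (n + 1) from rfl)
      (show (ComplexShape.up ℕ).Rel (n + 1) (n + 2) from rfl), h1, h2, P_d, P_d]
    exact key_succ K n

/-- `P K` is contractible. -/
noncomputable def contract : Homotopy (𝟙 (P K)) 0 :=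
  (Homotopy.ofEq (nullHomotopicMap_eq K).symm).trans (Homotopy.nullHomotopy' (hP K))

end Groth.Agent.H97.PathCx
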