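import Mathlib
import Groth.Prelude.Def_W4c3degenlocivbPfaff

set_option autoImplicit false
universe u

namespace Groth.Agent.H97.Pfaff
open W4c3degenlocivb

theorem pf_zero {R : Type*} [CommRing R] (T : Matrix (Fin 0) (Fin 0) R) : pf 0 T = 1 := by
  rw [pf]

theorem pf_one {R : Type*} [CommRing R] (T : Matrix (Fin 1) (Fin 1) R) : pf 1 T = 0 := by
  rw [pf]

theorem pf_succ_succ {R : Type*} [CommRing R] (n : ℕ) (T : Matrix (Fin (n + 2)) (Fin (n + 2)) R) :
    pf (n + 2) T = ∑ j : Fin (n + 1),
      (-1) ^ ((j : ℕ) + 1) * T (Fin.last (n + 1)) (Fin.castSucc j) *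
        pf n (T.submatrix (Fin.castSucc ∘ j.succAbove) (Fin.castSucc ∘ j.succAbove)) := by
  rw [pf]

theorem pf_map {A B : Type*} [CommRing A] [CommRing B] (f : A →+* B) :
    ∀ (n : ℕ) (T : Matrix (Fin n) (Fin n) A), pf n (T.map f) = f (pf n T) := by
  intro n
  induction n using Nat.twoStepInduction with
  | zero => intro T; rw [pf_zero, pf_zero, map_one]
  | one => intro T; rw [pf_one, pf_one, map_zero]
  | more n ih _ =>
    intro T
    rw [pf_succ_succ, pf_succ_succ, map_sum]
    apply Finset.sum_congr rfl
    intro j _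
    rw [map_mul, map_mul, map_pow, map_neg, map_one, ← ih]
    rfl

open MvPolynomial in
theorem pf_isHomogeneous {σ k : Type*} [CommRing k] :
    ∀ (n : ℕ) (T : Matrix (Fin n) (Fin n) (MvPolynomial σ k)),
      (∀ a b, (T a b).IsHomogeneous 1) → (pf n T).IsHomogeneous (n / 2) := by
  intro n
  induction n using Nat.twoStepInduction with
  | zero => intro T _; rw [pf_zero]; exact isHomogeneous_one σ k
  | one => intro T _; rw [pf_one]; exact isHomogeneous_zero σ k _
  | more n ih _ =>
    intro T hT
    rw [pf_succ_succ]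
    apply IsHomogeneous.sum
    intro j _
    have h1 : (n + 2) / 2 = 0 + 1 + n / 2 := by omega
    rw [h1]
    apply IsHomogeneous.mul
    · apply IsHomogeneous.mul
      · have : ((-1 : MvPolynomial σ k) ^ ((j : ℕ) + 1)) = C ((-1) ^ ((j : ℕ) + 1)) := by
          rw [map_pow, map_neg, map_one]
        rw [this]
        exact isHomogeneous_C σ _
      · exact hT _ _
    · apply ih
      intro a b
      exact hT _ _

/-- Pfaffian of a tridiagonal alternating matrix. -/
theorem pf_tridiag {A : Type*} [CommRing A] :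
    ∀ (m : ℕ) (T : Matrix (Fin (2 * m)) (Fin (2 * m)) A),
      (∀ a b : Fin (2 * m), (a : ℕ) + 1 ≠ b → (b : ℕ) + 1 ≠ a → T a b = 0) →
      (∀ a b, T b a = - T a b) →
      pf (2 * m) T = ∏ t : Fin m, T ⟨2 * t, by omega⟩ ⟨2 * t + 1, by omega⟩ := by
  intro m
  induction m with
  | zero => intro T _ _; rw [Finset.univ_eq_empty, Finset.prod_empty]; exact pf_zero T
  | succ m ih =>
    intro T htri halt
    change pf (2 * m + 2) T = _
    rw [pf_succ_succ]
    rw [Finset.sum_eq_single (Fin.last (2 * m))]
    · rw [Fin.succAbove_last, Fin.prod_univ_castSucc]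
      have ih' := ih (T.submatrix (Fin.castSucc ∘ Fin.castSucc) (Fin.castSucc ∘ Fin.castSucc))
        (fun a b h1 h2 => htri _ _ (by simpa using h1) (by simpa using h2))
        (fun a b => halt _ _)
      rw [ih']
      have hs : (-1 : A) ^ (((Fin.last (2 * m) : Fin (2 * m + 1)) : ℕ) + 1) = -1 := by
        rw [Fin.val_last, pow_succ, pow_mul]
        simp
      rw [hs, halt]
      rw [mul_comm]
      congr 1
      have hx : ∀ x : A, -1 * -x = x := by intro x; ring
      refine (hx _).trans ?_
      congr 1
    · intro j _ hj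
      have hj' : (j : ℕ) ≠ 2 * m := fun h => hj (Fin.ext (by simpa using h))
      have hj2 : (j : ℕ) < 2 * m + 1 := j.2
      rw [htri, mul_zero, zero_mul]
      · simp only [Fin.val_last, Fin.val_castSucc]; omega
      · simp only [Fin.val_last, Fin.val_castSucc]; omega
    · intro h; exact absurd (Finset.mem_univ _) h

section Main
open MvPolynomial

/-- The matrix of linear forms attached to a coefficient array. -/
noncomputable def linMat {A : Type*} [CommRing A] (r : ℕ)
    (c : Fin (2 * r + 1) → Fin (2 * r + 1) → Fin 2 → A) :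
    Matrix (Fin (2 * r + 1)) (Fin (2 * r + 1)) (MvPolynomial (Fin 2) A) :=
  Matrix.of fun a b => ∑ l : Fin 2, C (c a b l) * X l

/-- The principal sub-Pfaffian. -/
noncomputable def subPf {A : Type*} [CommRing A] (r : ℕ)
    (c : Fin (2 * r + 1) → Fin (2 * r + 1) → Fin 2 → A) (i : Fin (2 * r + 1)) :
    MvPolynomial (Fin 2) A :=
  pf (2 * r) ((linMat r c).submatrix i.succAbove i.succAbove)

theorem linMat_map {A B : Type*} [CommRing A] [CommRing B] (f : A →+* B) (r : ℕ)
    (c : Fin (2 * r + 1) → Fin (2 * r + 1) → Fin 2 → A) :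
    (linMat r c).map (MvPolynomial.map f) = linMat r (fun a b l => f (c a b l)) := by
  ext a b : 1
  simp [linMat]

theorem subPf_map {A B : Type*} [CommRing A] [CommRing B] (f : A →+* B) (r : ℕ)
    (c : Fin (2 * r + 1) → Fin (2 * r + 1) → Fin 2 → A) (i : Fin (2 * r + 1)) :
    MvPolynomial.map f (subPf r c i) = subPf r (fun a b l => f (c a b l)) i := by
  unfold subPf
  rw [← pf_map, ← linMat_map]
  rfl

theorem subPf_isHomogeneous {A : Type*} [CommRing A] (r : ℕ)
    (c : Fin (2 * r + 1) → Fin (2 * r + 1) → Fin 2 → A) (i : Fin (2 * r + 1)) :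
    (subPf r c i).IsHomogeneous r := by
  have h := pf_isHomogeneous (2 * r) ((linMat r c).submatrix i.succAbove i.succAbove) (by
    intro a b
    simp only [linMat, Matrix.submatrix_apply, Matrix.of_apply]
    apply IsHomogeneous.sum
    intro l _
    have := (isHomogeneous_C (Fin 2) (c (i.succAbove a) (i.succAbove b) l)).mul (isHomogeneous_X A l)
    simpa using this)
  have h2 : 2 * r / 2 = r := by omega
  rw [h2] at h
  exact h

/-- The exponent vector of `y_0^j y_1^(r-j)`. -/
noncomputable def expo (r : ℕ) (j : Fin (r + 1)) : Fin 2 →₀ ℕ :=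
  Finsupp.single 0 (j : ℕ) + Finsupp.single 1 (r - j)

theorem expo_zero (r : ℕ) (j : Fin (r + 1)) : expo r j 0 = j := by simp [expo]
theorem expo_one (r : ℕ) (j : Fin (r + 1)) : expo r j 1 = r - j := by simp [expo]

theorem expo_injective (r : ℕ) : Function.Injective (expo r) := by
  intro j j' h
  have := congrArg (fun e => e 0) h
  simp only [expo_zero] at this
  exact Fin.ext this

theorem expo_degree (r : ℕ) (j : Fin (r + 1)) : (expo r j).degree = r := by
  rw [Finsupp.degree_eq_sum, Fin.sum_univ_two, expo_zero, expo_one]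
  have := j.2
  omega

theorem eq_expo_of_degree (r : ℕ) (d : Fin 2 →₀ ℕ) (hd : d.degree = r) :
    ∃ j : Fin (r + 1), expo r j = d := by
  rw [Finsupp.degree_eq_sum, Fin.sum_univ_two] at hd
  refine ⟨⟨d 0, by omega⟩, ?_⟩
  ext i
  fin_cases i
  · simp [expo_zero]
  · simp [expo_one]; omega

/-- Expansion of a homogeneous binary form. -/
theorem expansion {k : Type*} [CommRing k] (r : ℕ) (p : MvPolynomial (Fin 2) k)
    (hp : p.IsHomogeneous r) :
    p = ∑ j : Fin (r + 1), monomial (expo r j) (coeff (expo r j) p) := by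
  classical
  ext d
  rw [coeff_sum]
  simp only [coeff_monomial]
  by_cases hd : d.degree = r
  · obtain ⟨j, rfl⟩ := eq_expo_of_degree r d hd
    rw [Finset.sum_eq_single j]
    · rw [if_pos rfl]
    · intro j' _ hj'
      rw [if_neg]
      intro h
      exact hj' (expo_injective r h)
    · intro h; exact absurd (Finset.mem_univ _) h
  · rw [hp.coeff_eq_zero hd, Finset.sum_eq_zero]
    intro j _
    rw [if_neg]
    intro h
    apply hd
    rw [← h, expo_degree]

/-- The row selection `j ↦ 2j`. -/
def row (r : ℕ) (j : Fin (r + 1)) : Fin (2 * r + 1) := ⟨2 * j, by have := j.2; omega⟩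

/-- The coefficient matrix of the selected sub-Pfaffians. -/
noncomputable def coeffMat {A : Type*} [CommRing A] (r : ℕ)
    (c : Fin (2 * r + 1) → Fin (2 * r + 1) → Fin 2 → A) : Matrix (Fin (r + 1)) (Fin (r + 1)) A :=
  Matrix.of fun j j' => coeff (expo r j') (subPf r c (row r j))

/-- The generic coefficient array. -/
noncomputable def genC (k : Type*) [CommRing k] (r : ℕ) :
    Fin (2 * r + 1) → Fin (2 * r + 1) → Fin 2 →
      MvPolynomial (Fin (2 * r + 1) × Fin (2 * r + 1) × Fin 2) k :=
  fun a b l => X (a, b, l)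

/-- The polynomial certificate. -/
noncomputable def Phi (k : Type*) [CommRing k] (r : ℕ) :
    MvPolynomial (Fin (2 * r + 1) × Fin (2 * r + 1) × Fin 2) k :=
  (coeffMat r (genC k r)).det

theorem eval_Phi {k : Type*} [CommRing k] (r : ℕ)
    (c : Fin (2 * r + 1) → Fin (2 * r + 1) → Fin 2 → k) :
    eval (fun p => c p.1 p.2.1 p.2.2) (Phi k r) = (coeffMat r c).det := by
  unfold Phi
  rw [RingHom.map_det]
  congr 1
  ext j j'
  simp only [RingHom.mapMatrix_apply, Matrix.map_apply, coeffMat, Matrix.of_apply]
  rw [← coeff_map, subPf_map]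
  congr 2
  funext a b l
  simp [genC]

/-- If the coefficient matrix is invertible, every monomial lies in the span. -/
theorem monomial_mem_span {k : Type*} [Field k] (r : ℕ)
    (c : Fin (2 * r + 1) → Fin (2 * r + 1) → Fin 2 → k) (hdet : (coeffMat r c).det ≠ 0)
    (j' : Fin (r + 1)) :
    monomial (expo r j') (1 : k) ∈
      Submodule.span k (Set.range fun i : Fin (2 * r + 1) => subPf r c i) := by
  classical
  set M := coeffMat r c with hM
  have hunit : IsUnit M.det := isUnit_iff_ne_zero.mpr hdet
  have hw : ∀ j, subPf r c (row r j) = ∑ j'', M j j'' • monomial (expo r j'') (1 : k) := by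
    intro j
    conv_lhs => rw [expansion r _ (subPf_isHomogeneous r c (row r j))]
    apply Finset.sum_congr rfl
    intro j'' _
    rw [smul_monomial, smul_eq_mul, mul_one]
    rfl
  have key : monomial (expo r j') (1 : k) = ∑ j, M⁻¹ j' j • subPf r c (row r j) := by
    simp_rw [hw, Finset.smul_sum, smul_smul]
    rw [Finset.sum_comm]
    simp_rw [← Finset.sum_smul]
    have : ∀ j'', ∑ j, M⁻¹ j' j * M j j'' = (1 : Matrix (Fin (r + 1)) (Fin (r + 1)) k) j' j'' := by
      intro j''
      rw [← Matrix.nonsing_inv_mul M hunit, Matrix.mul_apply]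
    simp_rw [this, Matrix.one_apply]
    rw [Finset.sum_eq_single j']
    · rw [if_pos rfl, one_smul]
    · intro b _ hb
      rw [if_neg (Ne.symm hb), zero_smul]
    · intro h; exact absurd (Finset.mem_univ _) h
  rw [key]
  apply Submodule.sum_mem
  intro j _
  apply Submodule.smul_mem
  exact Submodule.subset_span ⟨row r j, rfl⟩

/-- The span statement. -/
theorem span_eq {k : Type*} [Field k] (r : ℕ)
    (c : Fin (2 * r + 1) → Fin (2 * r + 1) → Fin 2 → k) (hdet : (coeffMat r c).det ≠ 0) :
    Submodule.span k (Set.range fun i : Fin (2 * r + 1) => subPf r c i) =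
      homogeneousSubmodule (Fin 2) k r := by
  apply le_antisymm
  · rw [Submodule.span_le]
    rintro _ ⟨i, rfl⟩
    exact (mem_homogeneousSubmodule _ _).mpr (subPf_isHomogeneous r c i)
  · intro p hp
    have hp' : p.IsHomogeneous r := (mem_homogeneousSubmodule _ _).mp hp
    rw [expansion r p hp']
    apply Submodule.sum_mem
    intro j _
    have : monomial (expo r j) (coeff (expo r j) p) =
        coeff (expo r j) p • monomial (expo r j) (1 : k) := by
      rw [smul_monomial, smul_eq_mul, mul_one]
    rw [this]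
    exact Submodule.smul_mem _ _ (monomial_mem_span r c hdet j)

theorem val_succAbove {n : ℕ} (p : Fin (n + 1)) (i : Fin n) :
    (p.succAbove i : ℕ) = if (i : ℕ) < p then (i : ℕ) else i + 1 := by
  unfold Fin.succAbove
  by_cases h : (i : ℕ) < p
  · rw [if_pos h, if_pos (by simpa [Fin.lt_def] using h)]
    rfl
  · rw [if_neg h, if_neg (by simpa [Fin.lt_def] using h)]
    rfl

/-- The tridiagonal example. -/
noncomputable def exC (k : Type*) [CommRing k] (r : ℕ) :
    Fin (2 * r + 1) → Fin (2 * r + 1) → Fin 2 → k :=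
  fun a b l => if (a : ℕ) + 1 = b then (if (l : ℕ) = (a : ℕ) % 2 then 1 else 0)
    else if (b : ℕ) + 1 = a then (if (l : ℕ) = (b : ℕ) % 2 then -1 else 0) else 0

theorem exC_antisymm (k : Type*) [CommRing k] (r : ℕ) (a b : Fin (2 * r + 1)) (l : Fin 2) :
    exC k r b a l = - exC k r a b l := by
  unfold exC
  by_cases h1 : (a : ℕ) + 1 = b
  · have h2 : ¬ ((b : ℕ) + 1 = a) := by omega
    rw [if_pos h1, if_neg h2, if_pos h1]
    split_ifs <;> simp
  · by_cases h2 : (b : ℕ) + 1 = a
    · rw [if_pos h2, if_neg h1, if_pos h2]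
      split_ifs <;> simp
    · rw [if_neg h2, if_neg h1, if_neg h1, if_neg h2, neg_zero]

theorem linMat_antisymm {A : Type*} [CommRing A] (r : ℕ)
    (c : Fin (2 * r + 1) → Fin (2 * r + 1) → Fin 2 → A) (hc : ∀ a b l, c b a l = - c a b l)
    (a b : Fin (2 * r + 1)) : linMat r c b a = - linMat r c a b := by
  simp only [linMat, Matrix.of_apply, hc a b, map_neg, neg_mul, Finset.sum_neg_distrib]

theorem linMat_exC_succ (k : Type*) [CommRing k] (r : ℕ) (a b : Fin (2 * r + 1))
    (h : (a : ℕ) + 1 = b) :
    linMat r (exC k r) a b = X ⟨(a : ℕ) % 2, Nat.mod_lt _ two_pos⟩ := by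
  simp only [linMat, Matrix.of_apply, exC, if_pos h]
  rw [Finset.sum_eq_single ⟨(a : ℕ) % 2, Nat.mod_lt _ two_pos⟩]
  · simp
  · intro l _ hl
    have : ¬ ((l : ℕ) = (a : ℕ) % 2) := fun h' => hl (Fin.ext h')
    rw [if_neg this, map_zero, zero_mul]
  · intro h'; exact absurd (Finset.mem_univ _) h'

theorem linMat_exC_zero (k : Type*) [CommRing k] (r : ℕ) (a b : Fin (2 * r + 1))
    (h1 : (a : ℕ) + 1 ≠ b) (h2 : (b : ℕ) + 1 ≠ a) :
    linMat r (exC k r) a b = 0 := by
  simp only [linMat, Matrix.of_apply, exC, if_neg h1, if_neg h2, map_zero, zero_mul,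
    Finset.sum_const_zero]

theorem prod_range_ite {M : Type*} [CommMonoid M] (a b : M) :
    ∀ (r j : ℕ), j ≤ r → ∏ t ∈ Finset.range r, (if t < j then a else b) = a ^ j * b ^ (r - j) := by
  intro r
  induction r with
  | zero => intro j hj; have : j = 0 := by omega
            subst this; simp
  | succ r ih =>
    intro j hj
    rw [Finset.prod_range_succ]
    by_cases hjr : j ≤ r
    · rw [ih j hjr, if_neg (by omega)]
      have : r + 1 - j = (r - j) + 1 := by omega
      rw [this, pow_succ, mul_assoc]
    · have hj' : j = r + 1 := by omega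
      subst hj'
      have : ∏ t ∈ Finset.range r, (if t < r + 1 then a else b) =
          ∏ t ∈ Finset.range r, (if t < r then a else b) := by
        apply Finset.prod_congr rfl
        intro t ht
        rw [Finset.mem_range] at ht
        rw [if_pos ht, if_pos (by omega)]
      rw [this, ih r le_rfl, if_pos (by omega)]
      simp [pow_succ]

theorem subPf_exC (k : Type*) [CommRing k] (r : ℕ) (j : Fin (r + 1)) :
    subPf r (exC k r) (row r j) = monomial (expo r j) (1 : k) := by
  unfold subPf
  have hjr : (j : ℕ) ≤ r := by have := j.2; omega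
  rw [pf_tridiag r]
  · have hentry : ∀ t : Fin r,
        ((linMat r (exC k r)).submatrix (row r j).succAbove (row r j).succAbove)
          ⟨2 * t, by have := t.2; omega⟩ ⟨2 * t + 1, by have := t.2; omega⟩ =
        (fun t : ℕ => if t < j then (X 0 : MvPolynomial (Fin 2) k) else X 1) t := by
      intro t
      rw [Matrix.submatrix_apply]
      by_cases htj : (t : ℕ) < j
      · rw [linMat_exC_succ]
        · simp only [if_pos htj]
          congr 1
          apply Fin.ext
          rw [val_succAbove]
          simp only [row]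
          rw [if_pos (by omega)]
          simp
        · rw [val_succAbove, val_succAbove]
          simp only [row]
          rw [if_pos (by omega), if_pos (by omega)]
      · rw [linMat_exC_succ]
        · simp only [if_neg htj]
          congr 1
          apply Fin.ext
          rw [val_succAbove]
          simp only [row]
          rw [if_neg (by omega)]
          simp only [Fin.val_one]
          omega
        · rw [val_succAbove, val_succAbove]
          simp only [row]
          rw [if_neg (by omega), if_neg (by omega)]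
    rw [Finset.prod_congr rfl (fun t _ => hentry t)]
    rw [Fin.prod_univ_eq_prod_range (fun t : ℕ => if t < j then (X 0 : MvPolynomial (Fin 2) k) else X 1) r]
    rw [prod_range_ite _ _ r j hjr]
    rw [X_pow_eq_monomial, X_pow_eq_monomial, monomial_mul, mul_one]
    rfl
  · intro a b h1 h2
    rw [Matrix.submatrix_apply]
    apply linMat_exC_zero
    · rw [val_succAbove, val_succAbove]
      split_ifs <;> omega
    · rw [val_succAbove, val_succAbove]
      split_ifs <;> omega
  · intro a b
    rw [Matrix.submatrix_apply, Matrix.submatrix_apply]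
    exact linMat_antisymm r _ (exC_antisymm k r) _ _

theorem coeffMat_exC (k : Type*) [CommRing k] (r : ℕ) : coeffMat r (exC k r) = 1 := by
  classical
  ext j j'
  simp only [coeffMat, Matrix.of_apply, subPf_exC, coeff_monomial, Matrix.one_apply]
  by_cases h : j = j'
  · subst h; simp
  · rw [if_neg h, if_neg]
    intro h'
    exact h (expo_injective r h')

theorem main (k : Type u) [Field k] (r : ℕ) :
    ∃ Φ : MvPolynomial (Fin (2 * r + 1) × Fin (2 * r + 1) × Fin 2) k,
      (∃ c : Fin (2 * r + 1) → Fin (2 * r + 1) → Fin 2 → k, (∀ i j l, c j i l = -c i j l) ∧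
        MvPolynomial.eval (fun p => c p.1 p.2.1 p.2.2) Φ ≠ 0) ∧
      ∀ c : Fin (2 * r + 1) → Fin (2 * r + 1) → Fin 2 → k, (∀ i j l, c j i l = -c i j l) →
        MvPolynomial.eval (fun p => c p.1 p.2.1 p.2.2) Φ ≠ 0 →
        Submodule.span k (Set.range fun i : Fin (2 * r + 1) =>
            W4c3degenlocivb.pf (2 * r) ((Matrix.of fun a b => ∑ l : Fin 2, MvPolynomial.C (c a b l) * MvPolynomial.X l).submatrix i.succAbove i.succAbove)) =
          MvPolynomial.homogeneousSubmodule (Fin 2) k r := by
  refine ⟨Phi k r, ⟨exC k r, fun a b l => exC_antisymm k r a b l, ?_⟩, ?_⟩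
  · rw [eval_Phi, coeffMat_exC, Matrix.det_one]
    exact one_ne_zero
  · intro c _ hc
    rw [eval_Phi] at hc
    exact span_eq r c hc

end Main

end Groth.Agent.H97.Pfaff
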