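import Mathlib
import Groth.Agent.H97.PicPnMain

/-!
# The twists `O(d)` on projective space of positive dimension are pairwise non-isomorphic
-/

set_option autoImplicit false
set_option linter.unusedSectionVars false
set_option linter.style.haveILetI false
universe u

open CategoryTheory CategoryTheory.Limits AlgebraicGeometry TopologicalSpace Opposite
open HomogeneousLocalization

namespace Groth.Agent.H97.PicPn

open MvPolynomial Groth.Agent.H18 Groth.Agent.H18.PUP

section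

variable (R : Type u) [CommRing R] [IsDomain R] [UniqueFactorizationMonoid R] (n : ℕ)

local notation "𝒜" => CohB1.polyGrading n R
local notation "S" => MvPolynomial (Fin (n + 1)) R
local notation "K" => FractionRing (MvPolynomial (Fin (n + 1)) R)

/-- units on a standard open are constants -/
theorem exists_ev_unit_U (i : Fin (n + 1)) (g : Γ(Proj 𝒜, U R n i)) (hg : IsUnit g) :
    ∃ r : Rˣ, ev 𝒜 (hgen R n) _ (gen_mem_U R n i) g = algebraMap S K (C (r : R)) := by
  have hle : U R n i ⊓ U R n i ≤ U R n i := inf_le_left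
  have hu : IsUnit ((Proj 𝒜).presheaf.map (homOfLE hle).op g) :=
    hg.map ((Proj 𝒜).presheaf.map (homOfLE hle).op).hom
  obtain ⟨r, e, hre⟩ := exists_ev_unit R n i i _ hu
  refine ⟨r, ?_⟩
  rw [ev_res, Alg.lm_self, Alg.Ξ_zero, mul_one] at hre
  exact hre

theorem eq_of_twist_iso (hn : 1 ≤ n) (d d' : ℤ) (e : Twist.twist 𝒜 d ≅ Twist.twist 𝒜 d') :
    d = d' := by
  obtain ⟨u, hu⟩ := Groth.Agent.H54.CocycleIso.units_of_iso (ι := ULift.{u} (Fin (n + 1)))
    (fun i => U R n i.down) (Twist.twist 𝒜 d) (Twist.twist 𝒜 d')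
    (fun i => tw R n d i.down _ le_rfl) (fun i => tw R n d' i.down _ le_rfl)
    (fun i V h => isBasisOn_tw R n d i.down V h) (fun i V h => isBasisOn_tw R n d' i.down V h)
    (fun i j => zf R n i.down j.down d _ le_rfl) (fun i j => zf R n i.down j.down d' _ le_rfl)
    (fun i j => tw_transition R n d i.down j.down) (fun i j => tw_transition R n d' i.down j.down) e
  let i1 : Fin (n + 1) := ⟨1, by omega⟩
  have h01 : (0 : Fin (n + 1)) ≠ i1 := by
    intro h
    have := congrArg Fin.val h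
    simp [i1] at this
  have h := hu ⟨0⟩ ⟨i1⟩
  obtain ⟨r0, hr0⟩ := exists_ev_unit_U R n 0 (u ⟨0⟩ : Γ(Proj 𝒜, U R n 0)) (u ⟨0⟩).isUnit
  obtain ⟨r1, hr1⟩ := exists_ev_unit_U R n i1 (u ⟨i1⟩ : Γ(Proj 𝒜, U R n i1)) (u ⟨i1⟩).isUnit
  have h2 := congrArg (ev 𝒜 (hgen R n) _ (gen_mem_inf R n 0 i1)) h
  rw [map_mul, map_mul, ev_zf, ev_zf, ev_res, ev_res, hr0, hr1] at h2
  have h3 : Alg.Ξ R (Fin (n + 1)) (Alg.lm (Fin (n + 1)) 0 i1 d') * algebraMap S K (C (r0 : R)) =
      Alg.Ξ R (Fin (n + 1)) (Alg.lm (Fin (n + 1)) 0 i1 d) * algebraMap S K (C (r1 : R)) := by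
    rw [h2, mul_comm]
  obtain ⟨h4, -⟩ := Alg.Ξ_mul_C_inj R (Fin (n + 1)) _ _ _ _ r0.ne_zero h3
  have h5 := congrFun h4 0
  rw [Alg.lm_apply, Alg.lm_apply] at h5
  simpa [h01] using h5.symm

end

end Groth.Agent.H97.PicPn
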