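import Mathlib
import Groth.Prelude.Def_CohB1
import Groth.Agent.H97.ProjBaseChange
import Groth.Agent.H41.ProjGen

/-!
# Coordinate linear embeddings `P^p ⟶ P^q` and disjoint unions of closed subschemes
-/

set_option autoImplicit false
universe u
open CategoryTheory CategoryTheory.Limits AlgebraicGeometry HomogeneousLocalization

namespace Groth.Agent.H97.ProjLinEmb

section coprod

theorem isClosedImmersion_coprodDesc {X Y Z : Scheme.{u}} (a : X ⟶ Z) (b : Y ⟶ Z)
    [IsClosedImmersion a] [IsClosedImmersion b]
    (hd : ∀ x y, a.base x ≠ b.base y) : IsClosedImmersion (coprod.desc a b) := by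
  have hs : SurjectiveOnStalks (coprod.desc a b) := by
    rw [IsZariskiLocalAtSource.iff_of_openCover (P := @SurjectiveOnStalks)
      (coprodOpenCover.{u, 0} X Y)]
    rintro (⟨⟩ | ⟨⟩)
    · change SurjectiveOnStalks (coprod.inl ≫ coprod.desc a b)
      rw [coprod.inl_desc]
      infer_instance
    · change SurjectiveOnStalks (coprod.inr ≫ coprod.desc a b)
      rw [coprod.inr_desc]
      infer_instance
  have h1 : ⇑(coprod.desc a b).base ∘ coprodMk X Y = Sum.elim a.base b.base := by
    funext z
    cases z with
    | inl x =>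
      rw [Function.comp_apply, coprodMk_inl, Sum.elim_inl, ← Scheme.Hom.comp_apply,
        coprod.inl_desc]
    | inr y =>
      rw [Function.comp_apply, coprodMk_inr, Sum.elim_inr, ← Scheme.Hom.comp_apply,
        coprod.inr_desc]
  have hce : Topology.IsClosedEmbedding (Sum.elim a.base b.base) :=
    a.isClosedEmbedding.sumElim b.isClosedEmbedding
      (Sum.elim_injective.mpr ⟨a.isClosedEmbedding.injective, b.isClosedEmbedding.injective, hd⟩)
  have h2 : ⇑(coprod.desc a b).base = Sum.elim a.base b.base ∘ (coprodMk X Y).symm := by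
    rw [← h1]
    funext z
    simp
  exact { isClosedEmbedding := by
            rw [h2]
            exact hce.comp (coprodMk X Y).symm.isClosedEmbedding }

end coprod

section toSpec
variable (k K : Type u) [CommRing k] [CommRing K] [Algebra k K] (n m : ℕ)

theorem awayMap_cst_of_C (f : (CohB1.polyGrading n k) →+*ᵍ (CohB1.polyGrading m K))
    (hC : ∀ a, f (MvPolynomial.C a) = MvPolynomial.C (algebraMap k K a))
    (s : MvPolynomial (Fin (n + 1)) k) (a : k) :
    Away.map f s (ProjChart.cst k n _ a) = ProjChart.cst K m _ (algebraMap k K a) := by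
  apply val_injective
  rw [ProjChart.val_cst]
  change Localization.mk (f (MvPolynomial.C a)) ⟨f 1, _⟩ = _
  rw [hC]
  congr 1
  apply Subtype.ext
  exact map_one _

set_option backward.isDefEq.respectTransparency false in
theorem map_toSpec_of_C (f : (CohB1.polyGrading n k) →+*ᵍ (CohB1.polyGrading m K))
    (hC : ∀ a, f (MvPolynomial.C a) = MvPolynomial.C (algebraMap k K a))
    (hl : HomogeneousIdeal.irrelevant (CohB1.polyGrading m K) ≤
      (HomogeneousIdeal.irrelevant (CohB1.polyGrading n k)).map f) :
    (Proj.map f hl : CohB1.ProjSpace m K ⟶ CohB1.ProjSpace n k) ≫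
      CohB1.ProjSpace.toSpec n k =
    CohB1.ProjSpace.toSpec m K ≫ Spec.map (CommRingCat.ofHom (algebraMap k K)) := by
  refine (Proj.mapAffineOpenCover f hl).openCover.hom_ext _ _ fun s => ?_
  simp only [Scheme.AffineOpenCover.openCover_f, Proj.mapAffineOpenCover_f]
  rw [Proj.awayι_comp_map_assoc f _ s.1.2 _ s.2.2,
    ProjChart.awayι_toSpec k n _ s.2.2 s.1.2]
  rw [ProjChart.awayι_toSpec_assoc K m (f s.2.1) (f.map_mem s.2.2) s.1.2]
  rw [← Spec.map_comp, ← Spec.map_comp, ← CommRingCat.ofHom_comp, ← CommRingCat.ofHom_comp]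
  congr 2
  refine RingHom.ext fun a => ?_
  exact awayMap_cst_of_C k K n m f hC _ a

end toSpec

section linemb
variable (k : Type u) [CommRing k] (p q : ℕ) (ι : Fin (p + 1) → Fin (q + 1))

/-- images of the variables under the coordinate projection -/
noncomputable def img : Fin (q + 1) → MvPolynomial (Fin (p + 1)) k :=
  Function.extend ι MvPolynomial.X 0

theorem img_apply (hι : Function.Injective ι) (l : Fin (p + 1)) :
    img k p q ι (ι l) = MvPolynomial.X l :=
  hι.extend_apply _ _ _

theorem img_of_not_mem (j : Fin (q + 1)) (hj : ∀ l, ι l ≠ j) : img k p q ι j = 0 :=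
  Function.extend_apply' _ _ _ (by simpa using hj)

theorem img_homog (j : Fin (q + 1)) : (img k p q ι j).IsHomogeneous 1 := by
  classical
  unfold img
  rw [Function.extend_def]
  split_ifs with h
  · exact MvPolynomial.isHomogeneous_X _ _
  · exact MvPolynomial.isHomogeneous_zero _ _ _

/-- the coordinate projection `k[X_0..X_q] → k[X_0..X_p]` as a graded ring hom -/
noncomputable def emb : (CohB1.polyGrading q k) →+*ᵍ (CohB1.polyGrading p k) where
  toRingHom := MvPolynomial.eval₂Hom MvPolynomial.C (img k p q ι)
  map_mem := fun {d x} hx => by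
    have := ((MvPolynomial.mem_homogeneousSubmodule _ _).mp hx).eval₂
      MvPolynomial.C (img k p q ι) (n := 1)
      (fun r => MvPolynomial.isHomogeneous_C _ _) (img_homog k p q ι)
    rw [one_mul] at this
    exact (MvPolynomial.mem_homogeneousSubmodule _ _).mpr this

theorem emb_C (a : k) : emb k p q ι (MvPolynomial.C a) = MvPolynomial.C a := by
  change MvPolynomial.eval₂Hom _ _ _ = _
  simp

theorem emb_X (j : Fin (q + 1)) : emb k p q ι (MvPolynomial.X j) = img k p q ι j := by
  change MvPolynomial.eval₂Hom _ _ _ = _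
  simp

theorem emb_rename (hι : Function.Injective ι) (P : MvPolynomial (Fin (p + 1)) k) :
    emb k p q ι (MvPolynomial.rename ι P) = P := by
  change MvPolynomial.eval₂Hom _ _ _ = _
  rw [MvPolynomial.eval₂Hom_rename]
  have : img k p q ι ∘ ι = MvPolynomial.X := by
    funext l
    exact img_apply k p q ι hι l
  rw [this]
  exact MvPolynomial.eval₂_eta P

theorem emb_surjective (hι : Function.Injective ι) : Function.Surjective (emb k p q ι) :=
  fun P => ⟨_, emb_rename k p q ι hι P⟩

theorem irrelevant_le_map_emb (hι : Function.Injective ι) :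
    HomogeneousIdeal.irrelevant (CohB1.polyGrading p k) ≤
      (HomogeneousIdeal.irrelevant (CohB1.polyGrading q k)).map (emb k p q ι) := by
  change (HomogeneousIdeal.irrelevant (CohB1.polyGrading p k)).toIdeal ≤
    ((HomogeneousIdeal.irrelevant (CohB1.polyGrading q k)).map (emb k p q ι)).toIdeal
  rw [HomogeneousIdeal.toIdeal_map]
  refine (Groth.Agent.Lead.Coh.irrelevant_le_span_X p k).trans ?_
  rw [Ideal.span_le]
  rintro _ ⟨l, rfl⟩
  rw [← img_apply k p q ι hι l, ← emb_X]
  refine Ideal.mem_map_of_mem _ ?_
  rw [HomogeneousIdeal.mem_iff, HomogeneousIdeal.mem_irrelevant_iff, GradedRing.proj_apply,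
    DirectSum.decompose_of_mem_ne _ (ProjChart.X_mem k q (ι l)) (by norm_num)]

/-- the coordinate linear embedding `P^p ⟶ P^q` -/
noncomputable def linEmb (hι : Function.Injective ι) :
    CohB1.ProjSpace p k ⟶ CohB1.ProjSpace q k :=
  Proj.map (emb k p q ι) (irrelevant_le_map_emb k p q ι hι)

instance (hι : Function.Injective ι) : IsClosedImmersion (linEmb k p q ι hι) :=
  Groth.Agent.H41.ProjGen.isClosedImmersion_projMap_of_surjective _
    (emb_surjective k p q ι hι) _

theorem specMap_algebraMap_self' :
    Spec.map (CommRingCat.ofHom (algebraMap k k)) = 𝟙 (Spec (CommRingCat.of k)) := by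
  rw [Algebra.algebraMap_self]
  exact Spec.map_id _

theorem linEmb_toSpec (hι : Function.Injective ι) :
    linEmb k p q ι hι ≫ CohB1.ProjSpace.toSpec q k = CohB1.ProjSpace.toSpec p k := by
  have h := map_toSpec_of_C k k q p (emb k p q ι) (emb_C k p q ι)
    (irrelevant_le_map_emb k p q ι hι)
  rw [specMap_algebraMap_self', Category.comp_id] at h
  exact h

set_option backward.isDefEq.respectTransparency false in
theorem linEmb_not_mem (hι : Function.Injective ι) (j : Fin (q + 1)) (hj : ∀ l, ι l ≠ j)
    (x : CohB1.ProjSpace p k) :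
    (linEmb k p q ι hι).base x ∉ Proj.basicOpen (CohB1.polyGrading q k) (MvPolynomial.X j) := by
  intro hx
  have h1 : x ∈ (linEmb k p q ι hι) ⁻¹ᵁ
      Proj.basicOpen (CohB1.polyGrading q k) (MvPolynomial.X j) := hx
  unfold linEmb at h1
  rw [Proj.map_preimage_basicOpen, emb_X, img_of_not_mem k p q ι j hj, Proj.basicOpen_zero] at h1
  exact h1

end linemb

end Groth.Agent.H97.ProjLinEmb
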