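import Mathlib
import Groth.Prelude.Def_CohB1
import Groth.Agent.H97.FormsMap
import Groth.Agent.H97.ProjProper
import Groth.Agent.H54.LinearForms
import Groth.Agent.H54.ProjDim2
import Groth.Agent.H54.ProjDimTheory4
import Groth.Agent.H24.LiftChains

/-!
# Projective Noether normalization

A closed subscheme of dimension `d` of projective space over an infinite field admits a finite
surjective morphism onto `P^d`, given by `d + 1` general linear forms.
-/

set_option autoImplicit false
universe u

open AlgebraicGeometry CategoryTheory CategoryTheory.Limits TopologicalSpace Opposite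

namespace Groth.Agent.H97.ProjNoether

open Groth.Agent.H54 Groth.Agent.H24

section forms

variable (k : Type u) [Field k] (n : ℕ)

local notation "𝒜" => CohB1.polyGrading n k
local notation "A" => MvPolynomial (Fin (n + 1)) k
local notation "m₊" => HomogeneousIdeal.toIdeal (HomogeneousIdeal.irrelevant (CohB1.polyGrading n k))

theorem ringKrullDim_quotient_le_of_le_zeroLocus (Z : Set (ProjectiveSpectrum 𝒜)) (hZ : IsClosed Z)
    (d : ℕ) (hdim : topologicalKrullDim ↥Z ≤ (d : WithBot ℕ∞)) (P : Ideal A) (hP : P.IsPrime)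
    (hJP : (ProjectiveSpectrum.vanishingIdeal Z).toIdeal ≤ P) :
    ringKrullDim (A ⧸ P) ≤ ((d + 1 : ℕ) : WithBot ℕ∞) := by
  set J := (ProjectiveSpectrum.vanishingIdeal Z).toIdeal with hJdef
  have hJ : J.IsHomogeneous 𝒜 := (ProjectiveSpectrum.vanishingIdeal Z).isHomogeneous
  set Q : Ideal A := (Ideal.homogeneousCore 𝒜 P).toIdeal with hQdef
  have hQprime : Q.IsPrime := Ideal.IsPrime.homogeneousCore hP
  have hQhom : Q.IsHomogeneous 𝒜 := (Ideal.homogeneousCore 𝒜 P).isHomogeneous
  have hQP : Q ≤ P := Ideal.toIdeal_homogeneousCore_le 𝒜 P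
  have hJQ : J ≤ Q := by
    have h1 : (Ideal.homogeneousCore 𝒜 J).toIdeal ≤ (Ideal.homogeneousCore 𝒜 P).toIdeal :=
      Ideal.homogeneousCore_mono 𝒜 hJP
    rwa [hJ.toIdeal_homogeneousCore_eq_self] at h1
  have h1 : ringKrullDim (A ⧸ P) ≤ ringKrullDim (A ⧸ Q) :=
    ringKrullDim_le_of_surjective (Ideal.Quotient.factor hQP) (Ideal.Quotient.factor_surjective hQP)
  refine le_trans h1 ?_
  by_cases hrel : m₊ ≤ Q
  · have h2 : ringKrullDim (A ⧸ Q) ≤ ringKrullDim (A ⧸ m₊) :=
      ringKrullDim_le_of_surjective (Ideal.Quotient.factor hrel)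
        (Ideal.Quotient.factor_surjective hrel)
    rw [ringKrullDim_quotient_irrelevant] at h2
    refine le_trans h2 ?_
    exact_mod_cast Nat.zero_le _
  · rw [ringKrullDim_quotient_eq_topologicalKrullDim_add_one k n Q hQprime hQhom hrel]
    have hsub : ProjectiveSpectrum.zeroLocus 𝒜 (Q : Set A) ⊆ Z := by
      have h2 : ProjectiveSpectrum.zeroLocus 𝒜 (Q : Set A) ⊆
          ProjectiveSpectrum.zeroLocus 𝒜 (J : Set A) :=
        ProjectiveSpectrum.zeroLocus_anti_mono 𝒜 hJQ
      have h3 : ProjectiveSpectrum.zeroLocus 𝒜 (J : Set A) = closure Z :=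
        ProjectiveSpectrum.zeroLocus_vanishingIdeal_eq_closure 𝒜 Z
      rw [h3, hZ.closure_eq] at h2
      exact h2
    have h4 : topologicalKrullDim ↥(ProjectiveSpectrum.zeroLocus 𝒜 (Q : Set A)) ≤
        topologicalKrullDim ↥Z :=
      (Topology.IsEmbedding.inclusion hsub).toIsInducing.topologicalKrullDim_le
    have h5 : topologicalKrullDim ↥(ProjectiveSpectrum.zeroLocus 𝒜 (Q : Set A)) + 1 ≤
        (d : WithBot ℕ∞) + 1 := by
      gcongr
      exact le_trans h4 hdim
    refine le_trans h5 ?_
    push_cast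
    exact le_refl _

/-- `d + 1` linear forms without common zero on a closed subset of dimension at most `d` of
projective space over an infinite field -/
theorem exists_forms [Infinite k] (Z : Set (ProjectiveSpectrum 𝒜)) (hZ : IsClosed Z) (d : ℕ)
    (hdim : topologicalKrullDim ↥Z ≤ (d : WithBot ℕ∞)) :
    ∃ h : Fin (d + 1) → A, (∀ i, h i ∈ 𝒜 1) ∧
      ∀ x ∈ Z, ∃ i, h i ∉ (x : ProjectiveSpectrum 𝒜).asHomogeneousIdeal := by
  set J := (ProjectiveSpectrum.vanishingIdeal Z).toIdeal with hJdef
  have hJ : J.IsHomogeneous 𝒜 := (ProjectiveSpectrum.vanishingIdeal Z).isHomogeneous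
  obtain ⟨h, hh, hfin⟩ := exists_linear_forms k n (d + 1) J hJ
    (fun P hP hJP => ringKrullDim_quotient_le_of_le_zeroLocus k n Z hZ d hdim P hP hJP)
  have hhom : (J ⊔ Ideal.span (Set.range h)).IsHomogeneous 𝒜 := by
    refine hJ.sup (Ideal.homogeneous_span 𝒜 _ ?_)
    rintro _ ⟨i, rfl⟩
    exact ⟨1, (MvPolynomial.mem_homogeneousSubmodule 1 _).mpr (hh i)⟩
  obtain ⟨N, hN⟩ := exists_pow_le_of_dim_zero k n _ hhom hfin
  refine ⟨h, fun i => (MvPolynomial.mem_homogeneousSubmodule 1 _).mpr (hh i), fun x hx => ?_⟩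
  by_contra hcon
  push Not at hcon
  have hle : J ⊔ Ideal.span (Set.range h) ≤ x.asHomogeneousIdeal.toIdeal := by
    refine sup_le ?_ ?_
    · intro f hf
      exact (ProjectiveSpectrum.mem_vanishingIdeal Z f).mp hf x hx
    · rw [Ideal.span_le]
      rintro _ ⟨i, rfl⟩
      exact hcon i
  apply x.not_irrelevant_le
  refine irrelevant_le_of_forall_X_mem k n (fun j => ?_)
  have h1 : (MvPolynomial.X j : A) ^ N ∈
      (Ideal.span (Set.range (MvPolynomial.X : Fin (n + 1) → A))) ^ N :=
    Ideal.pow_mem_pow (Ideal.subset_span (Set.mem_range_self j)) N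
  exact x.isPrime.mem_of_pow_mem N (hle (hN h1))

end forms

section main

variable (k : Type u) [Field k]

/-- the generic point of projective space specializes to every point -/
theorem botPoint_specializes (d : ℕ) (y : ProjectiveSpectrum (CohB1.polyGrading d k)) :
    botPoint k d ⤳ y := by
  rw [specializes_iff_mem_closure]
  exact (ProjectiveSpectrum.le_iff_mem_closure (CohB1.polyGrading d k) _ _).mp (botPoint_le k d y)

theorem not_add_one_le (d : ℕ) : ¬ ((d : WithBot ℕ∞) + 1 ≤ (d : WithBot ℕ∞)) := by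
  intro h1
  have h2 : ((d + 1 : ℕ) : WithBot ℕ∞) ≤ (d : WithBot ℕ∞) := by
    push_cast
    exact h1
  have h2' : (((d + 1 : ℕ) : ℕ∞) : WithBot ℕ∞) ≤ (((d : ℕ) : ℕ∞) : WithBot ℕ∞) := h2
  have h3 : ((d + 1 : ℕ) : ℕ∞) ≤ ((d : ℕ) : ℕ∞) := WithBot.coe_le_coe.mp h2'
  have h4 : d + 1 ≤ d := Nat.cast_le.mp h3
  omega

attribute [local instance] specializationOrder in
/-- a closed continuous map with discrete fibres from a space of dimension `d` to projective
`d`-space is surjective -/
theorem surjective_of_dim {T : Type*} [TopologicalSpace T] [T0Space T] [QuasiSober T] (d : ℕ)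
    (hT : topologicalKrullDim T = (d : WithBot ℕ∞))
    (g : T → ↥(CohB1.ProjSpace d k)) (hg : Continuous g) (hcl : IsClosedMap g)
    (hdisc : ∀ y, _root_.IsDiscrete (g ⁻¹' {y})) : Function.Surjective g := by
  let η : ↥(CohB1.ProjSpace d k) := botPoint k d
  have hη : ∀ y : ↥(CohB1.ProjSpace d k), η ⤳ y := fun y => botPoint_specializes k d y
  have hmono : StrictMono g := strictMono_of_isDiscrete_fibres g hg hdisc
  have hηmem : η ∈ Set.range g := by
    by_contra hnot
    have hne : Nonempty T := by
      by_contra hemp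
      rw [not_nonempty_iff] at hemp
      have : topologicalKrullDim T = ⊥ := by
        unfold topologicalKrullDim
        haveI : IsEmpty (IrreducibleCloseds T) :=
          ⟨fun Z => hemp.elim Z.isIrreducible'.nonempty.some⟩
        exact Order.krullDim_eq_bot
      rw [this] at hT
      exact absurd hT (by simp)
    let f : WithTop T → ↥(CohB1.ProjSpace d k) := fun x => x.recTopCoe η g
    have hf : StrictMono f := by
      intro x y hxy
      induction x using WithTop.recTopCoe with
      | top => exact absurd hxy (not_top_lt)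
      | coe x =>
        induction y using WithTop.recTopCoe with
        | top =>
          change g x < η
          refine lt_of_le_of_ne (hη (g x)) (fun heq => hnot ⟨x, heq⟩)
        | coe y => exact hmono (WithTop.coe_lt_coe.mp hxy)
    have h1 := Order.krullDim_le_of_strictMono f hf
    rw [Order.krullDim_WithTop, ← topologicalKrullDim_eq_krullDim_specializationOrder,
      ← topologicalKrullDim_eq_krullDim_specializationOrder, hT,
      topologicalKrullDim_projSpace] at h1
    exact not_add_one_le d h1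
  have hclosed : IsClosed (Set.range g) := hcl.isClosed_range
  intro y
  have h1 : y ∈ closure ({η} : Set ↥(CohB1.ProjSpace d k)) :=
    specializes_iff_mem_closure.mp (hη y)
  exact (hclosed.closure_subset_iff.mpr (Set.singleton_subset_iff.mpr hηmem)) h1

/-- **Projective Noether normalization** over an infinite field -/
theorem main [Infinite k] (X : Scheme.{u}) (n : ℕ) (ι : X ⟶ CohB1.ProjSpace n k)
    [IsClosedImmersion ι] (d : ℕ) (hd : topologicalKrullDim X = d) :
    ∃ π : X ⟶ CohB1.ProjSpace d k,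
      π ≫ CohB1.ProjSpace.toSpec d k = ι ≫ CohB1.ProjSpace.toSpec n k ∧
        IsFinite π ∧ Surjective π := by
  let ι' : X ⟶ Proj (CohB1.polyGrading n k) := ι
  haveI : IsClosedImmersion ι' := ‹IsClosedImmersion ι›
  let Z : Set (ProjectiveSpectrum (CohB1.polyGrading n k)) := Set.range ι'.base
  have hZ : IsClosed Z := ι.isClosedEmbedding.isClosed_range
  have hdimZ : topologicalKrullDim ↥Z = topologicalKrullDim X := by
    have e : X ≃ₜ ↥Z := ι.isClosedEmbedding.isEmbedding.toHomeomorph
    exact (IsHomeomorph.topologicalKrullDim_eq e e.isHomeomorph).symm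
  obtain ⟨h, hh, hmiss⟩ := exists_forms k n Z hZ d (by rw [hdimZ, hd])
  have hcov : ∀ x : X, ∃ j, ι'.base x ∈ FormsMap.V (CohB1.polyGrading n k) h j := by
    intro x
    obtain ⟨j, hj⟩ := hmiss (ι'.base x) ⟨x, rfl⟩
    exact ⟨j, hj⟩
  obtain ⟨r, hr, hpre⟩ := FormsMap.exists_map (CohB1.polyGrading n k) ι'
    (ι ≫ CohB1.ProjSpace.toSpec n k) h hh hcov
  have hfin : IsFinite r := by
    have hproper : IsProper r := by
      have h1 : IsProper (ι ≫ CohB1.ProjSpace.toSpec n k) := inferInstance
      have h2 : IsProper (r ≫ CohB1.ProjSpace.toSpec d k) := by rw [hr]; exact h1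
      exact IsProper.of_comp r (CohB1.ProjSpace.toSpec d k)
    have haff : IsAffineHom r := by
      refine isAffineHom_of_forall_exists_isAffineOpen r fun x => ?_
      obtain ⟨j, hj⟩ : ∃ j, x ∈ Groth.Agent.Lead.Coh.stdOpen d k j := by
        have : x ∈ ⨆ j, Groth.Agent.Lead.Coh.stdOpen d k j := by
          rw [Groth.Agent.Lead.Coh.iSup_stdOpen]; trivial
        exact Opens.mem_iSup.mp this
      refine ⟨_, hj, Groth.Agent.Lead.Coh.isAffineOpen_stdOpen d k j, ?_⟩
      rw [hpre]
      have haffV : IsAffineOpen (FormsMap.V (CohB1.polyGrading n k) h j) :=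
        Proj.isAffineOpen_basicOpen (CohB1.polyGrading n k) (h j) (hh j) one_pos
      exact haffV.preimage ι'
    exact (IsFinite.iff_isProper_and_isAffineHom).mpr ⟨hproper, haff⟩
  refine ⟨r, hr, hfin, ⟨?_⟩⟩
  exact surjective_of_dim k d hd r.base r.continuous r.isClosedMap
    (fun y => r.isDiscrete_preimage_singleton y)

end main

end Groth.Agent.H97.ProjNoether
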