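import Mathlib
import Groth.Prelude.Def_CohB1
import Groth.Agent.H97.FormsMap2
import Groth.Agent.H97.ProjNoether
import Groth.Agent.H18.PUP.Unique
import Groth.Agent.H18.PUP.CoreMod
import Groth.Agent.H19.ProjSec

/-!
# Linear projections pull `O(1)` back to `O(1)`

For a morphism `ι : Y ⟶ P^N_k` and linear forms `h_0, …, h_d` whose non-vanishing loci cover the
image of `ι`, the morphism `r : Y ⟶ P^d_k` defined by the forms satisfies `r^* O(1) ≅ ι^* O(1)`.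
-/

set_option autoImplicit false
universe u

open AlgebraicGeometry CategoryTheory CategoryTheory.Limits HomogeneousLocalization
  TopologicalSpace Opposite

namespace Groth.Agent.H97.ProjNoetherTwist

open Groth.Agent.H18 Groth.Agent.H18.PUP Groth.Agent.H97.FormsMap

section basis

variable {R A : Type u} [CommRing R] [CommRing A] [Algebra R A]
variable (𝒜 : ℕ → Submodule R A) [GradedAlgebra 𝒜]
variable {Y : Scheme.{u}} (ι : Y ⟶ Proj 𝒜)

/-- the functions `a / g` and `g / a` are inverse to each other on `D₊(g) ∩ D₊(a)` -/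
theorem isUnit_appLE_fracO {a g : A} (ha : a ∈ 𝒜 1) (hg : g ∈ 𝒜 1) (W : Y.Opens)
    (hWg : W ≤ ι ⁻¹ᵁ Proj.basicOpen 𝒜 g) (hWa : W ≤ ι ⁻¹ᵁ Proj.basicOpen 𝒜 a) :
    IsUnit ((ι.appLE (Proj.basicOpen 𝒜 g) W hWg).hom
      (fracO 𝒜 ha hg (Proj.basicOpen 𝒜 g) (fun _ hx => hx))) := by
  have hW2 : W ≤ ι ⁻¹ᵁ (Proj.basicOpen 𝒜 g ⊓ Proj.basicOpen 𝒜 a) := fun y hy => ⟨hWg hy, hWa hy⟩
  have h1 := ConcreteCategory.congr_hom
    (ι.map_appLE hW2 (homOfLE (inf_le_left :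
      Proj.basicOpen 𝒜 g ⊓ Proj.basicOpen 𝒜 a ≤ Proj.basicOpen 𝒜 g)).op)
    (fracO 𝒜 ha hg (Proj.basicOpen 𝒜 g) (fun _ hx => hx))
  rw [← h1]
  refine IsUnit.map (ι.appLE (Proj.basicOpen 𝒜 g ⊓ Proj.basicOpen 𝒜 a) W hW2).hom ?_
  refine IsUnit.of_mul_eq_one
    (fracO 𝒜 hg ha (Proj.basicOpen 𝒜 g ⊓ Proj.basicOpen 𝒜 a) (fun _ hx => hx.2)) ?_
  change Groth.Agent.H97.PFrac.frac 𝒜 ha hg (Proj.basicOpen 𝒜 g ⊓ Proj.basicOpen 𝒜 a)
      (fun _ hx => hx.1) *
    Groth.Agent.H97.PFrac.frac 𝒜 hg ha (Proj.basicOpen 𝒜 g ⊓ Proj.basicOpen 𝒜 a)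
      (fun _ hx => hx.2) = 1
  rw [Groth.Agent.H97.PFrac.frac_mul, ← Groth.Agent.H97.PFrac.frac_self 𝒜
    (SetLike.mul_mem_graded hg ha) (Proj.basicOpen 𝒜 g ⊓ Proj.basicOpen 𝒜 a)
    (fun x hx hmem => (x.isPrime.mem_or_mem hmem).elim hx.1 hx.2)]
  exact Groth.Agent.H97.PFrac.frac_eq_of_mul_eq 𝒜 _ _ _ _ _ _ _ (by ring)

/-- the pulled back section `ι^* a` on an open mapping into `D₊(g)` -/
theorem mres_psec_eq_smul {a g : A} (ha : a ∈ 𝒜 1) (hg : g ∈ 𝒜 1) (W : Y.Opens)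
    (hWg : W ≤ ι ⁻¹ᵁ Proj.basicOpen 𝒜 g) :
    mres ((Scheme.Modules.pullback ι).obj (Twist.twist 𝒜 1)) (le_top : W ≤ ⊤) (psec 𝒜 ι ha) =
      (ι.appLE (Proj.basicOpen 𝒜 g) W hWg).hom
        (fracO 𝒜 ha hg (Proj.basicOpen 𝒜 g) (fun _ hx => hx)) •
      mres ((Scheme.Modules.pullback ι).obj (Twist.twist 𝒜 1)) (le_top : W ≤ ⊤)
        (psec 𝒜 ι hg) := by
  have h1 := congrArg (mres ((Scheme.Modules.pullback ι).obj (Twist.twist 𝒜 1)) hWg)
    (psec_ratio 𝒜 ι ha hg)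
  rw [mres_mres, mres_smul, mres_mres] at h1
  rw [h1]
  congr 1

/-- if `ι^* g` is a basis of `ι^* O(1)` on `W₀`, then `ι^* a` is a basis on `W₀ ∩ ι⁻¹ D₊(a)` -/
theorem isBasisOn_psec_of_isBasisOn {a g : A} (ha : a ∈ 𝒜 1) (hg : g ∈ 𝒜 1) (W₀ : Y.Opens)
    (hW₀ : W₀ ≤ ι ⁻¹ᵁ Proj.basicOpen 𝒜 g)
    (hb : IsBasisOn ((Scheme.Modules.pullback ι).obj (Twist.twist 𝒜 1)) W₀
      (mres _ (le_top : W₀ ≤ ⊤) (psec 𝒜 ι hg))) :
    IsBasisOn ((Scheme.Modules.pullback ι).obj (Twist.twist 𝒜 1))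
      (W₀ ⊓ ι ⁻¹ᵁ Proj.basicOpen 𝒜 a)
      (mres _ (le_top : W₀ ⊓ ι ⁻¹ᵁ Proj.basicOpen 𝒜 a ≤ ⊤) (psec 𝒜 ι ha)) := by
  have hWg : W₀ ⊓ ι ⁻¹ᵁ Proj.basicOpen 𝒜 a ≤ ι ⁻¹ᵁ Proj.basicOpen 𝒜 g :=
    inf_le_left.trans hW₀
  rw [mres_psec_eq_smul 𝒜 ι ha hg _ hWg]
  have h1 := (hb.mono (inf_le_left : W₀ ⊓ ι ⁻¹ᵁ Proj.basicOpen 𝒜 a ≤ W₀)).unit_smul _
    (isUnit_appLE_fracO 𝒜 ι ha hg _ hWg inf_le_right)
  rwa [mres_mres] at h1

end basis

section charts

variable (k : Type u) [Field k] (N d : ℕ)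
variable {Y : Scheme.{u}} (ι : Y ⟶ Proj (CohB1.polyGrading N k))
  (q : Y ⟶ Spec (CommRingCat.of k))
variable (h : Fin (d + 1) → MvPolynomial (Fin (N + 1)) k)
  (hh : ∀ j, h j ∈ CohB1.polyGrading N k 1)

/-- the index set of the charts: opens inside `ι⁻¹ D₊(h j)` on which `ι^* h_j` is a basis -/
abbrev Idx : Type u :=
  {p : Fin (d + 1) × Y.Opens // p.2 ≤ FormsMap.W (CohB1.polyGrading N k) ι h p.1 ∧
    IsBasisOn ((Scheme.Modules.pullback ι).obj (Twist.twist (CohB1.polyGrading N k) 1)) p.2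
      (mres _ (le_top : p.2 ≤ ⊤) (psec (CohB1.polyGrading N k) ι (hh p.1)))}

/-- the chart attached to an index -/
noncomputable def chart (p : Idx k N d ι h hh) :
    Chart q ((Scheme.Modules.pullback ι).obj (Twist.twist (CohB1.polyGrading N k) 1))
      (fun j : Fin (d + 1) => (MvPolynomial.X j : MvPolynomial (Fin (d + 1)) k))
      (fun j => psec (CohB1.polyGrading N k) ι (hh j)) where
  W := p.1.2
  j := p.1.1
  F := (Y.presheaf.map (homOfLE p.2.1).op).hom.comp (E (CohB1.polyGrading N k) ι q h hh p.1.1)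
  basis := p.2.2
  F_b := by
    intro j'
    have h1 := mres_psec_eq_smul (CohB1.polyGrading N k) ι (hh j') (hh p.1.1) p.1.2 p.2.1
    rw [h1]
    congr 1
    change Y.presheaf.map (homOfLE p.2.1).op
      (E (CohB1.polyGrading N k) ι q h hh p.1.1 (MvPolynomial.X j')) = _
    rw [E_X]
    exact res_Fn (CohB1.polyGrading N k) ι h hh j' p.1.1 p.1.2 p.2.1
      (V (CohB1.polyGrading N k) h p.1.1) le_rfl p.2.1
  F_alg := by
    intro a
    change Y.presheaf.map (homOfLE p.2.1).op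
      (E (CohB1.polyGrading N k) ι q h hh p.1.1 (algebraMap k _ a)) = _
    rw [E_algebraMap, ← ConcreteCategory.comp_apply, ← Y.presheaf.map_comp]
    rfl

theorem X_mem_one (n : ℕ) (i : Fin (n + 1)) :
    (MvPolynomial.X i : MvPolynomial (Fin (n + 1)) k) ∈ CohB1.polyGrading n k 1 :=
  (MvPolynomial.mem_homogeneousSubmodule 1 _).mpr (MvPolynomial.isHomogeneous_X k i)

include hh in
/-- near every point of `ι⁻¹ D₊(h j)` the section `ι^* h_j` is a basis of `ι^* O(1)` -/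
theorem exists_idx (x : Y) (j : Fin (d + 1))
    (hj : ι.base x ∈ V (CohB1.polyGrading N k) h j) :
    ∃ p : Idx k N d ι h hh, x ∈ p.1.2 ∧ p.1.1 = j := by
  let ι₀ : Y ⟶ CohB1.ProjSpace N k := ι
  have hL : PicF.IsInvertible
      ((Scheme.Modules.pullback ι).obj (Twist.twist (CohB1.polyGrading N k) 1)) :=
    Groth.Agent.H19.ProjSec.isInvertible_pull_twistOne N ι₀
  have hgen : ProjUP.GeneratedBy
      ((Scheme.Modules.pullback ι).obj (Twist.twist (CohB1.polyGrading N k) 1))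
      (fun i : Fin (N + 1) => psec (CohB1.polyGrading N k) ι (X_mem_one k N i)) :=
    Groth.Agent.H19.ProjSec.generatedBy_pull_coord N ι₀
  obtain ⟨i, W₀, hxW₀, hbW₀⟩ := exists_basis_nhd _ hL _ hgen x
  have hprojN : ∀ y : Proj (CohB1.polyGrading N k), ∃ b : MvPolynomial (Fin (N + 1)) k,
      b ∈ CohB1.polyGrading N k 1 ∧ y ∈ Proj.basicOpen (CohB1.polyGrading N k) b := fun y =>
    let ⟨i, hi⟩ := Groth.Agent.H19.ProjSec.exists_coord_mem N y
    ⟨MvPolynomial.X i, X_mem_one k N i, hi⟩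
  have hW₀ : W₀ ≤ ι ⁻¹ᵁ Proj.basicOpen (CohB1.polyGrading N k)
      (MvPolynomial.X i : MvPolynomial (Fin (N + 1)) k) :=
    le_preimage_of_isBasisOn (CohB1.polyGrading N k) ι (X_mem_one k N i) W₀ hbW₀ hprojN
  have hb' := isBasisOn_psec_of_isBasisOn (CohB1.polyGrading N k) ι (hh j) (X_mem_one k N i)
    W₀ hW₀ hbW₀
  exact ⟨⟨(j, W₀ ⊓ ι ⁻¹ᵁ Proj.basicOpen (CohB1.polyGrading N k) (h j)), inf_le_right, hb'⟩,
    ⟨hxW₀, hj⟩, rfl⟩

include hh in
/-- the morphism defined by linear forms pulls `O(1)` back to `ι^* O(1)` -/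
theorem exists_map_iso (hcov : ∀ x : Y, ∃ j, ι.base x ∈ V (CohB1.polyGrading N k) h j) :
    ∃ r : Y ⟶ Proj (CohB1.polyGrading d k),
      r ≫ CohB1.ProjSpace.toSpec d k = q ∧
      (∀ j, r ⁻¹ᵁ Proj.basicOpen (CohB1.polyGrading d k)
          (MvPolynomial.X j : MvPolynomial (Fin (d + 1)) k) =
        W (CohB1.polyGrading N k) ι h j) ∧
      Nonempty ((Scheme.Modules.pullback r).obj (Twist.twist (CohB1.polyGrading d k) 1) ≅
        (Scheme.Modules.pullback ι).obj (Twist.twist (CohB1.polyGrading N k) 1)) := by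
  obtain ⟨r, hr, hq, hpre⟩ := exists_map' (CohB1.polyGrading N k) ι q h hh hcov
  refine ⟨r, hq, hpre, ?_⟩
  have hcovI : ∀ x : Y, ∃ p : Idx k N d ι h hh, x ∈ (chart k N d ι q h hh p).W := by
    intro x
    obtain ⟨j, hj⟩ := hcov x
    obtain ⟨p, hp, -⟩ := exists_idx k N d ι h hh x j hj
    exact ⟨p, hp⟩
  have hproj : ∀ y : Proj (CohB1.polyGrading d k), ∃ j : Fin (d + 1),
      y ∈ Proj.basicOpen (CohB1.polyGrading d k)
        (MvPolynomial.X j : MvPolynomial (Fin (d + 1)) k) := fun y =>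
    Groth.Agent.H19.ProjSec.exists_coord_mem d y
  have hrI : ∀ p : Idx k N d ι h hh, (chart k N d ι q h hh p).W.ι ≫ r =
      (chart k N d ι q h hh p).map (CohB1.polyGrading d k) (X_mem_one k d) := by
    intro p
    change (p.1.2).ι ≫ r = localMap (CohB1.polyGrading d k) p.1.2 (X_mem_one k d p.1.1) one_pos
      ((Y.presheaf.map (homOfLE p.2.1).op).hom.comp (E (CohB1.polyGrading N k) ι q h hh p.1.1))
      ((chart k N d ι q h hh p).isUnit_F)
    rw [← Scheme.homOfLE_ι Y p.2.1, Category.assoc, hr p.1.1, homOfLE_localMap]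
  exact ⟨tauIso (chart k N d ι q h hh) (X_mem_one k d) hcovI hproj r hrI⟩

end charts

section main

variable (k : Type u) [Field k]

/-- **Projective Noether normalization with `O(1)`**: a closed subscheme `Y` of dimension `d` of
`P^N_k` (`k` infinite) admits a finite surjective `π : Y ⟶ P^d_k` over `k` with
`π^* O(1) ≅ O_Y(1)`. -/
theorem main [Infinite k] (N d : ℕ) (Y : Scheme.{u}) (ι : Y ⟶ CohB1.ProjSpace N k)
    [IsClosedImmersion ι] (hdim : topologicalKrullDim ↥Y = (d : WithBot ℕ∞)) :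
    ∃ π : Y ⟶ CohB1.ProjSpace d k,
      π ≫ CohB1.ProjSpace.toSpec d k = ι ≫ CohB1.ProjSpace.toSpec N k ∧ IsFinite π ∧
        Function.Surjective π.base ∧
        Nonempty ((Scheme.Modules.pullback π).obj (Twist.twistProjSpace d k 1) ≅
          (Scheme.Modules.pullback ι).obj (Twist.twistProjSpace N k 1)) := by
  let ι' : Y ⟶ Proj (CohB1.polyGrading N k) := ι
  haveI : IsClosedImmersion ι' := ‹IsClosedImmersion ι›
  let Z : Set (ProjectiveSpectrum (CohB1.polyGrading N k)) := Set.range ι'.base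
  have hZ : IsClosed Z := ι.isClosedEmbedding.isClosed_range
  have hdimZ : topologicalKrullDim ↥Z = topologicalKrullDim Y := by
    have e : Y ≃ₜ ↥Z := ι.isClosedEmbedding.isEmbedding.toHomeomorph
    exact (IsHomeomorph.topologicalKrullDim_eq e e.isHomeomorph).symm
  obtain ⟨h, hh, hmiss⟩ := Groth.Agent.H97.ProjNoether.exists_forms k N Z hZ d
    (by rw [hdimZ, hdim])
  have hcov : ∀ x : Y, ∃ j, ι'.base x ∈ FormsMap.V (CohB1.polyGrading N k) h j := by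
    intro x
    obtain ⟨j, hj⟩ := hmiss (ι'.base x) ⟨x, rfl⟩
    exact ⟨j, hj⟩
  obtain ⟨r, hr, hpre, ⟨τ⟩⟩ := exists_map_iso k N d ι' (ι ≫ CohB1.ProjSpace.toSpec N k) h hh hcov
  let r' : Y ⟶ CohB1.ProjSpace d k := r
  have hfin : IsFinite r' := by
    have hproper : IsProper r' := by
      have h1 : IsProper (ι ≫ CohB1.ProjSpace.toSpec N k) := inferInstance
      have hr' : r' ≫ CohB1.ProjSpace.toSpec d k = ι ≫ CohB1.ProjSpace.toSpec N k := hr
      have h2 : IsProper (r' ≫ CohB1.ProjSpace.toSpec d k) := by rw [hr']; exact h1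
      exact IsProper.of_comp r' (CohB1.ProjSpace.toSpec d k)
    have haff : IsAffineHom r' := by
      refine isAffineHom_of_forall_exists_isAffineOpen r' fun x => ?_
      obtain ⟨j, hj⟩ := Groth.Agent.H19.ProjSec.exists_coord_mem d x
      refine ⟨_, hj, Proj.isAffineOpen_basicOpen (CohB1.polyGrading d k) _ (X_mem_one k d j)
        one_pos, ?_⟩
      have h3 : r' ⁻¹ᵁ Proj.basicOpen (CohB1.polyGrading d k)
          (MvPolynomial.X j : MvPolynomial (Fin (d + 1)) k) =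
          FormsMap.W (CohB1.polyGrading N k) ι' h j := hpre j
      rw [h3]
      have haffV : IsAffineOpen (FormsMap.V (CohB1.polyGrading N k) h j) :=
        Proj.isAffineOpen_basicOpen (CohB1.polyGrading N k) (h j) (hh j) one_pos
      exact haffV.preimage ι'
    exact (IsFinite.iff_isProper_and_isAffineHom).mpr ⟨hproper, haff⟩
  refine ⟨r', hr, hfin, ?_, ⟨τ⟩⟩
  exact Groth.Agent.H97.ProjNoether.surjective_of_dim k d hdim r'.base r'.continuous
    r'.isClosedMap (fun y => r'.isDiscrete_preimage_singleton y)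

end main

end Groth.Agent.H97.ProjNoetherTwist
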