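import Mathlib
import Groth.Agent.H97.PurityFlat

/-!
# Purity for finite flat algebras over a Noetherian ring (global algebraic version)
-/

namespace Groth.Agent.H97.PurityGlobal

universe u

variable (R B : Type u) [CommRing R] [CommRing B] [Algebra R B]

/-- One induction step: if `B` is étale over `R` at all primes lying over primes strictly
contained in `p`, and `dim R_p ≥ 2`, then `B` is étale at every prime over `p`. -/
theorem step [IsNoetherianRing R] [Module.Finite R B] [Module.Flat R B]
    (p : Ideal R) [hp : p.IsPrime]
    (hdim : (2 : WithBot ℕ∞) ≤ ringKrullDim (Localization.AtPrime p))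
    (hlt : ∀ q : PrimeSpectrum B, q.asIdeal.comap (algebraMap R B) < p →
      Algebra.IsEtaleAt R q.asIdeal)
    (q0 : Ideal B) [hq0p : q0.IsPrime] (hq0 : q0.comap (algebraMap R B) = p) :
    Algebra.IsEtaleAt R q0 := by
  let A := Localization.AtPrime p
  let M : Submonoid B := Algebra.algebraMapSubmonoid B p.primeCompl
  let B' := Localization M
  -- claim 1
  have h1 : ∀ q' : PrimeSpectrum B',
      q'.asIdeal.comap (algebraMap A B') ≠ IsLocalRing.maximalIdeal A →
      Algebra.IsEtaleAt A q'.asIdeal := by
    intro q' hq'
    let q : Ideal B := q'.asIdeal.comap (algebraMap B B')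
    have hqprime : q.IsPrime := inferInstance
    have hq : q.comap (algebraMap R B) < p := by
      have e1 : q.comap (algebraMap R B) =
          (q'.asIdeal.comap (algebraMap A B')).comap (algebraMap R A) := by
        rw [Ideal.comap_comap, Ideal.comap_comap, ← IsScalarTower.algebraMap_eq,
          ← IsScalarTower.algebraMap_eq]
      rw [e1]
      have hP' : (q'.asIdeal.comap (algebraMap A B')).IsPrime := inferInstance
      refine lt_of_le_of_ne ?_ ?_
      · calc (q'.asIdeal.comap (algebraMap A B')).comap (algebraMap R A)
            ≤ (IsLocalRing.maximalIdeal A).comap (algebraMap R A) :=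
              Ideal.comap_mono (IsLocalRing.le_maximalIdeal hP'.ne_top)
          _ = p := Localization.AtPrime.under_maximalIdeal
      · intro heq
        apply hq'
        have h2 : (IsLocalRing.maximalIdeal A).comap (algebraMap R A) = p :=
          Localization.AtPrime.under_maximalIdeal
        have e3 := IsLocalization.map_under p.primeCompl A
          (q'.asIdeal.comap (algebraMap A B'))
        have e4 := IsLocalization.map_under p.primeCompl A (IsLocalRing.maximalIdeal A)
        rw [← e3, ← e4]
        congr 1
        exact heq.trans h2.symm
    have hqe : Algebra.FormallyEtale R (Localization.AtPrime q) := hlt ⟨q, hqprime⟩ hq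
    have hloc : IsLocalization.AtPrime (Localization.AtPrime q'.asIdeal) q :=
      IsLocalization.isLocalization_isLocalization_atPrime_isLocalization M _ q'.asIdeal
    have hRC : Algebra.FormallyEtale R (Localization.AtPrime q'.asIdeal) :=
      Algebra.FormallyEtale.of_equiv ((IsLocalization.algEquiv q.primeCompl
        (Localization.AtPrime q) (Localization.AtPrime q'.asIdeal)).restrictScalars R)
    exact Algebra.FormallyEtale.localization_base p.primeCompl
  have h2 : Algebra.Etale A B' := PurityFlat.etale_of_punctured A B' hdim h1
  -- claim 3
  let D := Localization.AtPrime q0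
  have hle : M ≤ q0.primeCompl := by
    rintro _ ⟨r, hr, rfl⟩
    intro hmem
    apply hr
    rw [← hq0]
    exact hmem
  let algB'D : Algebra B' D := IsLocalization.localizationAlgebraOfSubmonoidLe B' D M q0.primeCompl hle
  have towBB'D : IsScalarTower B B' D :=
    IsLocalization.localization_isScalarTower_of_submonoid_le B' D M q0.primeCompl hle
  have : IsLocalization (q0.primeCompl.map (algebraMap B B')) D :=
    IsLocalization.isLocalization_of_submonoid_le B' D M q0.primeCompl hle
  have feB'D : Algebra.FormallyEtale B' D :=
    Algebra.FormallyEtale.of_isLocalization (q0.primeCompl.map (algebraMap B B'))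
  let algAD : Algebra A D := ((algebraMap B' D).comp (algebraMap A B')).toAlgebra
  have towAB'D : IsScalarTower A B' D := IsScalarTower.of_algebraMap_eq' rfl
  have towRAD : IsScalarTower R A D := by
    refine IsScalarTower.of_algebraMap_eq' ?_
    show algebraMap R D = ((algebraMap B' D).comp (algebraMap A B')).comp (algebraMap R A)
    rw [RingHom.comp_assoc, ← IsScalarTower.algebraMap_eq R A B',
      IsScalarTower.algebraMap_eq R B B', ← RingHom.comp_assoc,
      ← IsScalarTower.algebraMap_eq B B' D, ← IsScalarTower.algebraMap_eq R B D]
  have : Algebra.FormallyEtale R A := Algebra.FormallyEtale.of_isLocalization p.primeCompl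
  have : Algebra.FormallyEtale A B' := h2.formallyEtale
  have : Algebra.FormallyEtale A D := Algebra.FormallyEtale.comp A B' D
  exact Algebra.FormallyEtale.comp R A D

/-- Global purity: a finite flat algebra over a Noetherian ring which is étale over a subset `U`
of the spectrum whose complement consists of primes of height at least two is étale. -/
theorem main [IsNoetherianRing R] [Module.Finite R B] [Module.Flat R B]
    (U : Set (PrimeSpectrum R))
    (hU : ∀ p : PrimeSpectrum R, p ∉ U →
      (2 : WithBot ℕ∞) ≤ ringKrullDim (Localization.AtPrime p.asIdeal))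
    (het : ∀ q : PrimeSpectrum B, q.comap (algebraMap R B) ∈ U →
      Algebra.IsEtaleAt R q.asIdeal) :
    Algebra.Etale R B := by
  have key : ∀ n : ℕ, ∀ q : PrimeSpectrum B,
      (q.asIdeal.comap (algebraMap R B)).height = n → Algebra.IsEtaleAt R q.asIdeal := by
    intro n
    induction n using Nat.strong_induction_on with
    | _ n ih =>
      intro q hqn
      by_cases hqU : q.comap (algebraMap R B) ∈ U
      · exact het q hqU
      · have hd := hU _ hqU
        refine step R B (q.asIdeal.comap (algebraMap R B)) hd ?_ q.asIdeal rfl
        intro q1 hq1
        have hlt := Ideal.height_strict_mono_of_isPrime hq1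
        rw [hqn] at hlt
        obtain ⟨m, hm⟩ := ENat.ne_top_iff_exists.mp (ne_top_of_lt hlt)
        rw [← hm] at hlt
        exact ih m (by exact_mod_cast hlt) q1 hm.symm
  have hfp : Algebra.FinitePresentation R B :=
    Algebra.FinitePresentation.of_finiteType.mp inferInstance
  rw [← Algebra.etaleLocus_eq_univ_iff_etale]
  ext q
  simp only [Algebra.mem_etaleLocus_iff, Set.mem_univ, iff_true]
  obtain ⟨m, hm⟩ := ENat.ne_top_iff_exists.mp
    (Ideal.height_ne_top (I := q.asIdeal.comap (algebraMap R B)) (Ideal.IsPrime.ne_top inferInstance))
  exact key m q hm.symm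

end Groth.Agent.H97.PurityGlobal
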