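import Mathlib
import Groth.Agent.H97.PurityGlobal

/-!
# Purity for finite flat morphisms of schemes
-/

namespace Groth.Agent.H97.PurityScheme

universe u

open AlgebraicGeometry CategoryTheory

theorem formallyEtale_of_ringEquiv {R S : Type u} [CommRing R] [CommRing S] (e : R ≃+* S) :
    e.toRingHom.FormallyEtale := by
  algebraize [e.toRingHom]
  exact Algebra.FormallyEtale.of_equiv
    (AlgEquiv.ofRingEquiv (f := e) (fun x => rfl) : R ≃ₐ[R] S)

theorem formallyEtale_respectsIso :
    RingHom.RespectsIso (fun {R S : Type u} [CommRing R] [CommRing S] (f : R →+* S) =>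
      f.FormallyEtale) :=
  ⟨fun _ e hf => hf.comp (formallyEtale_of_ringEquiv e),
    fun _ e hf => (formallyEtale_of_ringEquiv e).comp hf⟩

/-- The case of a morphism of affine spectra. -/
theorem spec_case {R S : CommRingCat.{u}} [IsNoetherianRing R] (φ : R ⟶ S)
    (hfin : φ.hom.Finite) (hflat : φ.hom.Flat) (U : (Spec R).Opens)
    (hU : ∀ y : Spec R, y ∉ U → (2 : WithBot ℕ∞) ≤ ringKrullDim ((Spec R).presheaf.stalk y))
    (hst : ∀ x : Spec S, (Spec.map φ) x ∈ U → ((Spec.map φ).stalkMap x).hom.FormallyEtale) :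
    φ.hom.Etale := by
  algebraize [φ.hom]
  have : Algebra.Etale R S := by
    refine PurityGlobal.main R S (show Set (PrimeSpectrum R) from (U : Set (Spec R))) ?_ ?_
    · intro p hp
      have h1 := hU p hp
      have e : (Spec R).presheaf.stalk p ≃+* Localization.AtPrime p.asIdeal :=
        (Spec.stalkIso R p).commRingCatIsoToRingEquiv
      rwa [ringKrullDim_eq_of_ringEquiv e] at h1
    · intro q hq
      have h1 := hst q hq
      rw [formallyEtale_respectsIso.arrow_mk_iso_iff (Scheme.arrowStalkMapSpecIso φ q)] at h1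
      have h2 : (algebraMap R (Localization.AtPrime (q.comap φ.hom).asIdeal)).FormallyEtale :=
        RingHom.formallyEtale_algebraMap.mpr
          (Algebra.FormallyEtale.of_isLocalization (q.comap φ.hom).asIdeal.primeCompl)
      have h3 := h2.comp h1
      have e3 : (Localization.localRingHom (q.comap φ.hom).asIdeal q.asIdeal φ.hom rfl).comp
          (algebraMap R (Localization.AtPrime (q.comap φ.hom).asIdeal)) =
          algebraMap R (Localization.AtPrime q.asIdeal) := by
        ext x
        simp only [RingHom.comp_apply, Localization.localRingHom_to_map]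
        rw [IsScalarTower.algebraMap_apply R S (Localization.AtPrime q.asIdeal)]
        rfl
      simp only [CommRingCat.hom_ofHom] at h3
      rw [e3] at h3
      exact RingHom.formallyEtale_algebraMap.mp h3
  exact RingHom.etale_algebraMap.mpr this

set_option backward.isDefEq.respectTransparency false in
/-- The case of affine schemes. -/
theorem affine_case {X Y : Scheme.{u}} [IsAffine X] [IsAffine Y] [IsLocallyNoetherian Y]
    (f : X ⟶ Y) [IsFinite f] [Flat f] (U : Y.Opens)
    (hU : ∀ y : Y, y ∉ U → (2 : WithBot ℕ∞) ≤ ringKrullDim (Y.presheaf.stalk y))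
    (hst : ∀ x : X, f x ∈ U → (f.stalkMap x).hom.FormallyEtale) : Etale f := by
  obtain ⟨φ, hφ⟩ := Spec.map_surjective (X.isoSpec.inv ≫ f ≫ Y.isoSpec.hom)
  have hgf : Etale f ↔ Etale (X.isoSpec.inv ≫ f ≫ Y.isoSpec.hom) := by
    rw [MorphismProperty.cancel_left_of_respectsIso @Etale,
      MorphismProperty.cancel_right_of_respectsIso @Etale]
  rw [hgf, ← hφ, HasRingHomProperty.Spec_iff (P := @Etale)]
  have : IsNoetherianRing Γ(Y, ⊤) :=
    IsLocallyNoetherian.component_noetherian ⟨⊤, isAffineOpen_top Y⟩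
  have hfin : IsFinite (X.isoSpec.inv ≫ f ≫ Y.isoSpec.hom) := inferInstance
  have hflat : Flat (X.isoSpec.inv ≫ f ≫ Y.isoSpec.hom) := inferInstance
  refine spec_case φ ?_ ?_ (Y.isoSpec.inv ⁻¹ᵁ U) ?_ ?_
  · rw [← IsFinite.SpecMap_iff, hφ]; exact hfin
  · rw [← Flat.SpecMap_iff, hφ]; exact hflat
  · intro y hy
    have h1 := hU (Y.isoSpec.inv y) hy
    have e : Y.presheaf.stalk (Y.isoSpec.inv y) ≃+* (Spec Γ(Y, ⊤)).presheaf.stalk y :=
      (asIso (Y.isoSpec.inv.stalkMap y)).commRingCatIsoToRingEquiv
    rwa [ringKrullDim_eq_of_ringEquiv e] at h1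
  · intro x hx
    rw [hφ] at hx ⊢
    have hx' : f (X.isoSpec.inv x) ∈ U := by
      have : Y.isoSpec.inv ((X.isoSpec.inv ≫ f ≫ Y.isoSpec.hom) x) = f (X.isoSpec.inv x) := by
        simp
      rw [← this]
      exact hx
    have h1 := hst _ hx'
    rw [Scheme.Hom.stalkMap_comp, Scheme.Hom.stalkMap_comp, CommRingCat.hom_comp,
      formallyEtale_respectsIso.cancel_right_isIso, CommRingCat.hom_comp,
      formallyEtale_respectsIso.cancel_left_isIso]
    exact h1

/-- Purity for finite flat morphisms, stalkwise formulation. -/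
theorem general {X Y : Scheme.{u}} [IsLocallyNoetherian Y] (f : X ⟶ Y) [IsFinite f] [Flat f]
    (U : Y.Opens)
    (hU : ∀ y : Y, y ∉ U → (2 : WithBot ℕ∞) ≤ ringKrullDim (Y.presheaf.stalk y))
    (hst : ∀ x : X, f x ∈ U → (f.stalkMap x).hom.FormallyEtale) : Etale f := by
  rw [IsZariskiLocalAtTarget.iff_of_iSup_eq_top (P := @Etale) _ (iSup_affineOpens_eq_top _)]
  intro V
  have hV : IsAffine V.1 := V.2
  have hV' : IsAffine (f ⁻¹ᵁ V.1) := V.2.preimage f
  refine affine_case (f ∣_ V.1) (V.1.ι ⁻¹ᵁ U) ?_ ?_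
  · intro y hy
    have h1 := hU y.1 hy
    have e : Y.presheaf.stalk y.1 ≃+* V.1.toScheme.presheaf.stalk y :=
      (V.1.stalkIso y).symm.commRingCatIsoToRingEquiv
    rwa [ringKrullDim_eq_of_ringEquiv e] at h1
  · intro x hx
    rw [formallyEtale_respectsIso.arrow_mk_iso_iff (morphismRestrictStalkMap f V.1 x)]
    apply hst
    have : ((f ∣_ V.1) x).1 = f x.1 := morphismRestrict_base_coe f V.1 x
    rw [← this]
    exact hx

theorem formallyEtale_localRingHom {R S : Type u} [CommRing R] [CommRing S] (φ : R →+* S)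
    (hφ : φ.Etale) (J : Ideal S) [J.IsPrime] :
    (Localization.localRingHom (J.comap φ) J φ rfl).FormallyEtale := by
  algebraize [φ]
  have : Algebra.Etale R S := RingHom.etale_algebraMap.mp hφ
  show @Algebra.FormallyEtale _ _ _ _ (Localization.localRingHom (J.comap φ) J φ rfl).toAlgebra
  let _ := (Localization.localRingHom (J.comap φ) J φ rfl).toAlgebra
  have : IsScalarTower R (Localization.AtPrime (J.comap φ)) (Localization.AtPrime J) := by
    refine IsScalarTower.of_algebraMap_eq' ?_
    ext x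
    simp only [RingHom.comp_apply]
    rw [RingHom.algebraMap_toAlgebra, Localization.localRingHom_to_map,
      IsScalarTower.algebraMap_apply R S (Localization.AtPrime J)]
    rfl
  exact Algebra.FormallyEtale.localization_base (J.comap φ).primeCompl

/-- **Purity of the branch locus for finite flat morphisms.** -/
theorem main {X Y : Scheme.{u}} [IsLocallyNoetherian Y]
    (f : X ⟶ Y) [IsFinite f] [Flat f] (U : Y.Opens)
    (hU : ∀ y : Y, y ∉ U → (2 : WithBot ℕ∞) ≤ ringKrullDim (Y.presheaf.stalk y))
    [hE : Etale (f ∣_ U)] : Etale f := by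
  refine general f U hU ?_
  intro x hx
  have h1 := HasRingHomProperty.stalkMap_of_respectsIso (P := @Etale)
    (Q' := fun {R S : Type u} [CommRing R] [CommRing S] (f : R →+* S) => f.FormallyEtale)
    formallyEtale_respectsIso
    (fun φ hφ J hJ => formallyEtale_localRingHom φ hφ J) hE ⟨x, hx⟩
  rwa [formallyEtale_respectsIso.arrow_mk_iso_iff (morphismRestrictStalkMap f U ⟨x, hx⟩)] at h1

end Groth.Agent.H97.PurityScheme
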