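import Mathlib
import Groth.Prelude.Def_W4c5nonratstablectREq
import Groth.Agent.H97.REqAffine

/-!
# Retract rational schemes over an infinite field are almost R-trivial
-/

set_option autoImplicit false
universe u
open CategoryTheory AlgebraicGeometry

namespace Groth.Agent.H97.REqRetract

variable (k : Type u) [Field k] (K : Type u) [Field K] [Algebra k K]

/-- a `K`-point of a nonempty open of affine space over an infinite field -/
theorem exists_pt_affine [Infinite k] (n : ℕ)
    (V : (Spec (CommRingCat.of (MvPolynomial (Fin n) k))).Opens)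
    (hV : (V : Set (Spec (CommRingCat.of (MvPolynomial (Fin n) k)))).Nonempty) :
    Nonempty (REq.Pts
      (V.ι ≫ Spec.map (CommRingCat.ofHom (algebraMap k (MvPolynomial (Fin n) k)))) K) := by
  obtain ⟨x, hx⟩ := hV
  obtain ⟨_, ⟨g, rfl⟩, hxg, hgV⟩ :=
    (PrimeSpectrum.isTopologicalBasis_basic_opens
      (R := MvPolynomial (Fin n) k)).exists_subset_of_mem_open hx V.isOpen
  have hg0 : g ≠ 0 := by
    rintro rfl
    have h1 : (0 : MvPolynomial (Fin n) k) ∉ (show PrimeSpectrum (MvPolynomial (Fin n) k) from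
      x).asIdeal := hxg
    exact h1 (Ideal.zero_mem _)
  obtain ⟨c, hc⟩ : ∃ c : Fin n → k, MvPolynomial.eval c g ≠ 0 := by
    by_contra hcon
    push Not at hcon
    exact hg0 (MvPolynomial.funext (fun c => by rw [hcon c, map_zero]))
  have hφg : MvPolynomial.eval₂Hom (algebraMap k K) (algebraMap k K ∘ c) g ≠ 0 := by
    rw [MvPolynomial.coe_eval₂Hom, ← MvPolynomial.eval₂_comp]
    exact (map_ne_zero _).mpr hc
  have hr : Set.range (Spec.map (CommRingCat.ofHom
      (MvPolynomial.eval₂Hom (algebraMap k K) (algebraMap k K ∘ c)))).base ⊆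
      Set.range V.ι.base := by
    rw [Scheme.Opens.range_ι]
    rintro _ ⟨y, rfl⟩
    apply hgV
    change MvPolynomial.eval₂Hom (algebraMap k K) (algebraMap k K ∘ c) g ∉ y.asIdeal
    intro hmem
    exact y.2.ne_top (Ideal.eq_top_of_isUnit_mem _ hmem (IsUnit.mk0 _ hφg))
  refine ⟨⟨IsOpenImmersion.lift V.ι _ hr, ?_⟩⟩
  rw [IsOpenImmersion.lift_fac_assoc, ← Spec.map_comp, ← CommRingCat.ofHom_comp]
  congr 2
  exact MvPolynomial.eval₂Hom_comp_C _ _

theorem almostRTrivial [Infinite k] {X : Scheme.{u}} (f : X ⟶ Spec (CommRingCat.of k))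
    [IsIntegral X] (hX : REq.IsRetractRational f) : REq.IsAlmostRTrivial f := by
  obtain ⟨U, n, V, a, b, hU, hab, ha, hb⟩ := hX
  refine ⟨U, U.isOpen.dense hU, fun K _ _ => ⟨?_, ?_⟩⟩
  · have hV : (V : Set (Spec (CommRingCat.of (MvPolynomial (Fin n) k)))).Nonempty := by
      obtain ⟨x, hx⟩ := hU
      exact ⟨(a.base ⟨x, hx⟩).1, (a.base ⟨x, hx⟩).2⟩
    obtain ⟨P⟩ := exists_pt_affine k K n V hV
    refine ⟨⟨P.1 ≫ b ≫ U.ι, ?_⟩, ?_⟩
    · rw [Category.assoc, Category.assoc, hb]
      exact P.2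
    · rintro _ ⟨y, rfl⟩
      exact ((P.1 ≫ b).base y).2
  · intro A B hA hB
    have hrA : Set.range A.1.base ⊆ Set.range U.ι.base := by
      rw [Scheme.Opens.range_ι]
      exact hA
    have hrB : Set.range B.1.base ⊆ Set.range U.ι.base := by
      rw [Scheme.Opens.range_ι]
      exact hB
    have hlink : REq.ElemLink (U.ι ≫ f) K
        ⟨IsOpenImmersion.lift U.ι A.1 hrA, by rw [IsOpenImmersion.lift_fac_assoc]; exact A.2⟩
        ⟨IsOpenImmersion.lift U.ι B.1 hrB, by rw [IsOpenImmersion.lift_fac_assoc]; exact B.2⟩ :=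
      REqAffine.elemLink_of_retract k K (U.ι ≫ f) _ a b hab ha hb _ _
        (REqAffine.main k K n V _ _)
    obtain ⟨W, h, a', b', h1, h2, h3, h4, h5⟩ := hlink
    refine Relation.EqvGen.rel _ _ ⟨W, h ≫ U.ι, a', b', ?_, h2, h3, ?_, ?_⟩
    · rw [Category.assoc]
      exact h1
    · rw [← Category.assoc, h4]
      exact IsOpenImmersion.lift_fac _ _ _
    · rw [← Category.assoc, h5]
      exact IsOpenImmersion.lift_fac _ _ _

end Groth.Agent.H97.REqRetract
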