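import Mathlib
import Groth.Prelude.Def_W4c5nonratstablectREq
import Groth.Agent.H97.ProjSpaceOverIso

/-!
# R-equivalence cannot cross a closed cover without a rational point in the intersection
-/

set_option autoImplicit false
universe u
open CategoryTheory AlgebraicGeometry

namespace Groth.Agent.H97.REquivSep

variable (k : Type u) [Field k] (Y : Scheme.{u}) (g : Y ⟶ Spec (CommRingCat.of k))
  (K : Type u) [Field K] [Algebra k K]

theorem preirreducible_opens (U : (REq.P1K K).Opens) :
    IsPreirreducible (Set.univ : Set ↥(U : Scheme.{u})) := by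
  have h : IsPreirreducible (Set.univ : Set ↥(REq.P1K K)) :=
    (ProjChart.irreducibleSpace_projSpaceOver K 1).toPreirreducibleSpace.isPreirreducible_univ
  have := h.preimage (f := U.ι) U.ι.isOpenEmbedding
  simpa using this

theorem elemLink_imp (V W : Set Y) (hV : IsClosed V) (hW : IsClosed W) (hVW : V ∪ W = Set.univ)
    (hT : ∀ z : REq.Pts g K, ¬ (Set.range z.1.base ⊆ V ∩ W))
    (A B : REq.Pts g K) (hAB : REq.ElemLink g K A B) (hA : Set.range A.1.base ⊆ V) :
    Set.range B.1.base ⊆ V := by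
  obtain ⟨U, h, a, b, -, -, -, ha, hb⟩ := hAB
  have hirr := preirreducible_opens K U
  rw [isPreirreducible_iff_isClosed_union_isClosed] at hirr
  have hcov : (Set.univ : Set ↥(U : Scheme.{u})) ⊆ h ⁻¹' V ∪ h ⁻¹' W := by
    intro x _
    rw [← Set.preimage_union, hVW]
    trivial
  rcases hirr _ _ (hV.preimage h.continuous) (hW.preimage h.continuous) hcov with h1 | h2
  · rintro _ ⟨y, rfl⟩
    rw [← hb]
    exact h1 (Set.mem_univ (b y))
  · exfalso
    apply hT A
    rintro _ ⟨y, rfl⟩
    refine ⟨hA ⟨y, rfl⟩, ?_⟩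
    rw [← ha]
    exact h2 (Set.mem_univ (a y))

theorem elemLink_symm (A B : REq.Pts g K) (hAB : REq.ElemLink g K A B) :
    REq.ElemLink g K B A := by
  obtain ⟨U, h, a, b, h1, h2, h3, ha, hb⟩ := hAB
  exact ⟨U, h, b, a, h1, h3, h2, hb, ha⟩

theorem main (V W : Set Y) (hV : IsClosed V) (hW : IsClosed W) (hVW : V ∪ W = Set.univ)
    (hT : ∀ z : REq.Pts g K, ¬ (Set.range z.1.base ⊆ V ∩ W))
    (p q : REq.Pts g K) (hp : Set.range p.1.base ⊆ V) (hq : Set.range q.1.base ⊆ W) :
    ¬ REq.REquiv g K p q := by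
  intro hpq
  have key : ∀ A B : REq.Pts g K, REq.REquiv g K A B →
      (Set.range A.1.base ⊆ V ↔ Set.range B.1.base ⊆ V) := by
    intro A B hAB
    induction hAB with
    | rel A B h =>
      exact ⟨elemLink_imp k Y g K V W hV hW hVW hT A B h,
        elemLink_imp k Y g K V W hV hW hVW hT B A (elemLink_symm k Y g K A B h)⟩
    | refl => exact Iff.rfl
    | symm _ _ _ ih => exact ih.symm
    | trans _ _ _ _ _ ih1 ih2 => exact ih1.trans ih2
  exact hT q (Set.subset_inter ((key p q hpq).mp hp) hq)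

end Groth.Agent.H97.REquivSep
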