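import Mathlib

set_option autoImplicit false
universe u
open CategoryTheory CategoryTheory.Limits AlgebraicGeometry

namespace Groth.Agent.H97.ResExt

/-- A ring map to a field such that every element of the field is a fraction of images is
surjective on stalks. -/
theorem surjectiveOnStalks_of_fractions {R L : Type*} [CommRing R] [Field L] (f : R →+* L)
    (h : ∀ y : L, ∃ a b : R, f b ≠ 0 ∧ y * f b = f a) : f.SurjectiveOnStalks := by
  intro P hP
  rw [RingHom.surjective_localRingHom_iff]
  intro s
  obtain ⟨a, b, hb, hab⟩ := h s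
  have hP0 : P = ⊥ := by
    rcases Ideal.eq_bot_or_top P with h | h
    · exact h
    · exact absurd h hP.ne_top
  subst hP0
  refine ⟨a, b, 1, by simp, by simpa using hb, ?_⟩
  rw [one_mul, one_mul, mul_comm]; exact hab

/-- A ring map to a field such that every element of the field is a fraction of images induces
a preimmersion on spectra. -/
theorem isPreimmersion_of_fractions {R L : Type u} [CommRing R] [Field L] (f : R →+* L)
    (h : ∀ y : L, ∃ a b : R, f b ≠ 0 ∧ y * f b = f a) :
    IsPreimmersion (Spec.map (CommRingCat.ofHom f)) :=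
  IsPreimmersion.mk_SpecMap (Topology.IsEmbedding.of_subsingleton _)
    (surjectiveOnStalks_of_fractions f h)

/-- Fractions are stable under the operations needed. -/
theorem fractions_span {R K L : Type*} [CommRing R] [Field K] [Field L] [Algebra K L]
    (f : R →+* L) (hK : ∀ c : K, ∃ a b : R, f b ≠ 0 ∧ algebraMap K L c * f b = f a)
    {ι : Type*} (α : ι → L) (hα : ∀ i, ∃ a : R, f a = α i)
    (hspan : Submodule.span K (Set.range α) = ⊤) :
    ∀ y : L, ∃ a b : R, f b ≠ 0 ∧ y * f b = f a := by
  intro y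
  have hy : y ∈ Submodule.span K (Set.range α) := by rw [hspan]; trivial
  induction hy using Submodule.span_induction with
  | mem x hx =>
    obtain ⟨i, rfl⟩ := hx
    obtain ⟨a, ha⟩ := hα i
    exact ⟨a, 1, by simp, by simp [ha]⟩
  | zero => exact ⟨0, 1, by simp, by simp⟩
  | add x y _ _ hx hy =>
    obtain ⟨a1, b1, hb1, h1⟩ := hx
    obtain ⟨a2, b2, hb2, h2⟩ := hy
    refine ⟨a1 * b2 + a2 * b1, b1 * b2, by simp [hb1, hb2], ?_⟩
    simp only [map_mul, map_add, ← h1, ← h2]; ring
  | smul c x _ hx =>
    obtain ⟨a1, b1, hb1, h1⟩ := hx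
    obtain ⟨a2, b2, hb2, h2⟩ := hK c
    refine ⟨a2 * a1, b2 * b1, by simp [hb1, hb2], ?_⟩
    simp only [map_mul, ← h1, ← h2, Algebra.smul_def]; ring

theorem main (S : Scheme.{u}) (s : ↥S)
    (ℓ : Type u) [Field ℓ] [Algebra (S.residueField s) ℓ] [Module.Finite (S.residueField s) ℓ] :
    ∃ (U' : Scheme.{u}) (b : U' ⟶ S) (t : Spec (CommRingCat.of ℓ) ⟶ U'),
      IsAffine U' ∧ Flat b ∧ LocallyOfFinitePresentation b ∧ IsPreimmersion t ∧
        t ≫ b = Spec.map (CommRingCat.ofHom (algebraMap (S.residueField s) ℓ)) ≫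
          S.fromSpecResidueField s := by
  obtain ⟨U, hU, hsU, -⟩ := exists_isAffineOpen_mem_and_subset (X := S) (x := s) (U := ⊤) trivial
  obtain ⟨n, α, hα⟩ := Module.Finite.exists_fin (R := S.residueField s) (M := ℓ)
  let ψ : Γ(S, U) →+* ℓ := (algebraMap (S.residueField s) ℓ).comp
    ((S.residue s).hom.comp (S.presheaf.germ U s hsU).hom)
  let f : MvPolynomial (Fin n) Γ(S, U) →+* ℓ := MvPolynomial.eval₂Hom ψ α
  have hfC : ∀ a, f (MvPolynomial.C a) = ψ a := fun a => by simp [f]
  have hfX : ∀ i, f (MvPolynomial.X i) = α i := fun i => by simp [f]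
  refine ⟨Spec (CommRingCat.of (MvPolynomial (Fin n) Γ(S, U))),
    Spec.map (CommRingCat.ofHom (MvPolynomial.C (σ := Fin n) (R := Γ(S, U)))) ≫ hU.fromSpec,
    Spec.map (CommRingCat.ofHom f), inferInstance, ?_, ?_, ?_, ?_⟩
  · have : Flat (Spec.map (CommRingCat.ofHom (MvPolynomial.C (σ := Fin n) (R := Γ(S, U))))) := by
      rw [Flat.SpecMap_iff]
      change (algebraMap Γ(S, U) (MvPolynomial (Fin n) Γ(S, U))).Flat
      rw [RingHom.flat_algebraMap_iff]
      infer_instance
    infer_instance
  · have : LocallyOfFinitePresentation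
        (Spec.map (CommRingCat.ofHom (MvPolynomial.C (σ := Fin n) (R := Γ(S, U))))) := by
      rw [HasRingHomProperty.Spec_iff (P := @LocallyOfFinitePresentation)]
      change (algebraMap Γ(S, U) (MvPolynomial (Fin n) Γ(S, U))).FinitePresentation
      rw [RingHom.finitePresentation_algebraMap]
      infer_instance
    infer_instance
  · apply isPreimmersion_of_fractions
    apply fractions_span (K := S.residueField s) f _ α (fun i => ⟨MvPolynomial.X i, hfX i⟩) hα
    intro c
    obtain ⟨z, rfl⟩ := IsLocalRing.residue_surjective (R := S.presheaf.stalk s) c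
    let _alg := S.presheaf.algebra_section_stalk (⟨s, hsU⟩ : U)
    have hloc := hU.isLocalization_stalk ⟨s, hsU⟩
    obtain ⟨⟨a, m⟩, ham⟩ := IsLocalization.surj (M := (hU.primeIdealOf ⟨s, hsU⟩).asIdeal.primeCompl) z
    have hunit : IsUnit ((S.presheaf.germ U s hsU).hom m.1) :=
      IsLocalization.map_units (M := (hU.primeIdealOf ⟨s, hsU⟩).asIdeal.primeCompl)
        (S.presheaf.stalk s) m
    refine ⟨MvPolynomial.C a, MvPolynomial.C m.1, ?_, ?_⟩
    · rw [hfC]
      have h1 : IsUnit (ψ m.1) := hunit.map ((algebraMap (S.residueField s) ℓ).comp (S.residue s).hom)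
      exact h1.ne_zero
    · rw [hfC, hfC]
      have h2 : z * (S.presheaf.germ U s hsU).hom m.1 = (S.presheaf.germ U s hsU).hom a := ham
      have h3 := congrArg ((algebraMap (S.residueField s) ℓ).comp (S.residue s).hom) h2
      simp only [map_mul, RingHom.comp_apply] at h3
      exact h3
  · rw [← Spec.map_comp_assoc]
    have hψ : CommRingCat.ofHom (MvPolynomial.C (σ := Fin n) (R := Γ(S, U))) ≫ CommRingCat.ofHom f =
        S.presheaf.germ U s hsU ≫ S.residue s ≫
          CommRingCat.ofHom (algebraMap (S.residueField s) ℓ) := by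
      ext a
      simp [hfC, ψ]
      rfl
    rw [hψ, Spec.map_comp, Spec.map_comp, Category.assoc, Category.assoc,
      Scheme.fromSpecResidueField, ← hU.fromSpecStalk_eq_fromSpecStalk hsU,
      IsAffineOpen.fromSpecStalk]
    rfl

end Groth.Agent.H97.ResExt
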