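import Mathlib

set_option autoImplicit false
universe u v
open CategoryTheory TopologicalSpace Opposite AlgebraicGeometry Topology

namespace Groth.Agent.H97.SheafQuot

theorem exists_ringHom_of_injective {A B D : Type*} [CommRing A] [CommRing B] [CommRing D]
    (ρ : B →+* D) (hρ : Function.Injective ρ) (φ : A →+* D) (h : ∀ a, φ a ∈ ρ.range) :
    ∃ ψ : A →+* B, ρ.comp ψ = φ := by
  by_cases hB : Nonempty B
  · obtain ⟨b0⟩ := hB
    let e : B ≃+* ρ.range := RingEquiv.ofLeftInverse (g := Function.invFun ρ)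
      (Function.leftInverse_invFun hρ)
    refine ⟨e.symm.toRingHom.comp (φ.codRestrict ρ.range h), ?_⟩
    ext a
    have h1 : e (e.symm ⟨φ a, h a⟩) = ⟨φ a, h a⟩ := e.apply_symm_apply _
    exact congrArg Subtype.val h1
  · exact absurd ⟨(0 : B)⟩ hB

theorem map_thin (X : SheafedSpace CommRingCat.{u}) {U V : (Opens X)ᵒᵖ} (i j : U ⟶ V) :
    X.presheaf.map i = X.presheaf.map j := by
  rw [Subsingleton.elim i j]

theorem map_thin_apply (X : SheafedSpace CommRingCat.{u}) {U V : (Opens X)ᵒᵖ} (i j : U ⟶ V)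
    (s : X.presheaf.obj U) : X.presheaf.map i s = X.presheaf.map j s := by
  rw [map_thin X i j]

variable {X Y Z : SheafedSpace CommRingCat.{u}}

/-- a morphism surjective on points and injective on sections is an epimorphism -/
theorem epi_of_surjective_of_injective (π : X ⟶ Y) (hsurj : Function.Surjective π.hom.base)
    (hinj : ∀ V : Opens Y, Function.Injective (π.hom.c.app (op V)))
    (a b : Y ⟶ Z) (hab : π ≫ a = π ≫ b) : a = b := by
  have hbase : a.hom.base = b.hom.base := by
    have h1 : π.hom.base ≫ a.hom.base = π.hom.base ≫ b.hom.base :=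
      congrArg (fun m : X ⟶ Z => m.hom.base) hab
    ext y
    obtain ⟨x, rfl⟩ := hsurj y
    exact congrArg (fun m : X.carrier ⟶ Z.carrier => m x) h1
  obtain ⟨⟨ab, ac⟩⟩ := a
  obtain ⟨⟨bb, bc⟩⟩ := b
  obtain rfl : ab = bb := hbase
  have hc : ac = bc := by
    apply NatTrans.ext
    funext W'
    induction W' using Opposite.rec with | _ W => ?_
    have h2 := SheafedSpace.congr_hom_app hab (op W)
    have hmono : Mono (π.hom.c.app (op ((Opens.map ab).obj W))) :=
      ConcreteCategory.mono_of_injective _ (hinj _)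
    rw [← cancel_mono (π.hom.c.app (op ((Opens.map ab).obj W)))]
    refine h2.trans ?_
    have h3 : ∀ (U : (Opens X)ᵒᵖ) (e : U = U), X.presheaf.map (eqToHom e) = 𝟙 _ := by
      intro U e
      rw [eqToHom_refl, X.presheaf.map_id]
    exact (congrArg (fun m => (π ≫ (⟨⟨ab, bc⟩⟩ : Y ⟶ Z)).hom.c.app (op W) ≫ m)
      (h3 _ _)).trans (Category.comp_id _)
  rw [hc]

section construct

variable (π : X ⟶ Y) (f : X ⟶ Z) (gb : Y.carrier ⟶ Z.carrier) (hgb : π.hom.base ≫ gb = f.hom.base)

include hgb in
theorem pre_eq (W : Opens Z) :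
    (Opens.map π.hom.base).obj ((Opens.map gb).obj W) = (Opens.map f.hom.base).obj W := by
  rw [← hgb]
  rfl

/-- `f^♯` followed by the identification `f⁻¹ W = π⁻¹ (g⁻¹ W)` -/
noncomputable def phi (W : Opens Z) :
    Z.presheaf.obj (op W) ⟶ X.presheaf.obj (op ((Opens.map π.hom.base).obj ((Opens.map gb).obj W))) :=
  f.hom.c.app (op W) ≫ X.presheaf.map (homOfLE (pre_eq π f gb hgb W).le).op

variable (hinj : ∀ V : Opens Y, Function.Injective (π.hom.c.app (op V)))
  (hex : ∀ (W : Opens Z) (s : Z.presheaf.obj (op W)),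
    ∃ t : Y.presheaf.obj (op ((Opens.map gb).obj W)),
      π.hom.c.app (op ((Opens.map gb).obj W)) t = phi π f gb hgb W s)

include hinj hex in
theorem exists_capp (W : Opens Z) :
    ∃ ψ : Z.presheaf.obj (op W) ⟶ Y.presheaf.obj (op ((Opens.map gb).obj W)),
      ψ ≫ π.hom.c.app (op ((Opens.map gb).obj W)) = phi π f gb hgb W := by
  obtain ⟨ψ, hψ⟩ := exists_ringHom_of_injective
    (π.hom.c.app (op ((Opens.map gb).obj W))).hom (hinj _) (phi π f gb hgb W).hom
    (fun s => by obtain ⟨t, ht⟩ := hex W s; exact ⟨t, ht⟩)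
  refine ⟨CommRingCat.ofHom ψ, ?_⟩
  ext s
  exact congrArg (fun m => m s) hψ

/-- the comorphism of the descended map -/
noncomputable def capp (W : Opens Z) :
    Z.presheaf.obj (op W) ⟶ Y.presheaf.obj (op ((Opens.map gb).obj W)) :=
  Classical.choose (exists_capp π f gb hgb hinj hex W)

theorem capp_spec (W : Opens Z) :
    capp π f gb hgb hinj hex W ≫ π.hom.c.app (op ((Opens.map gb).obj W)) = phi π f gb hgb W :=
  Classical.choose_spec (exists_capp π f gb hgb hinj hex W)

theorem capp_naturality {W W' : Opens Z} (i : op W ⟶ op W') :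
    Z.presheaf.map i ≫ capp π f gb hgb hinj hex W' =
      capp π f gb hgb hinj hex W ≫ Y.presheaf.map ((Opens.map gb).op.map i) := by
  have hmono : Mono (π.hom.c.app (op ((Opens.map gb).obj W'))) :=
    ConcreteCategory.mono_of_injective _ (hinj _)
  rw [← cancel_mono (π.hom.c.app (op ((Opens.map gb).obj W')))]
  have h1 : Y.presheaf.map ((Opens.map gb).op.map i) ≫ π.hom.c.app (op ((Opens.map gb).obj W')) =
      π.hom.c.app (op ((Opens.map gb).obj W)) ≫
        X.presheaf.map ((Opens.map π.hom.base).op.map ((Opens.map gb).op.map i)) :=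
    π.hom.c.naturality ((Opens.map gb).op.map i)
  have h2 : Z.presheaf.map i ≫ f.hom.c.app (op W') =
      f.hom.c.app (op W) ≫ X.presheaf.map ((Opens.map f.hom.base).op.map i) :=
    f.hom.c.naturality i
  rw [Category.assoc, Category.assoc, capp_spec, h1, ← Category.assoc (capp π f gb hgb hinj hex W),
    capp_spec]
  unfold phi
  rw [← Category.assoc, h2, Category.assoc, Category.assoc, ← Functor.map_comp, ← Functor.map_comp]
  congr 1

/-- the descended morphism -/
noncomputable def desc : Y ⟶ Z :=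
  InducedCategory.homMk
    ({ base := gb
       c :=
        { app := fun W => capp π f gb hgb hinj hex W.unop
          naturality := fun W W' i => capp_naturality π f gb hgb hinj hex (W := W.unop)
            (W' := W'.unop) i } } : Y.toPresheafedSpace ⟶ Z.toPresheafedSpace)

theorem fac : π ≫ desc π f gb hgb hinj hex = f := by
  refine SheafedSpace.ext _ _ hgb ?_
  apply NatTrans.ext
  funext W'
  induction W' using Opposite.rec with | _ W => ?_
  rw [NatTrans.comp_app, Functor.whiskerRight_app]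
  have h1 : (π ≫ desc π f gb hgb hinj hex).hom.c.app (op W) =
      capp π f gb hgb hinj hex W ≫ π.hom.c.app (op ((Opens.map gb).obj W)) := rfl
  rw [h1, capp_spec]
  unfold phi
  have h2 : ∀ (U : (Opens X)ᵒᵖ) (e : U ⟶ U), X.presheaf.map e = 𝟙 _ := by
    intro U e
    rw [Subsingleton.elim e (𝟙 U), X.presheaf.map_id]
  refine (Category.assoc _ _ _).trans ?_
  exact (congrArg (fun m => f.hom.c.app (op W) ≫ m)
    ((X.presheaf.map_comp _ _).symm.trans (h2 _ _))).trans (Category.comp_id _)

end construct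

theorem invariant_phi (Γ : Type v) [Group Γ] (τ : Γ →* Aut X) (π : X ⟶ Y) (f : X ⟶ Z)
    (gb : Y.carrier ⟶ Z.carrier) (hgb : π.hom.base ≫ gb = f.hom.base)
    (hf : ∀ g : Γ, (τ g).hom ≫ f = f) (W : Opens Z) (g : Γ)
    (e : op ((Opens.map π.hom.base).obj ((Opens.map gb).obj W)) =
      op ((Opens.map ((τ g).hom ≫ π).hom.base).obj ((Opens.map gb).obj W))) :
    phi π f gb hgb W ≫
        (τ g).hom.hom.c.app (op ((Opens.map π.hom.base).obj ((Opens.map gb).obj W))) =
      phi π f gb hgb W ≫ X.presheaf.map (eqToHom e) := by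
  have h1 := SheafedSpace.congr_hom_app (hf g) (op W)
  have h2 : ((τ g).hom ≫ f).hom.c.app (op W) =
      f.hom.c.app (op W) ≫ (τ g).hom.hom.c.app (op ((Opens.map f.hom.base).obj W)) := rfl
  have h3 : X.presheaf.map (homOfLE (pre_eq π f gb hgb W).le).op ≫
      (τ g).hom.hom.c.app (op ((Opens.map π.hom.base).obj ((Opens.map gb).obj W))) =
      (τ g).hom.hom.c.app (op ((Opens.map f.hom.base).obj W)) ≫
        X.presheaf.map ((Opens.map (τ g).hom.hom.base).op.map
          (homOfLE (pre_eq π f gb hgb W).le).op) :=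
    (τ g).hom.hom.c.naturality (homOfLE (pre_eq π f gb hgb W).le).op
  unfold phi
  refine (Category.assoc _ _ _).trans ?_
  refine (congrArg (fun m => f.hom.c.app (op W) ≫ m) h3).trans ?_
  refine (Category.assoc _ _ _).symm.trans ?_
  refine (congrArg (fun m => m ≫ X.presheaf.map ((Opens.map (τ g).hom.hom.base).op.map
          (homOfLE (pre_eq π f gb hgb W).le).op)) (h2.symm.trans h1)).trans ?_
  refine (Category.assoc _ _ _).trans ?_
  refine Eq.trans ?_ (Category.assoc _ _ _).symm
  refine congrArg (fun m => f.hom.c.app (op W) ≫ m) ?_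
  refine (X.presheaf.map_comp _ _).symm.trans ?_
  refine Eq.trans ?_ (X.presheaf.map_comp _ _)
  exact map_thin X _ _

theorem main (X Y : SheafedSpace CommRingCat.{u}) (Γ : Type v) [Group Γ]
    (τ : Γ →* Aut X) (π : X ⟶ Y) (hτ : ∀ g : Γ, (τ g).hom ≫ π = π)
    (h1 : IsQuotientMap π.hom.base)
    (h2 : ∀ x x' : X, π.hom.base x = π.hom.base x' ↔ ∃ g : Γ, (τ g).hom.hom.base x = x')
    (h3 : ∀ V : Opens Y, Function.Injective (π.hom.c.app (op V)) ∧
      Set.range (π.hom.c.app (op V)) =
        {s | ∀ g : Γ, (τ g).hom.hom.c.app (op ((Opens.map π.hom.base).obj V)) s =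
          X.presheaf.map (eqToHom (congrArg (fun f : X ⟶ Y => op ((Opens.map f.hom.base).obj V)) (hτ g).symm)) s})
    (Z : SheafedSpace CommRingCat.{u}) (f : X ⟶ Z) (hf : ∀ g : Γ, (τ g).hom ≫ f = f) :
    ∃! fbar : Y ⟶ Z, π ≫ fbar = f := by
  have hfact : Function.FactorsThrough (f.hom.base.hom : X → Z) (π.hom.base : X → Y) := by
    intro x x' hxx'
    obtain ⟨g, rfl⟩ := (h2 x x').mp hxx'
    have := congrArg (fun m : X ⟶ Z => m.hom.base x) (hf g)
    exact this.symm
  let gb : Y.carrier ⟶ Z.carrier := TopCat.ofHom (h1.lift f.hom.base.hom hfact)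
  have hgb : π.hom.base ≫ gb = f.hom.base := by
    ext x
    exact congrArg (fun m : C(X, Z) => m x) (h1.lift_comp f.hom.base.hom hfact)
  have hinj : ∀ V : Opens Y, Function.Injective (π.hom.c.app (op V)) := fun V => (h3 V).1
  have hex : ∀ (W : Opens Z) (s : Z.presheaf.obj (op W)),
      ∃ t : Y.presheaf.obj (op ((Opens.map gb).obj W)),
        π.hom.c.app (op ((Opens.map gb).obj W)) t = phi π f gb hgb W s := by
    intro W s
    have hmem : phi π f gb hgb W s ∈ Set.range (π.hom.c.app (op ((Opens.map gb).obj W))) := by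
      rw [(h3 _).2]
      intro g
      exact congrArg (fun m => m s) (invariant_phi Γ τ π f gb hgb hf W g _)
    exact hmem
  refine ⟨desc π f gb hgb hinj hex, fac π f gb hgb hinj hex, ?_⟩
  intro fbar' hfbar'
  exact epi_of_surjective_of_injective π h1.surjective hinj _ _
    (hfbar'.trans (fac π f gb hgb hinj hex).symm)

end Groth.Agent.H97.SheafQuot
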