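import Mathlib

/-!
# Commutative algebras over a field whose only subalgebras are `⊥ ≠ ⊤`
-/

set_option autoImplicit false
universe u
open Polynomial

namespace Groth.Agent.H97.SimpleSubalg

variable {κ A : Type u} [Field κ] [CommRing A] [Algebra κ A]

theorem adjoin_eq_top (h : IsSimpleOrder (Subalgebra κ A)) {a : A}
    (ha : a ∉ (⊥ : Subalgebra κ A)) : Algebra.adjoin κ {a} = ⊤ := by
  rcases eq_bot_or_eq_top (Algebra.adjoin κ {a}) with h1 | h1
  · exact absurd (h1 ▸ Algebra.self_mem_adjoin_singleton κ a) ha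
  · exact h1

theorem range_eq_top (h : IsSimpleOrder (Subalgebra κ A)) {B : Type u} [Semiring B] [Algebra κ B]
    (φ : B →ₐ[κ] A) {b : B} (hb : φ b ∉ (⊥ : Subalgebra κ A)) : φ.range = ⊤ := by
  rcases eq_bot_or_eq_top φ.range with h1 | h1
  · exact absurd (h1 ▸ AlgHom.mem_range_self φ b) hb
  · exact h1

theorem exists_notMem_bot (h : IsSimpleOrder (Subalgebra κ A)) :
    ∃ a : A, a ∉ (⊥ : Subalgebra κ A) := by
  by_contra hc
  push Not at hc
  have : (⊥ : Subalgebra κ A) = ⊤ := eq_top_iff.mpr (fun x _ => hc x)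
  exact bot_ne_top this

theorem nontrivial (h : IsSimpleOrder (Subalgebra κ A)) : Nontrivial A := by
  obtain ⟨a, ha⟩ := exists_notMem_bot h
  refine ⟨⟨a, 0, ?_⟩⟩
  rintro rfl
  exact ha (zero_mem _)

theorem isAlgebraic (h : IsSimpleOrder (Subalgebra κ A)) {a : A}
    (ha : a ∉ (⊥ : Subalgebra κ A)) : IsAlgebraic κ a := by
  by_contra htr
  have h2 : a ^ 2 ∉ (⊥ : Subalgebra κ A) := by
    intro hm
    obtain ⟨c, hc⟩ := Algebra.mem_bot.mp hm
    apply htr
    refine ⟨X ^ 2 - C c, X_pow_sub_C_ne_zero (by norm_num) c, ?_⟩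
    simp [hc]
  have h3 := adjoin_eq_top h h2
  have h4 : a ∈ Algebra.adjoin κ {a ^ 2} := h3 ▸ Algebra.mem_top
  rw [Algebra.adjoin_singleton_eq_range_aeval] at h4
  obtain ⟨q, hq⟩ := h4
  apply htr
  refine ⟨X - q.comp (X ^ 2), ?_, ?_⟩
  · intro h0
    have h5 : (X : κ[X]) = q.comp (X ^ 2) := sub_eq_zero.mp h0
    have h6 := congrArg natDegree h5
    rw [natDegree_X, natDegree_comp, natDegree_X_pow] at h6
    omega
  · have h7 : aeval a (q.comp (X ^ 2)) = a := by
      rw [aeval_comp]
      simpa using hq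
    simp [h7]

theorem finite (h : IsSimpleOrder (Subalgebra κ A)) : Module.Finite κ A := by
  obtain ⟨a, ha⟩ := exists_notMem_bot h
  have hint : IsIntegral κ a := (isAlgebraic h ha).isIntegral
  have hfg := hint.fg_adjoin_singleton
  rw [adjoin_eq_top h ha, Algebra.top_toSubmodule] at hfg
  exact Module.finite_def.mpr hfg

/-- an idempotent outside the scalars gives `κ × κ` -/
theorem equiv_prod (h : IsSimpleOrder (Subalgebra κ A)) (t : A) (ht : t * t = t)
    (htb : t ∉ (⊥ : Subalgebra κ A)) : Nonempty (A ≃ₐ[κ] (κ × κ)) := by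
  have ht0 : t ≠ 0 := by
    rintro rfl
    exact htb (zero_mem _)
  have ht1 : 1 - t ≠ 0 := by
    intro h1
    apply htb
    have : t = 1 := (sub_eq_zero.mp h1).symm
    rw [this]
    exact one_mem _
  let ψ : (κ × κ) →ₐ[κ] A := AlgHom.ofLinearMap
    ((LinearMap.fst κ κ κ).smulRight t + (LinearMap.snd κ κ κ).smulRight (1 - t))
    (by simp)
    (by
      intro x y
      simp only [LinearMap.add_apply, LinearMap.smulRight_apply, LinearMap.fst_apply,
        LinearMap.snd_apply, Prod.fst_mul, Prod.snd_mul, Algebra.smul_def, map_mul]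
      linear_combination (-(algebraMap κ A x.1 * algebraMap κ A y.1 -
        algebraMap κ A x.1 * algebraMap κ A y.2 - algebraMap κ A x.2 * algebraMap κ A y.1 +
        algebraMap κ A x.2 * algebraMap κ A y.2)) * ht)
  have hψ : ∀ x : κ × κ, ψ x = x.1 • t + x.2 • (1 - t) := fun x => rfl
  have hinj : Function.Injective ψ := by
    rw [injective_iff_map_eq_zero]
    intro x hx
    rw [hψ] at hx
    have h1 : x.1 • t = 0 := by
      have := congrArg (fun z => z * t) hx
      simp only [add_mul, smul_mul_assoc, zero_mul, sub_mul, one_mul, ht, sub_self, smul_zero,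
        add_zero] at this
      exact this
    have h2 : x.2 • (1 - t) = 0 := by
      rw [h1, zero_add] at hx
      exact hx
    have hx1 : x.1 = 0 := (smul_eq_zero.mp h1).resolve_right ht0
    have hx2 : x.2 = 0 := (smul_eq_zero.mp h2).resolve_right ht1
    exact Prod.ext hx1 hx2
  have hsurj : Function.Surjective ψ := by
    have hr : ψ.range = ⊤ := range_eq_top h ψ (b := (1, 0)) (by
      rw [hψ]
      simpa using htb)
    intro z
    have : z ∈ ψ.range := hr ▸ Algebra.mem_top
    exact this
  exact ⟨(AlgEquiv.ofBijective ψ ⟨hinj, hsurj⟩).symm⟩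

/-- a nonzero square-zero element gives the dual numbers -/
theorem equiv_dualNumber (h : IsSimpleOrder (Subalgebra κ A)) (e : A) (he : e * e = 0)
    (he0 : e ≠ 0) : Nonempty (A ≃ₐ[κ] DualNumber κ) := by
  have := nontrivial h
  have heb : e ∉ (⊥ : Subalgebra κ A) := by
    intro hm
    obtain ⟨c, hc⟩ := Algebra.mem_bot.mp hm
    apply he0
    rw [← hc] at he ⊢
    rw [← map_mul] at he
    have hc0 : c * c = 0 := (algebraMap κ A).injective (by rw [he, map_zero])
    have : c = 0 := by simpa using hc0
    rw [this, map_zero]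
  let ψ : DualNumber κ →ₐ[κ] A :=
    DualNumber.lift ⟨(Algebra.ofId κ A, e), he, fun _ => Commute.all _ _⟩
  have hψ : ∀ x : DualNumber κ, ψ x = algebraMap κ A x.fst + algebraMap κ A x.snd * e :=
    fun x => rfl
  have hinj : Function.Injective ψ := by
    rw [injective_iff_map_eq_zero]
    intro x hx
    rw [hψ] at hx
    have h1 : algebraMap κ A x.fst * e = 0 := by
      have := congrArg (fun z => z * e) hx
      simp only [add_mul, mul_assoc, he, mul_zero, add_zero, zero_mul] at this
      exact this
    have hx1 : x.fst = 0 := by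
      by_contra hne
      apply he0
      have hu : IsUnit (algebraMap κ A x.fst) := (IsUnit.mk0 _ hne).map _
      exact (hu.mul_right_eq_zero).mp h1
    have h2 : algebraMap κ A x.snd * e = 0 := by
      rw [hx1, map_zero, zero_add] at hx
      exact hx
    have hx2 : x.snd = 0 := by
      by_contra hne
      apply he0
      have hu : IsUnit (algebraMap κ A x.snd) := (IsUnit.mk0 _ hne).map _
      exact (hu.mul_right_eq_zero).mp h2
    exact TrivSqZeroExt.ext hx1 hx2
  have hsurj : Function.Surjective ψ := by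
    have hr : ψ.range = ⊤ := range_eq_top h ψ (b := DualNumber.eps) (by
      rw [show ψ DualNumber.eps = e from DualNumber.lift_apply_eps _]
      exact heb)
    intro z
    have : z ∈ ψ.range := hr ▸ Algebra.mem_top
    exact this
  exact ⟨(AlgEquiv.ofBijective ψ ⟨hinj, hsurj⟩).symm⟩


/-- the non-field case -/
theorem not_irreducible_case (h : IsSimpleOrder (Subalgebra κ A)) (a : A)
    (ha : a ∉ (⊥ : Subalgebra κ A)) (f : κ[X]) (hf0 : f ≠ 0)
    (hker : ∀ g : κ[X], aeval a g = 0 ↔ f ∣ g) (hfu : ¬ IsUnit f) (hirr : ¬ Irreducible f) :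
    Nonempty (A ≃ₐ[κ] DualNumber κ) ∨ Nonempty (A ≃ₐ[κ] (κ × κ)) := by
  have := nontrivial h
  obtain ⟨p, hp, g, rfl⟩ := WfDvdMonoid.exists_irreducible_factor hfu hf0
  have hp0 : p ≠ 0 := hp.ne_zero
  have hg0 : g ≠ 0 := right_ne_zero_of_mul hf0
  have hgu : ¬ IsUnit g := by
    intro hu
    apply hirr
    exact (irreducible_mul_isUnit hu).mpr hp
  by_cases hcop : IsCoprime p g
  · right
    obtain ⟨u, v, huv⟩ := hcop
    refine equiv_prod h (aeval a (v * g)) ?_ ?_
    · rw [← map_mul, ← sub_eq_zero, ← map_sub, hker]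
      refine ⟨-(u * v), ?_⟩
      have : v * g - 1 = -(u * p) := by rw [← huv]; ring
      calc v * g * (v * g) - v * g = v * g * (v * g - 1) := by ring
        _ = p * g * -(u * v) := by rw [this]; ring
    · intro hm
      obtain ⟨c, hc⟩ := Algebra.mem_bot.mp hm
      have hcc : c * c = c := by
        apply (algebraMap κ A).injective
        rw [map_mul, hc, ← map_mul, ← sub_eq_zero, ← map_sub, hker]
        refine ⟨-(u * v), ?_⟩
        have : v * g - 1 = -(u * p) := by rw [← huv]; ring
        calc v * g * (v * g) - v * g = v * g * (v * g - 1) := by ring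
          _ = p * g * -(u * v) := by rw [this]; ring
      have hc01 : c = 0 ∨ c = 1 := by
        have : c * (c - 1) = 0 := by rw [mul_sub, hcc, mul_one, sub_self]
        rcases mul_eq_zero.mp this with h0 | h1
        · exact Or.inl h0
        · exact Or.inr (sub_eq_zero.mp h1)
      rcases hc01 with rfl | rfl
      · rw [map_zero] at hc
        have h1 : p * g ∣ v * g := (hker _).mp hc.symm
        have h2 : p ∣ v := by
          obtain ⟨w, hw⟩ := h1
          refine ⟨w, mul_right_cancel₀ hg0 ?_⟩
          rw [hw]; ring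
        have h3 : p ∣ 1 := by
          rw [← huv]
          exact dvd_add (dvd_mul_left p u) (dvd_mul_of_dvd_left h2 g)
        exact hp.not_isUnit (isUnit_of_dvd_one h3)
      · rw [map_one] at hc
        have h0 : aeval a (u * p) = 0 := by
          have : u * p = 1 - v * g := by rw [← huv]; ring
          rw [this, map_sub, map_one, ← hc, sub_self]
        have h1 : p * g ∣ u * p := (hker _).mp h0
        have h2 : g ∣ u := by
          obtain ⟨w, hw⟩ := h1
          refine ⟨w, mul_right_cancel₀ hp0 ?_⟩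
          rw [hw]; ring
        have h3 : g ∣ 1 := by
          rw [← huv]
          exact dvd_add (dvd_mul_of_dvd_left h2 p) (dvd_mul_left g v)
        exact hgu (isUnit_of_dvd_one h3)
  · left
    have hpg : p ∣ g := by
      by_contra hnd
      exact hcop ((hp.coprime_iff_not_dvd).mpr hnd)
    obtain ⟨g', rfl⟩ := hpg
    have hg'0 : g' ≠ 0 := right_ne_zero_of_mul hg0
    refine equiv_dualNumber h (aeval a (p * g')) ?_ ?_
    · rw [← map_mul, hker]
      exact ⟨g', by ring⟩
    · intro h0
      have h1 : p * (p * g') ∣ p * g' := (hker _).mp h0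
      have h2 : p ∣ 1 := by
        obtain ⟨w, hw⟩ := h1
        refine ⟨w, mul_right_cancel₀ (mul_ne_zero hp0 hg'0) ?_⟩
        rw [one_mul]
        conv_lhs => rw [hw]
        ring
      exact hp.not_isUnit (isUnit_of_dvd_one h2)


/-- the field case -/
theorem field_case {K : Type u} [Field K] [Algebra κ K] (h : IsSimpleOrder (Subalgebra κ K)) :
    Algebra.IsSeparable κ K ∨ ∃ (p : ℕ) (a : κ), p.Prime ∧ CharP κ p ∧ (∀ b : κ, b ^ p ≠ a) ∧
      Nonempty (K ≃ₐ[κ] AdjoinRoot (X ^ p - C a)) := by
  classical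
  have := finite h
  have : Algebra.IsAlgebraic κ K := Algebra.IsAlgebraic.of_finite κ K
  rcases eq_bot_or_eq_top (separableClosure κ K).toSubalgebra with h1 | h1
  · right
    have hsc : separableClosure κ K = ⊥ := by
      apply IntermediateField.toSubalgebra_injective
      rw [h1, IntermediateField.bot_toSubalgebra]
    have : IsPurelyInseparable κ K := Iff.mp separableClosure.eq_bot_iff hsc
    obtain ⟨q, hq⟩ := ExpChar.exists (R := κ)
    have := hq
    have : ExpChar K q := expChar_of_injective_algebraMap (algebraMap κ K).injective q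
    obtain ⟨a, ha⟩ := exists_notMem_bot h
    have hex := IsPurelyInseparable.pow_mem κ q a
    have hn : a ^ q ^ Nat.find hex ∈ (algebraMap κ K).range := Nat.find_spec hex
    have hn0 : Nat.find hex ≠ 0 := by
      intro h0
      rw [h0, pow_zero, pow_one] at hn
      exact ha (Algebra.mem_bot.mpr hn)
    obtain ⟨m, hm⟩ := Nat.exists_eq_succ_of_ne_zero hn0
    have hb : a ^ q ^ m ∉ (⊥ : Subalgebra κ K) := by
      intro hmem
      exact Nat.find_min hex (by omega : m < Nat.find hex) (Algebra.mem_bot.mp hmem)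
    have hbq : (a ^ q ^ m) ^ q ∈ (algebraMap κ K).range := by
      rw [← pow_mul, ← pow_succ, ← Nat.succ_eq_add_one, ← hm]
      exact hn
    obtain ⟨c, hc⟩ := hbq
    have hqp : q.Prime := by
      rcases expChar_is_prime_or_one κ q with hp | h1
      · exact hp
      · exfalso
        subst h1
        apply hb
        rw [pow_one] at hc
        rw [← hc]
        exact Subalgebra.algebraMap_mem _ _
    have hchar : CharP κ q := by
      cases hq with
      | zero => exact absurd hqp Nat.not_prime_one
      | prime hprime => assumption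
    have hnot : ∀ d : κ, d ^ q ≠ c := by
      intro d hd
      apply hb
      have h0 : (a ^ q ^ m - algebraMap κ K d) ^ q = 0 := by
        rw [sub_pow_expChar, ← hc, ← map_pow, hd, sub_self]
      have h2 : a ^ q ^ m = algebraMap κ K d := sub_eq_zero.mp (pow_eq_zero_iff hqp.ne_zero |>.mp h0)
      rw [h2]
      exact Subalgebra.algebraMap_mem _ _
    refine ⟨q, c, hqp, hchar, hnot, ?_⟩
    have hirr : Irreducible (X ^ q - C c : κ[X]) := X_pow_sub_C_irreducible_of_prime hqp hnot
    have : Fact (Irreducible (X ^ q - C c : κ[X])) := ⟨hirr⟩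
    let ψ : AdjoinRoot (X ^ q - C c : κ[X]) →ₐ[κ] K :=
      AdjoinRoot.liftAlgHom (X ^ q - C c : κ[X]) (Algebra.ofId κ K) (a ^ q ^ m) (by
        simp only [eval₂_sub, eval₂_X_pow, eval₂_C]
        rw [← hc]
        simp)
    have hinj : Function.Injective ψ := (ψ : AdjoinRoot (X ^ q - C c : κ[X]) →+* K).injective
    have hsurj : Function.Surjective ψ := by
      have hr : ψ.range = ⊤ := range_eq_top h ψ (b := AdjoinRoot.root _) (by
        rw [show ψ (AdjoinRoot.root _) = a ^ q ^ m from AdjoinRoot.liftAlgHom_root _ _ _ _]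
        exact hb)
      intro z
      have : z ∈ ψ.range := hr ▸ Algebra.mem_top
      exact this
    exact ⟨(AlgEquiv.ofBijective ψ ⟨hinj, hsurj⟩).symm⟩
  · left
    have hsc : separableClosure κ K = ⊤ := by
      apply IntermediateField.toSubalgebra_injective
      rw [h1, IntermediateField.top_toSubalgebra]
    exact (separableClosure.eq_top_iff κ K).mp hsc


theorem main (h : IsSimpleOrder (Subalgebra κ A)) :
    FiniteDimensional κ A ∧
    (Nonempty (A ≃ₐ[κ] DualNumber κ) ∨ Nonempty (A ≃ₐ[κ] (κ × κ)) ∨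
      (IsField A ∧ (Algebra.IsSeparable κ A ∨
        ∃ (p : ℕ) (a : κ), p.Prime ∧ CharP κ p ∧ (∀ b : κ, b ^ p ≠ a) ∧
          Nonempty (A ≃ₐ[κ] AdjoinRoot (X ^ p - C a))))) := by
  refine ⟨finite h, ?_⟩
  have hnt := nontrivial h
  obtain ⟨a, ha⟩ := exists_notMem_bot h
  have halg := isAlgebraic h ha
  have hsurj : Function.Surjective (aeval a : κ[X] →ₐ[κ] A) := by
    intro z
    have hz : z ∈ Algebra.adjoin κ {a} := adjoin_eq_top h ha ▸ Algebra.mem_top
    rw [Algebra.adjoin_singleton_eq_range_aeval] at hz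
    exact hz
  have hgen : Ideal.span {Submodule.IsPrincipal.generator
      (RingHom.ker ((aeval a : κ[X] →ₐ[κ] A) : κ[X] →+* A))} =
      RingHom.ker ((aeval a : κ[X] →ₐ[κ] A) : κ[X] →+* A) := Ideal.span_singleton_generator _
  set f := Submodule.IsPrincipal.generator
      (RingHom.ker ((aeval a : κ[X] →ₐ[κ] A) : κ[X] →+* A)) with hfdef
  have hker : ∀ g : κ[X], aeval a g = 0 ↔ f ∣ g := by
    intro g
    rw [← Ideal.mem_span_singleton, hgen, RingHom.mem_ker]
    rfl
  have hf0 : f ≠ 0 := by
    intro h0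
    obtain ⟨g, hg0, hg⟩ := halg
    have := (hker g).mp hg
    rw [h0, zero_dvd_iff] at this
    exact hg0 this
  have hfu : ¬ IsUnit f := by
    intro hu
    have h1 : aeval a (1 : κ[X]) = 0 := (hker 1).mpr hu.dvd
    rw [map_one] at h1
    exact one_ne_zero h1
  by_cases hirr : Irreducible f
  · right; right
    have hA : IsField A := by
      have hmax : (RingHom.ker ((aeval a : κ[X] →ₐ[κ] A) : κ[X] →+* A)).IsMaximal := by
        rw [← hgen]
        exact PrincipalIdealRing.isMaximal_of_irreducible hirr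
      have hq := (Ideal.Quotient.maximal_ideal_iff_isField_quotient _).mp hmax
      exact MulEquiv.isField hq
        (RingHom.quotientKerEquivOfSurjective
          (f := ((aeval a : κ[X] →ₐ[κ] A) : κ[X] →+* A)) hsurj).symm.toMulEquiv
    refine ⟨hA, ?_⟩
    letI := hA.toField
    exact field_case h
  · rcases not_irreducible_case h a ha f hf0 hker hfu hirr with h1 | h2
    · exact Or.inl h1
    · exact Or.inr (Or.inl h2)

end Groth.Agent.H97.SimpleSubalg
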