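import Mathlib
import Groth.Agent.H97.FFDescent

/-!
# Descent along ring maps that are surjective on spectra (no flatness)

* `subsingleton_of_tensorProduct`: a finite `R`-module `M` with `S ⊗[R] M = 0` is zero.
* `bijective_of_lTensor_bijective`: a map `P → Q` of finite modules with `Q` projective which
  becomes bijective after `S ⊗[R] -` is bijective.
* `projective_linearMap`: `M →ₗ[R] N` is projective for finite projective `M`, `N`.
* `isAzumaya_of_tensorProduct`: descent of Azumaya algebras for finite projective `B`.
-/

set_option autoImplicit false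
universe u v w
open TensorProduct

namespace Groth.Agent.H97.SpecSurj

variable (R : Type u) [CommRing R] (S : Type v) [CommRing S] [Algebra R S]

theorem subsingleton_tensor_of_right (M : Type*) [AddCommGroup M] [Module R M]
    (N : Type*) [AddCommGroup N] [Module R N] [Subsingleton N] : Subsingleton (M ⊗[R] N) := by
  refine ⟨fun x y => ?_⟩
  have h0 : ∀ z : M ⊗[R] N, z = 0 := by
    intro z
    induction z using TensorProduct.induction_on with
    | zero => rfl
    | add a b ha hb => rw [ha, hb, add_zero]
    | tmul m n => rw [Subsingleton.elim n 0, TensorProduct.tmul_zero]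
  rw [h0 x, h0 y]

variable {R S} in
/-- A finite module killed by a base change that is surjective on spectra is zero. -/
theorem subsingleton_of_tensorProduct
    (hS : Function.Surjective (PrimeSpectrum.comap (algebraMap R S)))
    (M : Type*) [AddCommGroup M] [Module R M] [Module.Finite R M]
    [Subsingleton (S ⊗[R] M)] : Subsingleton M := by
  rw [← Module.support_eq_empty_iff (R := R), Set.eq_empty_iff_forall_notMem]
  intro p hp
  rw [Module.mem_support_iff_nontrivial_residueField_tensorProduct] at hp
  have h1 : Nontrivial (p.asIdeal.ResidueField ⊗[R] S) :=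
    (PrimeSpectrum.nontrivial_iff_mem_rangeComap p).mpr (hS p)
  have h2 : Nontrivial ((p.asIdeal.ResidueField ⊗[R] S) ⊗[p.asIdeal.ResidueField]
      (p.asIdeal.ResidueField ⊗[R] M)) := inferInstance
  have e1 := TensorProduct.AlgebraTensorModule.cancelBaseChange R p.asIdeal.ResidueField
    p.asIdeal.ResidueField (p.asIdeal.ResidueField ⊗[R] S) M
  have e2 := TensorProduct.assoc R p.asIdeal.ResidueField S M
  have h3 : Subsingleton (p.asIdeal.ResidueField ⊗[R] (S ⊗[R] M)) :=
    subsingleton_tensor_of_right R _ _
  have h4 : Subsingleton ((p.asIdeal.ResidueField ⊗[R] S) ⊗[R] M) := e2.toEquiv.subsingleton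
  have h5 : Subsingleton ((p.asIdeal.ResidueField ⊗[R] S) ⊗[p.asIdeal.ResidueField]
      (p.asIdeal.ResidueField ⊗[R] M)) := e1.toEquiv.subsingleton
  exact not_subsingleton _ h5

variable {R S} in
/-- A linear map of finite modules with projective target which becomes bijective after a base
change that is surjective on spectra is bijective. -/
theorem bijective_of_lTensor_bijective
    (hS : Function.Surjective (PrimeSpectrum.comap (algebraMap R S)))
    {P : Type*} [AddCommGroup P] [Module R P] [Module.Finite R P]
    {Q : Type*} [AddCommGroup Q] [Module R Q] [Module.Finite R Q] [Module.Projective R Q]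
    (f : P →ₗ[R] Q) (hf : Function.Bijective (LinearMap.lTensor S f)) :
    Function.Bijective f := by
  -- surjectivity
  have hsurj : Function.Surjective f := by
    rw [← LinearMap.range_eq_top]
    have : Subsingleton (S ⊗[R] (Q ⧸ LinearMap.range f)) := by
      refine ⟨fun x y => ?_⟩
      have h0 : ∀ z : S ⊗[R] (Q ⧸ LinearMap.range f), z = 0 := by
        intro z
        obtain ⟨z', rfl⟩ := LinearMap.lTensor_surjective S
          (Submodule.mkQ_surjective (LinearMap.range f)) z
        obtain ⟨z'', rfl⟩ := hf.2 z'
        rw [← LinearMap.comp_apply, ← LinearMap.lTensor_comp]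
        have : (LinearMap.range f).mkQ ∘ₗ f = 0 := LinearMap.range_mkQ_comp f
        rw [this, LinearMap.lTensor_zero, LinearMap.zero_apply]
      rw [h0 x, h0 y]
    have : Subsingleton (Q ⧸ LinearMap.range f) := subsingleton_of_tensorProduct hS _
    exact Submodule.Quotient.subsingleton_iff.mp inferInstance
  refine ⟨?_, hsurj⟩
  -- injectivity
  obtain ⟨g, hg⟩ := Module.projective_lifting_property f LinearMap.id hsurj
  have hfg : ∀ q, f (g q) = q := fun q => LinearMap.congr_fun hg q
  let e : P →ₗ[R] P := LinearMap.id - g ∘ₗ f
  have he_mem : ∀ x, e x ∈ LinearMap.ker f := by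
    intro x
    simp [e, hfg]
  let e' : P →ₗ[R] LinearMap.ker f := e.codRestrict _ he_mem
  have he'_id : ∀ x : LinearMap.ker f, e' x = x := by
    intro x
    apply Subtype.ext
    have hx : f x.1 = 0 := x.2
    simp [e', e, hx]
  have : Module.Finite R (LinearMap.ker f) :=
    Module.Finite.of_surjective e' (fun x => ⟨x.1, he'_id x⟩)
  have : Subsingleton (S ⊗[R] LinearMap.ker f) := by
    refine ⟨fun x y => ?_⟩
    have h0 : ∀ z : S ⊗[R] LinearMap.ker f, z = 0 := by
      intro z
      have hz1 : LinearMap.lTensor S (LinearMap.ker f).subtype z = 0 := by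
        apply hf.1
        rw [← LinearMap.comp_apply, ← LinearMap.lTensor_comp, map_zero]
        have : f ∘ₗ (LinearMap.ker f).subtype = 0 := by
          ext x
          exact x.2
        rw [this, LinearMap.lTensor_zero, LinearMap.zero_apply]
      have hz2 : LinearMap.lTensor S e' (LinearMap.lTensor S (LinearMap.ker f).subtype z) = z := by
        rw [← LinearMap.comp_apply, ← LinearMap.lTensor_comp]
        have : e' ∘ₗ (LinearMap.ker f).subtype = LinearMap.id := by
          ext x
          simp [he'_id x]
        rw [this, LinearMap.lTensor_id, LinearMap.id_apply]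
      rw [← hz2, hz1, map_zero]
    rw [h0 x, h0 y]
  have : Subsingleton (LinearMap.ker f) := subsingleton_of_tensorProduct hS _
  rw [← LinearMap.ker_eq_bot]
  exact Submodule.eq_bot_of_subsingleton

/-- `Hom` between finite projective modules is projective. -/
theorem projective_linearMap (M : Type*) [AddCommGroup M] [Module R M] [Module.Finite R M]
    [Module.Projective R M] (N : Type*) [AddCommGroup N] [Module R N] [Module.Finite R N]
    [Module.Projective R N] :
    Module.Finite R (M →ₗ[R] N) ∧ Module.Projective R (M →ₗ[R] N) := by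
  obtain ⟨m, πM, hπM⟩ := Module.Finite.exists_fin' R M
  obtain ⟨n, πN, hπN⟩ := Module.Finite.exists_fin' R N
  obtain ⟨sM, hsM⟩ := Module.projective_lifting_property πM LinearMap.id hπM
  obtain ⟨sN, hsN⟩ := Module.projective_lifting_property πN LinearMap.id hπN
  let i : (M →ₗ[R] N) →ₗ[R] ((Fin m → R) →ₗ[R] (Fin n → R)) :=
    { toFun := fun φ => sN ∘ₗ φ ∘ₗ πM
      map_add' := fun φ ψ => by
        ext x
        simp
      map_smul' := fun r φ => by
        ext x
        simp }
  let s : ((Fin m → R) →ₗ[R] (Fin n → R)) →ₗ[R] (M →ₗ[R] N) :=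
    { toFun := fun ψ => πN ∘ₗ ψ ∘ₗ sM
      map_add' := fun φ ψ => by
        ext x
        simp
      map_smul' := fun r φ => by
        ext x
        simp }
  have hsi : s ∘ₗ i = LinearMap.id := by
    ext φ x
    have h1 : ∀ y, πN (sN y) = y := fun y => LinearMap.congr_fun hsN y
    have h2 : ∀ y, πM (sM y) = y := fun y => LinearMap.congr_fun hsM y
    simp [i, s, h1, h2]
  refine ⟨?_, Module.Projective.of_split i s hsi⟩
  exact Module.Finite.of_surjective s (fun φ => ⟨i φ, LinearMap.congr_fun hsi φ⟩)

variable {R S} in
/-- Descent of Azumaya algebras along a ring map surjective on spectra, for finite projective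
algebras. -/
theorem isAzumaya_of_tensorProduct
    (hS : Function.Surjective (PrimeSpectrum.comap (algebraMap R S)))
    (B : Type w) [Ring B] [Algebra R B] [Module.Finite R B] [Module.Projective R B]
    [IsAzumaya S (S ⊗[R] B)] : IsAzumaya R B := by
  -- the annihilator of `B` dies in `S`
  have hann : ∀ t : R, (∀ b : B, t • b = 0) → algebraMap R S t = 0 := by
    intro t ht
    have hS' : ∀ x : S ⊗[R] B, algebraMap R S t • x = (0 : S) • x := by
      intro x
      induction x using TensorProduct.induction_on with
      | zero => simp
      | add x y hx hy => rw [smul_add, smul_add, hx, hy]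
      | tmul s b =>
        rw [algebraMap_smul, TensorProduct.smul_tmul', TensorProduct.smul_tmul, ht b,
          TensorProduct.tmul_zero, zero_smul]
    exact FaithfulSMul.eq_of_smul_eq_smul (α := S ⊗[R] B) hS'
  -- `B` is faithfully flat
  have hff : Module.FaithfullyFlat R B := by
    refine ⟨fun m hm htop => ?_⟩
    obtain ⟨t, ht1, ht2⟩ := Submodule.exists_sub_one_mem_and_smul_eq_zero_of_fg_of_le_smul m
      (⊤ : Submodule R B) Module.Finite.fg_top (le_of_eq htop.symm)
    have ht0 : algebraMap R S t = 0 := hann t (fun b => ht2 b Submodule.mem_top)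
    obtain ⟨q, hq⟩ := hS ⟨m, hm.isPrime⟩
    have hqm : m = Ideal.comap (algebraMap R S) q.asIdeal := by
      rw [← PrimeSpectrum.comap_asIdeal (algebraMap R S) q, hq]
    have htm : t ∈ m := by
      rw [hqm, Ideal.mem_comap, ht0]
      exact zero_mem _
    apply hm.ne_top
    rw [Ideal.eq_top_iff_one]
    have := m.sub_mem htm ht1
    simpa using this
  have hfaith : FaithfulSMul R B := by
    refine ⟨fun {r₁ r₂} h => ?_⟩
    have h0 : (r₁ - r₂) • (LinearMap.id : R →ₗ[R] R) = 0 := by
      rw [Module.FaithfullyFlat.zero_iff_lTensor_zero R B]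
      apply TensorProduct.ext'
      intro b x
      simp only [LinearMap.lTensor_tmul, LinearMap.smul_apply, LinearMap.id_apply,
        LinearMap.zero_apply]
      rw [TensorProduct.tmul_smul, TensorProduct.smul_tmul', sub_smul, h b, sub_self,
        TensorProduct.zero_tmul]
    have := LinearMap.congr_fun h0 1
    simpa [sub_eq_zero] using this
  obtain ⟨hEfin, hEproj⟩ := projective_linearMap R B B
  refine { bij := ?_ }
  obtain ⟨E, G, hEG⟩ := Groth.Agent.H97.FFDescent.mulLeftRight_square R S B
  have hbijS : Function.Bijective (AlgHom.mulLeftRight S (S ⊗[R] B)) := IsAzumaya.bij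
  have h1 : Function.Bijective
      (fun x => G (LinearMap.lTensor S (AlgHom.mulLeftRight R B).toLinearMap x)) := by
    have : (fun x => G (LinearMap.lTensor S (AlgHom.mulLeftRight R B).toLinearMap x)) =
        (AlgHom.mulLeftRight S (S ⊗[R] B)) ∘ E := by
      funext x
      exact (hEG x).symm
    rw [this]
    exact hbijS.comp E.bijective
  have h2 : Function.Bijective (LinearMap.lTensor S (AlgHom.mulLeftRight R B).toLinearMap) := by
    have : (fun x => G (LinearMap.lTensor S (AlgHom.mulLeftRight R B).toLinearMap x)) =
        G ∘ (LinearMap.lTensor S (AlgHom.mulLeftRight R B).toLinearMap) := rfl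
    rw [this] at h1
    exact (Function.Bijective.of_comp_iff' G.bijective _).mp h1
  exact bijective_of_lTensor_bijective hS (AlgHom.mulLeftRight R B).toLinearMap h2

end Groth.Agent.H97.SpecSurj
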