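import Groth.Agent.H97.PathCx

/-!
# Injective resolutions mapping termwise-split onto a given resolution
-/

open CategoryTheory Limits ZeroObject HomologicalComplex

namespace Groth.Agent.H97.PathCx

universe v u

variable {C : Type u} [Category.{v} C] [Abelian C]

/-- `inl : L ⟶ L ⊞ P K` is a homotopy equivalence. -/
noncomputable def inlEquiv (L K : CochainComplex C ℕ) : HomotopyEquiv L (L ⊞ P K) where
  hom := biprod.inl
  inv := biprod.fst
  homotopyHomInvId := Homotopy.ofEq (by simp)
  homotopyInvHomId := by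
    have H : Homotopy ((biprod.snd : L ⊞ P K ⟶ P K) ≫ 𝟙 (P K) ≫ (biprod.inr : P K ⟶ L ⊞ P K))
        (biprod.snd ≫ 0 ≫ biprod.inr) := ((contract K).compRight biprod.inr).compLeft biprod.snd
    have H' : Homotopy ((biprod.snd : L ⊞ P K ⟶ P K) ≫ (biprod.inr : P K ⟶ L ⊞ P K)) 0 :=
      (Homotopy.ofEq (by simp)).trans (H.trans (Homotopy.ofEq (by simp)))
    exact (Homotopy.ofEq (by simp)).trans
      (((Homotopy.refl ((biprod.fst : L ⊞ P K ⟶ L) ≫ biprod.inl)).add H'.symm).trans
        (Homotopy.ofEq biprod.total))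

/-- a reshuffling isomorphism -/
noncomputable def shuffle {A X Y : C} (b : A ⟶ X) : A ⊞ (X ⊞ Y) ≅ X ⊞ (A ⊞ Y) where
  hom := biprod.lift (biprod.desc b biprod.fst)
    (biprod.desc biprod.inl (biprod.snd ≫ biprod.inr))
  inv := biprod.lift (biprod.snd ≫ biprod.fst)
    (biprod.lift (biprod.fst - biprod.snd ≫ biprod.fst ≫ b) (biprod.snd ≫ biprod.snd))
  hom_inv_id := by
    ext <;> simp
  inv_hom_id := by
    ext <;> simp


lemma shuffle_hom_fst {A X Y : C} (b : A ⟶ X) :
    (shuffle (Y := Y) b).hom ≫ biprod.fst = biprod.desc b biprod.fst := by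
  simp [shuffle]

instance injective_prevX (K : CochainComplex C ℕ) [∀ n, Injective (K.X n)] (n : ℕ) :
    Injective (prevX K n) := by
  cases n with
  | zero => exact Injective.zero_injective
  | succ n => exact inferInstanceAs (Injective (K.X n))

/-- the (definitional) identification of the terms of `P K` -/
noncomputable def PXIso (K : CochainComplex C ℕ) (p : ℕ) : (P K).X p ≅ K.X p ⊞ prevX K p :=
  Iso.refl _

lemma π_f (K : CochainComplex C ℕ) (p : ℕ) : (π K).f p = (PXIso K p).hom ≫ biprod.fst :=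
  (Category.id_comp _).symm

lemma desc_f {K L M : CochainComplex C ℕ} (a : K ⟶ M) (b : L ⟶ M) (p : ℕ) :
    (biprod.desc a b).f p = (biprodXIso K L p).hom ≫ biprod.desc (a.f p) (b.f p) := by
  apply biprodX_ext_from
  · rw [biprod_inl_desc_f, ← inl_biprodXIso_inv, Category.assoc, Iso.inv_hom_id_assoc,
      biprod.inl_desc]
  · rw [biprod_inr_desc_f, ← inr_biprodXIso_inv, Category.assoc, Iso.inv_hom_id_assoc,
      biprod.inr_desc]

theorem exists_resolution [EnoughInjectives C] {G F : C} (α : G ⟶ F)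
    (I : InjectiveResolution F) :
    ∃ (J : InjectiveResolution G) (β : J.cocomplex ⟶ I.cocomplex),
      J.ι ≫ β = (CochainComplex.single₀ C).map α ≫ I.ι ∧
      ∀ p : ℕ, ∃ (K : C) (e : J.cocomplex.X p ≅ I.cocomplex.X p ⊞ K),
        β.f p = e.hom ≫ biprod.fst := by
  let J0 : InjectiveResolution G := InjectiveResolution.of G
  let β0 := InjectiveResolution.desc α I J0
  have hβ0 : J0.ι ≫ β0 = (CochainComplex.single₀ C).map α ≫ I.ι :=
    InjectiveResolution.desc_commutes α I J0
  let L := J0.cocomplex ⊞ P I.cocomplex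
  haveI : QuasiIso (biprod.inl : J0.cocomplex ⟶ L) :=
    (inlEquiv J0.cocomplex I.cocomplex).quasiIso_hom
  haveI hinj : ∀ n, Injective (L.X n) := fun n =>
    Injective.of_iso (biprodXIso J0.cocomplex (P I.cocomplex) n).symm
      (inferInstanceAs (Injective (J0.cocomplex.X n ⊞
        (I.cocomplex.X n ⊞ prevX I.cocomplex n))))
  let J : InjectiveResolution G :=
    { cocomplex := L
      injective := hinj
      ι := J0.ι ≫ biprod.inl
      quasiIso := inferInstance }
  refine ⟨J, biprod.desc β0 (π I.cocomplex), ?_, ?_⟩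
  · show (J0.ι ≫ biprod.inl) ≫ biprod.desc β0 (π I.cocomplex) = _
    rw [Category.assoc, biprod.inl_desc, hβ0]
  · intro p
    refine ⟨J0.cocomplex.X p ⊞ prevX I.cocomplex p,
      (biprodXIso J0.cocomplex (P I.cocomplex) p) ≪≫
        biprod.mapIso (Iso.refl _) (PXIso I.cocomplex p) ≪≫ shuffle (β0.f p), ?_⟩
    rw [desc_f, π_f]
    simp only [Iso.trans_hom, Category.assoc, shuffle_hom_fst, biprod.mapIso_hom, Iso.refl_hom]
    congr 1
    ext <;> simp

end Groth.Agent.H97.PathCx
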