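import Mathlib

/-!
# Surjective endomorphisms of finitely presented algebras are bijective

Noetherian descent through `Algebra.Presentation.HasCoeffs`.
-/

namespace Groth.Agent.H97.SurjEndo

open MvPolynomial TensorProduct

theorem ringEndo_injective {S : Type*} [CommRing S] [IsNoetherianRing S]
    (f : S →+* S) (hf : Function.Surjective f) : Function.Injective f := by
  let K : ℕ →o Ideal S :=
    ⟨fun n => RingHom.ker (f ^ n), fun m n hmn x hx => by
      obtain ⟨d, rfl⟩ := Nat.exists_eq_add_of_le hmn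
      rw [RingHom.mem_ker] at hx ⊢
      rw [add_comm, pow_add, RingHom.mul_def, RingHom.comp_apply, hx, map_zero]⟩
  obtain ⟨n, hn⟩ := monotone_stabilizes_iff_noetherian.mpr (inferInstance : IsNoetherian S S) K
  rw [injective_iff_map_eq_zero]
  intro x hx
  have hsurj : Function.Surjective (f ^ n) := by
    rw [RingHom.coe_pow]; exact hf.iterate n
  obtain ⟨y, rfl⟩ := hsurj x
  have h1 : y ∈ K (n + 1) := by
    show y ∈ RingHom.ker (f ^ (n + 1))
    rw [RingHom.mem_ker, pow_succ', RingHom.mul_def, RingHom.comp_apply, hx]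
  rw [← hn (n + 1) (Nat.le_succ n)] at h1
  exact h1

variable {R : Type*} [CommRing R] {R' : Type*} [CommRing R'] [Algebra R R']

theorem transport {R₁ R S₀ R' : Type*} [CommRing R₁] [CommRing R] [CommRing S₀] [CommRing R']
    [Algebra R₁ R] [Algebra R₁ S₀] [Algebra R R'] (e : R ⊗[R₁] S₀ ≃ₐ[R] R') (α₀ : S₀ ≃ₐ[R₁] S₀)
    (α : R' →ₐ[R] R') (h : ∀ a b, α (e (a ⊗ₜ b)) = e (a ⊗ₜ α₀ b)) : Function.Injective α := by
  let T' : R ⊗[R₁] S₀ ≃ₐ[R] R ⊗[R₁] S₀ := Algebra.TensorProduct.congr AlgEquiv.refl α₀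
  have hcomm : ∀ y, α (e y) = e (T' y) := by
    intro y
    induction y using TensorProduct.induction_on with
    | zero => simp
    | add x y hx hy => simp only [map_add, hx, hy]
    | tmul a b => rw [h]; rfl
  rw [injective_iff_map_eq_zero]
  intro x hx
  obtain ⟨y, rfl⟩ := e.surjective x
  rw [hcomm] at hx
  have h1 : T' y = 0 := by
    apply e.injective
    rw [hx, map_zero]
  have h2 : y = 0 := by
    apply T'.injective
    rw [h1, map_zero]
  rw [h2, map_zero]

section
variable {ι σ : Type*} [Fintype ι] [Fintype σ] (P : Algebra.Presentation R R' ι σ)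
  (α : R' →ₐ[R] R') (hα : Function.Surjective α)


include hα in
theorem exists_data : ∃ (g h : ι → MvPolynomial ι R) (c : ι → σ → MvPolynomial ι R)
    (d : σ → σ → MvPolynomial ι R),
    (∀ i, aeval P.val (g i) = α (P.val i)) ∧
    (∀ i, X i - bind₁ g (h i) = ∑ j, c i j * P.relation j) ∧
    (∀ j, bind₁ g (P.relation j) = ∑ l, d j l * P.relation l) := by
  have hsurj : Function.Surjective (aeval P.val : MvPolynomial ι R →ₐ[R] R') :=
    P.aeval_val_surjective
  choose g hg using fun i => hsurj (α (P.val i))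
  have hαg : ∀ p : MvPolynomial ι R, α (aeval P.val p) = aeval P.val (bind₁ g p) := by
    intro p
    rw [aeval_bind₁, ← AlgHom.comp_apply, comp_aeval]
    congr 1
    ext i
    simp [hg]
  choose h hh using fun i => hsurj ((hα (P.val i)).choose)
  have hh' : ∀ i, α (aeval P.val (h i)) = P.val i := fun i => by
    rw [hh]; exact (hα (P.val i)).choose_spec
  have hker : ∀ p : MvPolynomial ι R, aeval P.val p = 0 → ∃ c : σ → MvPolynomial ι R,
      p = ∑ j, c j * P.relation j := by
    intro p hp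
    have : p ∈ Ideal.span (Set.range P.relation) := by
      rw [P.span_range_relation_eq_ker, Algebra.Generators.ker_eq_ker_aeval_val]
      exact hp
    obtain ⟨c, hc⟩ := (Ideal.mem_span_range_iff_exists_fun).mp this
    exact ⟨c, hc.symm⟩
  have h1 : ∀ i, ∃ c : σ → MvPolynomial ι R, X i - bind₁ g (h i) = ∑ j, c j * P.relation j := by
    intro i
    apply hker
    rw [map_sub, ← hαg, hh', aeval_X, sub_self]
  have h2 : ∀ j, ∃ c : σ → MvPolynomial ι R, bind₁ g (P.relation j) = ∑ l, c l * P.relation l := by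
    intro j
    apply hker
    rw [← hαg, P.aeval_val_relation, map_zero]
  choose c hc using h1
  choose d hd using h2
  exact ⟨g, h, c, d, hg, hc, hd⟩

include hα P in
theorem injective_of_presentation : Function.Injective α := by
  classical
  obtain ⟨g, h, c, d, hg, hc, hd⟩ := exists_data P α hα
  -- the finite set of coefficients
  let T : Set R := P.coeffs ∪ (⋃ i, ((g i).coeffs : Set R)) ∪ (⋃ i, ((h i).coeffs : Set R)) ∪
    (⋃ i, ⋃ j, ((c i j).coeffs : Set R)) ∪ (⋃ j, ⋃ l, ((d j l).coeffs : Set R))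
  have hT : T.Finite := by
    refine Set.Finite.union (Set.Finite.union (Set.Finite.union (Set.Finite.union
      P.finite_coeffs ?_) ?_) ?_) ?_
    · exact Set.finite_iUnion fun _ => Finset.finite_toSet _
    · exact Set.finite_iUnion fun _ => Finset.finite_toSet _
    · exact Set.finite_iUnion fun _ => Set.finite_iUnion fun _ => Finset.finite_toSet _
    · exact Set.finite_iUnion fun _ => Set.finite_iUnion fun _ => Finset.finite_toSet _
  let R₁ : Subalgebra ℤ R := Algebra.adjoin ℤ T
  have : Algebra.FiniteType ℤ R₁ := .adjoin_of_finite hT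
  have : IsNoetherianRing R₁ := Algebra.FiniteType.isNoetherianRing ℤ R₁
  have hrange : ∀ x ∈ T, x ∈ Set.range (algebraMap R₁ R) := fun x hx =>
    ⟨⟨x, Algebra.subset_adjoin hx⟩, rfl⟩
  have : P.HasCoeffs R₁ := ⟨fun x hx => hrange x (by
    simp only [T, Set.mem_union]; exact Or.inl (Or.inl (Or.inl (Or.inl hx))))⟩
  have hφ : Function.Injective (algebraMap R₁ R) := FaithfulSMul.algebraMap_injective R₁ R
  have hlift : ∀ p : MvPolynomial ι R, ((p.coeffs : Set R) ⊆ T) →
      ∃ p₀ : MvPolynomial ι R₁, MvPolynomial.map (algebraMap R₁ R) p₀ = p := by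
    intro p hp
    have : p ∈ Set.range (MvPolynomial.map (algebraMap R₁ R)) := by
      rw [MvPolynomial.mem_range_map_iff_coeffs_subset]
      exact fun x hx => hrange x (hp hx)
    exact this
  choose g₀ hg₀ using fun i => hlift (g i) (fun x hx => by
    simp only [T, Set.mem_union, Set.mem_iUnion]
    exact Or.inl (Or.inl (Or.inl (Or.inr ⟨i, hx⟩))))
  choose h₀ hh₀ using fun i => hlift (h i) (fun x hx => by
    simp only [T, Set.mem_union, Set.mem_iUnion]
    exact Or.inl (Or.inl (Or.inr ⟨i, hx⟩)))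
  choose c₀ hc₀ using fun i j => hlift (c i j) (fun x hx => by
    simp only [T, Set.mem_union, Set.mem_iUnion]
    exact Or.inl (Or.inr ⟨i, j, hx⟩))
  choose d₀ hd₀ using fun j l => hlift (d j l) (fun x hx => by
    simp only [T, Set.mem_union, Set.mem_iUnion]
    exact Or.inr ⟨j, l, hx⟩)
  set φ := algebraMap R₁ R with hφdef
  have hrel : ∀ j, MvPolynomial.map φ (P.relationOfHasCoeffs R₁ j) = P.relation j :=
    fun j => P.map_relationOfHasCoeffs R₁ j
  -- identities over R₁
  have hbind : ∀ p : MvPolynomial ι R₁,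
      MvPolynomial.map φ (bind₁ g₀ p) = bind₁ g (MvPolynomial.map φ p) := by
    intro p
    rw [map_bind₁]
    congr 2
    ext1 i
    exact hg₀ i
  have hd' : ∀ j, bind₁ g₀ (P.relationOfHasCoeffs R₁ j) =
      ∑ l, d₀ j l * P.relationOfHasCoeffs R₁ l := by
    intro j
    apply MvPolynomial.map_injective φ hφ
    rw [hbind, hrel, hd, map_sum]
    refine Finset.sum_congr rfl fun l _ => ?_
    rw [map_mul, hd₀, hrel]
  have hc' : ∀ i, X i - bind₁ g₀ (h₀ i) = ∑ j, c₀ i j * P.relationOfHasCoeffs R₁ j := by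
    intro i
    apply MvPolynomial.map_injective φ hφ
    rw [map_sub, hbind, hh₀, MvPolynomial.map_X, hc, map_sum]
    refine Finset.sum_congr rfl fun l _ => ?_
    rw [map_mul, hc₀, hrel]
  set I₀ : Ideal (MvPolynomial ι R₁) := Ideal.span (Set.range (P.relationOfHasCoeffs R₁)) with hI₀
  have hsum_mem : ∀ (f : σ → MvPolynomial ι R₁), ∑ l, f l * P.relationOfHasCoeffs R₁ l ∈ I₀ :=
    fun f => Ideal.sum_mem _ fun l _ => Ideal.mul_mem_left _ _ (Ideal.subset_span ⟨l, rfl⟩)
  let β : MvPolynomial ι R₁ →ₐ[R₁] P.ModelOfHasCoeffs R₁ :=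
    (Ideal.Quotient.mkₐ R₁ I₀).comp (bind₁ g₀)
  have hβ : ∀ a ∈ I₀, β a = 0 := by
    intro a ha
    have hle : I₀ ≤ RingHom.ker β.toRingHom := by
      rw [hI₀, Ideal.span_le]
      rintro _ ⟨j, rfl⟩
      show β (P.relationOfHasCoeffs R₁ j) = 0
      show Ideal.Quotient.mk I₀ (bind₁ g₀ (P.relationOfHasCoeffs R₁ j)) = 0
      rw [Ideal.Quotient.eq_zero_iff_mem, hd']
      exact hsum_mem _
    exact hle ha
  let α₀ : P.ModelOfHasCoeffs R₁ →ₐ[R₁] P.ModelOfHasCoeffs R₁ := Ideal.Quotient.liftₐ I₀ β hβ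
  have hα₀mk : ∀ p, α₀ (Ideal.Quotient.mk I₀ p) = Ideal.Quotient.mk I₀ (bind₁ g₀ p) := fun p => rfl
  have hα₀surj : Function.Surjective α₀ := by
    have hX : ∀ i, Ideal.Quotient.mk I₀ (X i) ∈ α₀.range := by
      intro i
      refine ⟨Ideal.Quotient.mk I₀ (h₀ i), ?_⟩
      show α₀ (Ideal.Quotient.mk I₀ (h₀ i)) = _
      rw [hα₀mk]
      symm
      rw [Ideal.Quotient.eq, hc']
      exact hsum_mem _
    intro s
    obtain ⟨p, rfl⟩ := Ideal.Quotient.mk_surjective s
    show Ideal.Quotient.mk I₀ p ∈ α₀.range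
    induction p using MvPolynomial.induction_on with
    | C a =>
      refine ⟨algebraMap R₁ _ a, ?_⟩
      show α₀ (algebraMap R₁ _ a) = _
      rw [AlgHom.commutes]; rfl
    | add p q hp hq => rw [map_add]; exact add_mem hp hq
    | mul_X p i hp => rw [map_mul]; exact mul_mem hp (hX i)
  have hα₀inj : Function.Injective α₀ := ringEndo_injective α₀.toRingHom hα₀surj
  let α₀' : P.ModelOfHasCoeffs R₁ ≃ₐ[R₁] P.ModelOfHasCoeffs R₁ :=
    AlgEquiv.ofBijective α₀ ⟨hα₀inj, hα₀surj⟩
  have hkey : ∀ p : MvPolynomial ι R₁, α (aeval P.val p) = aeval P.val (bind₁ g₀ p) := by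
    intro p
    rw [aeval_bind₁]
    have : α (aeval P.val p) = ((α.restrictScalars R₁).comp (aeval P.val)) p := rfl
    rw [this, comp_aeval]
    congr 2
    ext1 i
    show α (P.val i) = _
    rw [← hg, ← hg₀, aeval_map_algebraMap]
  refine transport (P.tensorModelOfHasCoeffsEquiv R₁) α₀' α ?_
  intro a b
  obtain ⟨p, rfl⟩ := Ideal.Quotient.mk_surjective b
  have h1 : α₀' (Ideal.Quotient.mk I₀ p) = Ideal.Quotient.mk I₀ (bind₁ g₀ p) := rfl
  rw [h1]
  erw [P.tensorModelOfHasCoeffsEquiv_tmul, P.tensorModelOfHasCoeffsEquiv_tmul]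
  rw [map_mul, AlgHom.commutes, hkey]
end

theorem bijective_of_surjective [Algebra.FinitePresentation R R']
    (α : R' →ₐ[R] R') (hα : Function.Surjective α) : Function.Bijective α :=
  ⟨injective_of_presentation (Algebra.Presentation.ofFinitePresentation R R') α hα, hα⟩

end Groth.Agent.H97.SurjEndo
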