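import Mathlib

/-!
Top exterior power of `R^n / R·a`: annihilator is `(a_1, …, a_n)`, and the module is free of
rank `n - 1` at primes not containing this ideal.
-/

set_option autoImplicit false

namespace Groth.Agent.H97.TopExt

open Function

section Cramer

variable {R M N ι : Type*} [CommRing R] [AddCommGroup M] [Module R M] [AddCommGroup N]
  [Module R N] [Fintype ι] [DecidableEq ι]

/-- Cramer-type vanishing: a linear relation among the arguments of an alternating map kills the
value after multiplying by any coefficient of the relation. -/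
lemma smul_eq_zero_of_sum_smul_eq_zero (f : M [⋀^ι]→ₗ[R] N) (v : ι → M) (c : ι → R)
    (h : ∑ j, c j • v j = 0) (k : ι) : c k • f v = 0 := by
  have h1 : c k • v k = ∑ j ∈ Finset.univ.erase k, (-(c j)) • v j := by
    rw [← Finset.add_sum_erase _ _ (Finset.mem_univ k)] at h
    simp only [neg_smul, Finset.sum_neg_distrib]
    exact eq_neg_of_add_eq_zero_left h
  calc c k • f v = f (Function.update v k (c k • v k)) := by
        rw [f.map_update_smul, Function.update_eq_self]
    _ = ∑ j ∈ Finset.univ.erase k, f (Function.update v k ((-(c j)) • v j)) := by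
        rw [h1, f.map_update_sum]
    _ = 0 := by
        apply Finset.sum_eq_zero
        intro j hj
        rw [f.map_update_smul, f.map_update_self _ (Finset.ne_of_mem_erase hj).symm, smul_zero]

end Cramer

variable (R : Type*) [CommRing R] (n : ℕ) (a : Fin n → R)

/-- The quotient `R^n / R·a`. -/
abbrev F := (Fin n → R) ⧸ Submodule.span R {a}

lemma smul_eq_zero (i : Fin n) (x : ⋀[R]^n (F R n a)) : a i • x = 0 := by
  classical
  set π := Submodule.mkQ (Submodule.span R {a}) with hπ
  -- the alternating map G = ιMulti ∘ π
  set G : (Fin n → R) [⋀^Fin n]→ₗ[R] ⋀[R]^n (F R n a) :=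
    (exteriorPower.ιMulti R n (M := F R n a)).compLinearMap π with hG
  have hG0 : a i • G = 0 := by
    refine (Pi.basisFun R (Fin n)).ext_alternating (fun σ hσ => ?_)
    have hσb : Function.Bijective σ := Finite.injective_iff_bijective.mp hσ
    obtain ⟨k, hk⟩ := hσb.2 i
    simp only [AlternatingMap.smul_apply, AlternatingMap.zero_apply, hG,
      AlternatingMap.compLinearMap_apply]
    have hrel : ∑ j, (a (σ j)) • π ((Pi.basisFun R (Fin n)) (σ j)) = 0 := by
      have h1 : ∑ j, (a (σ j)) • π ((Pi.basisFun R (Fin n)) (σ j)) =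
          π (∑ j, a j • (Pi.basisFun R (Fin n)) j) := by
        rw [map_sum]
        simp only [map_smul]
        exact Fintype.sum_bijective σ hσb _ _ (fun j => rfl)
      rw [h1]
      have h2 : ∑ j, a j • (Pi.basisFun R (Fin n)) j = a := by
        ext t
        simp [Pi.basisFun_apply, Pi.single_apply]
      rw [h2, hπ, Submodule.mkQ_apply, Submodule.Quotient.mk_eq_zero]
      exact Submodule.mem_span_singleton_self a
    have := smul_eq_zero_of_sum_smul_eq_zero (exteriorPower.ιMulti R n (M := F R n a))
      (fun j => π ((Pi.basisFun R (Fin n)) (σ j))) (fun j => a (σ j)) hrel k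
    rw [hk] at this
    exact this
  have hspan := exteriorPower.ιMulti_span R n (F R n a)
  have hx : x ∈ Submodule.span R (Set.range (exteriorPower.ιMulti R n (M := F R n a))) := by
    rw [hspan]; trivial
  induction hx using Submodule.span_induction with
  | mem y hy =>
    obtain ⟨v, rfl⟩ := hy
    have hsurj : Function.Surjective π := Submodule.mkQ_surjective _
    choose w hw using fun j => hsurj (v j)
    have : exteriorPower.ιMulti R n v = G w := by
      simp only [hG, AlternatingMap.compLinearMap_apply]
      congr 1
      funext j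
      exact (hw j).symm
    rw [this, ← AlternatingMap.smul_apply, hG0, AlternatingMap.zero_apply]
  | zero => simp
  | add y z _ _ hy hz => rw [smul_add, hy, hz, add_zero]
  | smul r y _ hy => rw [smul_comm, hy, smul_zero]


/-- Reduction of coordinates mod `I = (a_1, …, a_n)`, a linear map `R^n → (R/I)^n`. -/
noncomputable def redMap : (Fin n → R) →ₗ[R] (Fin n → R ⧸ Ideal.span (Set.range a)) :=
  (Ideal.Quotient.mkₐ R (Ideal.span (Set.range a))).toLinearMap.compLeft (Fin n)

lemma redMap_apply (w : Fin n → R) (j : Fin n) :
    redMap R n a w j = Ideal.Quotient.mk (Ideal.span (Set.range a)) (w j) := rfl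

lemma span_le_ker_redMap : Submodule.span R {a} ≤ LinearMap.ker (redMap R n a) := by
  rw [Submodule.span_le, Set.singleton_subset_iff, SetLike.mem_coe, LinearMap.mem_ker]
  funext j
  rw [redMap_apply, Pi.zero_apply, Ideal.Quotient.eq_zero_iff_mem]
  exact Ideal.subset_span ⟨j, rfl⟩

/-- The induced map `R^n / R·a → (R/I)^n`. -/
noncomputable def redMapQ : F R n a →ₗ[R] (Fin n → R ⧸ Ideal.span (Set.range a)) :=
  Submodule.liftQ _ (redMap R n a) (span_le_ker_redMap R n a)

/-- The determinant over `R/I` as an `R`-alternating map. -/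
noncomputable def detAlt :
    (Fin n → R ⧸ Ideal.span (Set.range a)) [⋀^Fin n]→ₗ[R] (R ⧸ Ideal.span (Set.range a)) :=
  { (Matrix.detRowAlternating (R := R ⧸ Ideal.span (Set.range a))
      (n := Fin n)).toMultilinearMap.restrictScalars R with
    map_eq_zero_of_eq' := fun v i j h hij =>
      (Matrix.detRowAlternating (R := R ⧸ Ideal.span (Set.range a))
        (n := Fin n)).map_eq_zero_of_eq v h hij }

lemma detAlt_apply (v : Fin n → Fin n → R ⧸ Ideal.span (Set.range a)) :
    detAlt R n a v = Matrix.det (Matrix.of v) := rfl

/-- The "determinant mod `I`" functional on the top exterior power. -/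
noncomputable def detFun : ⋀[R]^n (F R n a) →ₗ[R] (R ⧸ Ideal.span (Set.range a)) :=
  exteriorPower.alternatingMapLinearEquiv ((detAlt R n a).compLinearMap (redMapQ R n a))

lemma detFun_omega :
    detFun R n a (exteriorPower.ιMulti R n
      (fun j => Submodule.mkQ (Submodule.span R {a}) (Pi.single j 1))) = 1 := by
  classical
  rw [detFun, exteriorPower.alternatingMapLinearEquiv_apply_ιMulti]
  simp only [AlternatingMap.compLinearMap_apply, detAlt_apply]
  have : Matrix.of
      (fun j => redMapQ R n a (Submodule.mkQ (Submodule.span R {a}) (Pi.single j 1))) =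
      (1 : Matrix (Fin n) (Fin n) (R ⧸ Ideal.span (Set.range a))) := by
    ext j t
    rw [Matrix.of_apply]
    simp only [redMapQ, Submodule.mkQ_apply, Submodule.liftQ_apply, redMap_apply,
      Matrix.one_apply, Pi.single_apply]
    split_ifs with h1 h2 h2
    · simp
    · exact absurd h1.symm h2
    · exact absurd h2.symm h1
    · simp
  rw [this]
  exact Matrix.det_one

theorem annihilator_eq :
    (⋀[R]^n (F R n a)).annihilator = Ideal.span (Set.range a) := by
  apply le_antisymm
  · intro r hr
    rw [Module.mem_annihilator] at hr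
    have h := hr (exteriorPower.ιMulti R n
      (fun j => Submodule.mkQ (Submodule.span R {a}) (Pi.single j 1)))
    have h2 := congrArg (detFun R n a) h
    rw [map_smul, detFun_omega, map_zero, Algebra.smul_def, mul_one,
      Ideal.Quotient.algebraMap_eq, Ideal.Quotient.eq_zero_iff_mem] at h2
    exact h2
  · rw [Ideal.span_le]
    rintro _ ⟨i, rfl⟩
    rw [SetLike.mem_coe, Module.mem_annihilator]
    exact smul_eq_zero R n a i


section Local

variable (p : PrimeSpectrum R) (i : Fin n)

/-- Extension by zero at the coordinate `i`. -/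
noncomputable def ext : ({j : Fin n // j ≠ i} → R) →ₗ[R] (Fin n → R) :=
  LinearMap.pi fun j => if h : j = i then 0 else LinearMap.proj ⟨j, h⟩

lemma ext_apply_self (x : {j : Fin n // j ≠ i} → R) : ext R n i x i = 0 := by
  simp [ext]

lemma ext_apply_ne (x : {j : Fin n // j ≠ i} → R) (j : Fin n) (h : j ≠ i) :
    ext R n i x j = x ⟨j, h⟩ := by
  simp [ext, h]

/-- The comparison map from the free module on the coordinates `≠ i` to the localization of
`R^n / R·a` at `p`. -/
noncomputable def g : ({j : Fin n // j ≠ i} → R) →ₗ[R]
    LocalizedModule p.asIdeal.primeCompl (F R n a) :=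
  LocalizedModule.mkLinearMap p.asIdeal.primeCompl (F R n a) ∘ₗ
    Submodule.mkQ (Submodule.span R {a}) ∘ₗ ext R n i

lemma isLocalizedModule_g (hi : a i ∉ p.asIdeal) :
    IsLocalizedModule p.asIdeal.primeCompl (g R n a p i) := by
  set S := p.asIdeal.primeCompl with hS
  set ℓ := LocalizedModule.mkLinearMap S (F R n a) with hℓ
  set π := Submodule.mkQ (Submodule.span R {a}) with hπ
  have hiS : a i ∈ S := hi
  refine ⟨IsLocalizedModule.map_units ℓ, ?_, ?_⟩
  · intro y
    obtain ⟨⟨z, s'⟩, hz⟩ := IsLocalizedModule.surj S ℓ y
    obtain ⟨w, rfl⟩ := Submodule.mkQ_surjective (Submodule.span R {a}) z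
    refine ⟨(fun j => a i * w j.1 - w i * a j.1, ⟨a i, hiS⟩ * s'), ?_⟩
    have h1 : (⟨a i, hiS⟩ * s' : S) • y = a i • ((s' : S) • y) := by
      rw [Submonoid.smul_def, Submonoid.coe_mul, mul_smul]
      rfl
    simp only at hz ⊢
    rw [h1, hz, g, LinearMap.comp_apply, LinearMap.comp_apply, ← map_smul, ← map_smul]
    congr 1
    rw [← sub_eq_zero, ← map_sub, Submodule.mkQ_apply, Submodule.Quotient.mk_eq_zero,
      Submodule.mem_span_singleton]
    refine ⟨w i, ?_⟩
    funext j
    by_cases hj : j = i
    · subst hj
      simp [ext_apply_self, mul_comm]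
    · simp [ext_apply_ne R n i _ j hj]
  · intro x₁ x₂ h
    simp only [g, LinearMap.comp_apply] at h
    obtain ⟨c, hc⟩ := IsLocalizedModule.exists_of_eq (S := S) (f := ℓ) h
    have hc' : (c : R) • ext R n i (x₁ - x₂) ∈ Submodule.span R {a} := by
      rw [← Submodule.Quotient.mk_eq_zero, Submodule.Quotient.mk_smul, map_sub,
        Submodule.Quotient.mk_sub, smul_sub, sub_eq_zero]
      exact hc
    obtain ⟨r, hr⟩ := Submodule.mem_span_singleton.mp hc'
    have hri : r * a i = 0 := by
      have := congrFun hr i
      simpa [ext_apply_self] using this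
    refine ⟨⟨a i, hiS⟩ * c, ?_⟩
    funext j
    have hrj : r * a j.1 = c * (x₁ j - x₂ j) := by
      have := congrFun hr j.1
      simpa [ext_apply_ne R n i _ j.1 j.2] using this
    have : (a i * c) * (x₁ j - x₂ j) = 0 := by
      rw [mul_assoc, ← hrj, ← mul_assoc, mul_comm (a i) r, hri, zero_mul]
    have h2 : (a i * c) * x₁ j = (a i * c) * x₂ j := by
      rw [mul_sub, sub_eq_zero] at this
      exact this
    simpa [Submonoid.smul_def] using h2

theorem free_localized (hi : a i ∉ p.asIdeal) :
    Module.Free (Localization.AtPrime p.asIdeal)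
      (LocalizedModule p.asIdeal.primeCompl (F R n a)) :=
  haveI := isLocalizedModule_g R n a p i hi
  Module.free_of_isLocalizedModule p.asIdeal.primeCompl (g R n a p i)

theorem finrank_localized (hi : a i ∉ p.asIdeal) :
    Module.finrank (Localization.AtPrime p.asIdeal)
      (LocalizedModule p.asIdeal.primeCompl (F R n a)) = n - 1 := by
  haveI := isLocalizedModule_g R n a p i hi
  haveI : Nontrivial R := p.nontrivial
  rw [Module.finrank_of_isLocalizedModule_of_free (Localization.AtPrime p.asIdeal)
    p.asIdeal.primeCompl (g R n a p i), Module.finrank_fintype_fun_eq_card]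
  simp [Fintype.card_subtype_compl]

end Local

end Groth.Agent.H97.TopExt
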