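import Mathlib

/-!
# Localisation of an integral map at a prime that is alone in its fibre

If `φ : A → B` is integral (resp. finite), `q` a prime of `B` which is the only prime of `B`
over `p = φ⁻¹ q`, then `A_p → B_q` is integral (resp. finite).  Scheme-theoretic versions for
stalk maps follow.
-/

set_option autoImplicit false
universe u

namespace Groth.Agent.H97.UniqPrimeLoc

section Algebra

variable {A B : Type*} [CommRing A] [CommRing B]

theorem exists_mul_eq_map [Algebra A B] [Algebra.IsIntegral A B]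
    (q : Ideal B) (p : Ideal A) [p.IsPrime]
    (huniq : ∀ q' : Ideal B, q'.IsPrime → q'.comap (algebraMap A B) = p → q' = q)
    (s : B) (hs : s ∉ q) : ∃ b' : B, ∃ t : A, t ∉ p ∧ s * b' = algebraMap A B t := by
  by_contra hcon
  push_neg at hcon
  have hdisj : Disjoint (Ideal.span {s} : Set B)
      (Algebra.algebraMapSubmonoid B p.primeCompl : Set B) := by
    rw [Set.disjoint_left]
    rintro x hx ⟨t, ht, rfl⟩
    obtain ⟨b', hb'⟩ := Ideal.mem_span_singleton'.mp hx
    exact hcon b' t ht (by rw [mul_comm]; exact hb')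
  obtain ⟨P, hP, hsP, hPd⟩ := Ideal.exists_le_prime_disjoint _ _ hdisj
  have hPp : P.comap (algebraMap A B) ≤ p := by
    intro a ha
    by_contra hap
    exact Set.disjoint_left.mp hPd ha ⟨a, hap, rfl⟩
  obtain ⟨Q, hQP, hQ, hQp⟩ := Ideal.exists_ideal_over_prime_of_isIntegral p P hPp
  have := huniq Q hQ hQp
  apply hs
  rw [← this]
  exact hQP (hsP (Ideal.mem_span_singleton_self s))

/-- Every element of `B_q` is `ψ(1/t) * (image of b)`. -/
theorem exists_eq_mul (φ : A →+* B) (hφ : φ.IsIntegral)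
    (q : Ideal B) [q.IsPrime] (p : Ideal A) [p.IsPrime] (hpq : p = q.comap φ)
    (huniq : ∀ q' : Ideal B, q'.IsPrime → q'.comap φ = p → q' = q)
    (z : Localization.AtPrime q) :
    ∃ (y : Localization.AtPrime p) (b : B),
      z = Localization.localRingHom p q φ hpq y * algebraMap B (Localization.AtPrime q) b := by
  letI := φ.toAlgebra
  haveI : Algebra.IsIntegral A B := ⟨hφ⟩
  obtain ⟨b, s, rfl⟩ := IsLocalization.exists_mk'_eq q.primeCompl z
  obtain ⟨b', t, ht, hst⟩ := exists_mul_eq_map q p huniq s.1 s.2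
  have ht' : t ∈ p.primeCompl := ht
  refine ⟨IsLocalization.mk' _ 1 (⟨t, ht'⟩ : p.primeCompl), b * b', ?_⟩
  have h1 : φ t = s.1 * b' := hst.symm
  have h2 : algebraMap A (Localization.AtPrime p) t *
      IsLocalization.mk' (Localization.AtPrime p) 1 (⟨t, ht'⟩ : p.primeCompl) = 1 := by
    rw [mul_comm]
    rw [IsLocalization.mk'_spec, map_one]
  have h3 : IsLocalization.mk' (Localization.AtPrime q) b s *
      algebraMap B (Localization.AtPrime q) (φ t) =
      algebraMap B (Localization.AtPrime q) (b * b') := by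
    rw [h1, map_mul, ← mul_assoc, IsLocalization.mk'_spec, map_mul]
  have h4 := congrArg (Localization.localRingHom p q φ hpq) h2
  rw [map_mul, map_one, Localization.localRingHom_to_map] at h4
  calc IsLocalization.mk' (Localization.AtPrime q) b s
      = IsLocalization.mk' (Localization.AtPrime q) b s *
        (algebraMap B (Localization.AtPrime q) (φ t) *
          Localization.localRingHom p q φ hpq
            (IsLocalization.mk' (Localization.AtPrime p) 1 (⟨t, ht'⟩ : p.primeCompl))) := by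
        rw [h4, mul_one]
    _ = _ := by rw [← mul_assoc, h3, mul_comm]

theorem localRingHom_isIntegral (φ : A →+* B) (hφ : φ.IsIntegral)
    (q : Ideal B) [q.IsPrime] (p : Ideal A) [p.IsPrime] (hpq : p = q.comap φ)
    (huniq : ∀ q' : Ideal B, q'.IsPrime → q'.comap φ = p → q' = q) :
    (Localization.localRingHom p q φ hpq).IsIntegral := by
  intro z
  obtain ⟨y, b, rfl⟩ := exists_eq_mul φ hφ q p hpq huniq z
  refine RingHom.IsIntegralElem.mul _ ((Localization.localRingHom p q φ hpq).isIntegralElem_map) ?_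
  letI := φ.toAlgebra
  letI := (Localization.localRingHom p q φ hpq).toAlgebra
  have hb : IsIntegral A b := hφ b
  exact IsIntegral.map_of_comp_eq (algebraMap A (Localization.AtPrime p))
    (algebraMap B (Localization.AtPrime q))
    (by
      ext a
      simp only [RingHom.comp_apply, RingHom.algebraMap_toAlgebra]
      exact Localization.localRingHom_to_map ..) hb

theorem localRingHom_finite (φ : A →+* B) (hφ : φ.Finite)
    (q : Ideal B) [q.IsPrime] (p : Ideal A) [p.IsPrime] (hpq : p = q.comap φ)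
    (huniq : ∀ q' : Ideal B, q'.IsPrime → q'.comap φ = p → q' = q) :
    (Localization.localRingHom p q φ hpq).Finite := by
  have hint : φ.IsIntegral := hφ.to_isIntegral
  letI := φ.toAlgebra
  letI := (Localization.localRingHom p q φ hpq).toAlgebra
  have hfin : Module.Finite A B := hφ
  obtain ⟨s, hs⟩ := hfin.fg_top
  change Module.Finite (Localization.AtPrime p) (Localization.AtPrime q)
  have hb : ∀ b : B, algebraMap B (Localization.AtPrime q) b ∈
      Submodule.span (Localization.AtPrime p) (algebraMap B (Localization.AtPrime q) '' (s : Set B)) := by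
    intro b
    have hbs : b ∈ Submodule.span A (s : Set B) := hs ▸ Submodule.mem_top
    induction hbs using Submodule.span_induction with
    | mem x hx => exact Submodule.subset_span ⟨x, hx, rfl⟩
    | zero => simp
    | add x y _ _ hx hy => rw [map_add]; exact add_mem hx hy
    | smul a x _ hx =>
      have : algebraMap B (Localization.AtPrime q) (a • x) =
          (algebraMap A (Localization.AtPrime p) a) • algebraMap B (Localization.AtPrime q) x := by
        rw [Algebra.smul_def, Algebra.smul_def, map_mul]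
        congr 1
        exact (Localization.localRingHom_to_map ..).symm
      rw [this]
      exact Submodule.smul_mem _ _ hx
  classical
  refine ⟨⟨s.image (algebraMap B (Localization.AtPrime q)), ?_⟩⟩
  rw [eq_top_iff]
  rintro z -
  obtain ⟨y, b, rfl⟩ := exists_eq_mul φ hint q p hpq huniq z
  rw [Finset.coe_image]
  have := Submodule.smul_mem _ y (hb b)
  rwa [Algebra.smul_def] at this

end Algebra

section Scheme
open AlgebraicGeometry CategoryTheory

variable {X Y : Scheme.{u}}

theorem stalkMap_of_unique_prime (f : X ⟶ Y) (x : X) (U : Y.Opens) (hU : IsAffineOpen U)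
    (hV : IsAffineOpen (f ⁻¹ᵁ U)) (hxU : f x ∈ U)
    (huniq : ∀ q' : Ideal Γ(X, f ⁻¹ᵁ U), q'.IsPrime →
      q'.comap (f.appLE U (f ⁻¹ᵁ U) le_rfl).hom = (hU.primeIdealOf ⟨f x, hxU⟩).asIdeal →
      q' = (hV.primeIdealOf ⟨x, hxU⟩).asIdeal) :
    ((f.appLE U (f ⁻¹ᵁ U) le_rfl).hom.IsIntegral → (f.stalkMap x).hom.IsIntegral) ∧
    ((f.appLE U (f ⁻¹ᵁ U) le_rfl).hom.Finite → (f.stalkMap x).hom.Finite) := by
  have e := IsAffineOpen.arrowStalkMapIso f U hU (f ⁻¹ᵁ U) hV le_rfl hxU
  constructor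
  · intro h
    rw [RingHom.isIntegral_respectsIso.arrow_mk_iso_iff e]
    exact localRingHom_isIntegral _ h _ _
      congr($(IsAffineOpen.comap_primeIdealOf_appLE U hU (f ⁻¹ᵁ U) hV le_rfl hxU).1).symm huniq
  · intro h
    rw [RingHom.finite_respectsIso.arrow_mk_iso_iff e]
    exact localRingHom_finite _ h _ _
      congr($(IsAffineOpen.comap_primeIdealOf_appLE U hU (f ⁻¹ᵁ U) hV le_rfl hxU).1).symm huniq

/-- Points of the fibre correspond to primes over `p`: uniqueness of the point gives uniqueness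
of the prime. -/
theorem unique_prime_of_unique_point (f : X ⟶ Y) (x : X) (U : Y.Opens) (hU : IsAffineOpen U)
    (hV : IsAffineOpen (f ⁻¹ᵁ U)) (hxU : f x ∈ U)
    (hx : ∀ x' : X, f x' = f x → x' = x)
    (q' : Ideal Γ(X, f ⁻¹ᵁ U)) (hq' : q'.IsPrime)
    (hq : q'.comap (f.appLE U (f ⁻¹ᵁ U) le_rfl).hom = (hU.primeIdealOf ⟨f x, hxU⟩).asIdeal) :
    q' = (hV.primeIdealOf ⟨x, hxU⟩).asIdeal := by
  set y' : Spec Γ(X, f ⁻¹ᵁ U) := ⟨q', hq'⟩ with hy'
  have h1 : Spec.map (f.appLE U (f ⁻¹ᵁ U) le_rfl) y' = hU.primeIdealOf ⟨f x, hxU⟩ :=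
    PrimeSpectrum.ext hq
  have h2 : f (hV.fromSpec y') = f x := by
    rw [← Scheme.Hom.comp_apply, ← IsAffineOpen.SpecMap_appLE_fromSpec f hU hV le_rfl,
      Scheme.Hom.comp_apply, h1, hU.fromSpec_primeIdealOf]
  have h3 : hV.fromSpec y' = hV.fromSpec (hV.primeIdealOf ⟨x, hxU⟩) := by
    rw [hx _ h2, hV.fromSpec_primeIdealOf]
  have h4 := hV.fromSpec.isOpenEmbedding.injective h3
  rw [← h4]

theorem stalkMap_finite_of_unique_point (f : X ⟶ Y) [IsFinite f] (x : X)
    (hx : ∀ x' : X, f x' = f x → x' = x) : (f.stalkMap x).hom.Finite := by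
  obtain ⟨_, ⟨U, hU : IsAffineOpen U, rfl⟩, hxU, -⟩ :=
    Y.isBasis_affineOpens.exists_subset_of_mem_open (Set.mem_univ (f x)) isOpen_univ
  have hV : IsAffineOpen (f ⁻¹ᵁ U) := hU.preimage f
  refine (stalkMap_of_unique_prime f x U hU hV hxU
    (unique_prime_of_unique_point f x U hU hV hxU hx)).2 ?_
  rw [← Scheme.Hom.app_eq_appLE]
  exact f.finite_app U hU

theorem stalkMap_isIntegral_of_unique_point (f : X ⟶ Y) [IsIntegralHom f] (x : X)
    (hx : ∀ x' : X, f x' = f x → x' = x) : (f.stalkMap x).hom.IsIntegral := by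
  obtain ⟨_, ⟨U, hU : IsAffineOpen U, rfl⟩, hxU, -⟩ :=
    Y.isBasis_affineOpens.exists_subset_of_mem_open (Set.mem_univ (f x)) isOpen_univ
  have hV : IsAffineOpen (f ⁻¹ᵁ U) := hU.preimage f
  refine (stalkMap_of_unique_prime f x U hU hV hxU
    (unique_prime_of_unique_point f x U hU hV hxU hx)).1 ?_
  rw [← Scheme.Hom.app_eq_appLE]
  exact f.isIntegral_app U hU

theorem unique_prime_genericPoint [IsIntegral X] (f : X ⟶ Y) (U : Y.Opens) (hU : IsAffineOpen U)
    (hV : IsAffineOpen (f ⁻¹ᵁ U)) (hxU : f (genericPoint X) ∈ U)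
    (hint : (f.appLE U (f ⁻¹ᵁ U) le_rfl).hom.IsIntegral)
    (q' : Ideal Γ(X, f ⁻¹ᵁ U)) (hq' : q'.IsPrime)
    (hq : q'.comap (f.appLE U (f ⁻¹ᵁ U) le_rfl).hom =
      (hU.primeIdealOf ⟨f (genericPoint X), hxU⟩).asIdeal) :
    q' = (hV.primeIdealOf ⟨genericPoint X, hxU⟩).asIdeal := by
  haveI : Nonempty (f ⁻¹ᵁ U) := ⟨⟨genericPoint X, hxU⟩⟩
  have hbot : (hV.primeIdealOf ⟨genericPoint X, hxU⟩).asIdeal = ⊥ := by
    rw [hV.primeIdealOf_genericPoint, genericPoint_eq_bot_of_affine]
    rfl
  have hc : (hV.primeIdealOf ⟨genericPoint X, hxU⟩).asIdeal.comap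
      (f.appLE U (f ⁻¹ᵁ U) le_rfl).hom = (hU.primeIdealOf ⟨f (genericPoint X), hxU⟩).asIdeal :=
    congr($(IsAffineOpen.comap_primeIdealOf_appLE U hU (f ⁻¹ᵁ U) hV le_rfl hxU).1)
  by_contra hne
  have hlt : (hV.primeIdealOf ⟨genericPoint X, hxU⟩).asIdeal < q' :=
    lt_of_le_of_ne (hbot ▸ bot_le) (Ne.symm hne)
  letI := (f.appLE U (f ⁻¹ᵁ U) le_rfl).hom.toAlgebra
  haveI : Algebra.IsIntegral Γ(Y, U) Γ(X, f ⁻¹ᵁ U) := ⟨hint⟩
  have h := Ideal.IsIntegral.comap_lt_comap (R := Γ(Y, U)) hlt
  rw [RingHom.algebraMap_toAlgebra, hq, hc] at h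
  exact lt_irrefl _ h

theorem stalkMap_genericPoint [IsIntegral X] (f : X ⟶ Y) :
    (IsIntegralHom f → (f.stalkMap (genericPoint X)).hom.IsIntegral) ∧
      (IsFinite f → (f.stalkMap (genericPoint X)).hom.Finite) := by
  obtain ⟨_, ⟨U, hU : IsAffineOpen U, rfl⟩, hxU, -⟩ :=
    Y.isBasis_affineOpens.exists_subset_of_mem_open (Set.mem_univ (f (genericPoint X))) isOpen_univ
  constructor
  · intro hf
    have hV : IsAffineOpen (f ⁻¹ᵁ U) := hU.preimage f
    have hint : (f.appLE U (f ⁻¹ᵁ U) le_rfl).hom.IsIntegral := by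
      rw [← Scheme.Hom.app_eq_appLE]
      exact f.isIntegral_app U hU
    exact (stalkMap_of_unique_prime f _ U hU hV hxU
      (unique_prime_genericPoint f U hU hV hxU hint)).1 hint
  · intro hf
    have hV : IsAffineOpen (f ⁻¹ᵁ U) := hU.preimage f
    have hint : (f.appLE U (f ⁻¹ᵁ U) le_rfl).hom.IsIntegral := by
      rw [← Scheme.Hom.app_eq_appLE]
      exact f.isIntegral_app U hU
    refine (stalkMap_of_unique_prime f _ U hU hV hxU
      (unique_prime_genericPoint f U hU hV hxU hint)).2 ?_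
    rw [← Scheme.Hom.app_eq_appLE]
    exact f.finite_app U hU

end Scheme

end Groth.Agent.H97.UniqPrimeLoc
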