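import Mathlib

/-!
# Regularity of a Weierstrass equation over a DVR at the point `π = x = y = 0`
when `a₃, a₄, a₆ ∈ m` and `a₆ ∉ m²`.
-/

set_option autoImplicit false
universe u
open Polynomial IsLocalRing

namespace Groth.Agent.H97.WeierReg

variable {R : Type u} [CommRing R] (W : WeierstrassCurve.Affine R)

/-- the class of `x` -/
noncomputable abbrev xx : W.CoordinateRing := WeierstrassCurve.Affine.CoordinateRing.mk W (C X)
/-- the class of `y` -/
noncomputable abbrev yy : W.CoordinateRing := WeierstrassCurve.Affine.CoordinateRing.mk W X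

theorem algebraMap_eq_mk (r : R) :
    algebraMap R W.CoordinateRing r = WeierstrassCurve.Affine.CoordinateRing.mk W (C (C r)) := rfl

theorem algebraMap_poly_eq_mk (p : R[X]) :
    algebraMap R[X] W.CoordinateRing p = WeierstrassCurve.Affine.CoordinateRing.mk W (C p) := rfl

theorem a6_mem : algebraMap R W.CoordinateRing W.a₆ ∈ Ideal.span {xx W, yy W} := by
  have h0 : WeierstrassCurve.Affine.CoordinateRing.mk W W.polynomial = 0 := AdjoinRoot.mk_self
  have h : WeierstrassCurve.Affine.CoordinateRing.mk W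
      (X ^ 2 + C (C W.a₁ * X + C W.a₃) * X - C (X ^ 3 + C W.a₂ * X ^ 2 + C W.a₄ * X + C W.a₆)) =
      0 := h0
  simp only [map_add, map_sub, map_mul, RingHom.map_pow] at h
  rw [Ideal.mem_span_pair]
  refine ⟨-(xx W ^ 2 + WeierstrassCurve.Affine.CoordinateRing.mk W (C (C W.a₂)) * xx W +
      WeierstrassCurve.Affine.CoordinateRing.mk W (C (C W.a₄))),
    yy W + WeierstrassCurve.Affine.CoordinateRing.mk W (C (C W.a₁)) * xx W +
      WeierstrassCurve.Affine.CoordinateRing.mk W (C (C W.a₃)), ?_⟩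
  rw [algebraMap_eq_mk]
  linear_combination h


section main

variable [IsDomain R] [IsDiscreteValuationRing R]

theorem maximalIdeal_eq_span_a6 (h6 : W.a₆ ∈ maximalIdeal R) (h6' : W.a₆ ∉ maximalIdeal R ^ 2) :
    maximalIdeal R = Ideal.span {W.a₆} := by
  obtain ⟨ϖ, hϖ⟩ := IsDiscreteValuationRing.exists_irreducible R
  have hm : maximalIdeal R = Ideal.span {ϖ} :=
    (IsDiscreteValuationRing.irreducible_iff_uniformizer ϖ).mp hϖ
  rw [hm, Ideal.mem_span_singleton] at h6
  obtain ⟨u, hu⟩ := h6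
  have hunit : IsUnit u := by
    by_contra hnu
    apply h6'
    have hum : u ∈ maximalIdeal R := (IsLocalRing.mem_maximalIdeal u).mpr hnu
    rw [hm, Ideal.mem_span_singleton] at hum
    obtain ⟨v, rfl⟩ := hum
    rw [hm, Ideal.span_singleton_pow, Ideal.mem_span_singleton]
    exact ⟨v, by rw [hu]; ring⟩
  rw [hm, Ideal.span_singleton_eq_span_singleton]
  obtain ⟨u', rfl⟩ := hunit
  exact ⟨u', hu.symm⟩

theorem le_span_pair (h6 : W.a₆ ∈ maximalIdeal R) (h6' : W.a₆ ∉ maximalIdeal R ^ 2)
    (P : Ideal W.CoordinateRing) (hPtop : P ≠ ⊤)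
    (hx : xx W ∈ P) (hy : yy W ∈ P) : P ≤ Ideal.span {xx W, yy W} := by
  intro z hz
  obtain ⟨p, q, rfl⟩ := WeierstrassCurve.Affine.CoordinateRing.exists_smul_basis_eq z
  have hp : p = p.divX * X + C (p.coeff 0) := (Polynomial.divX_mul_X_add p).symm
  have e1 : p • (1 : W.CoordinateRing) =
      WeierstrassCurve.Affine.CoordinateRing.mk W (C p.divX) * xx W +
        algebraMap R W.CoordinateRing (p.coeff 0) := by
    rw [Algebra.smul_def, mul_one, algebraMap_poly_eq_mk, algebraMap_eq_mk]
    conv_lhs => rw [hp]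
    rw [map_add, map_add, map_mul, map_mul]
  have e2 : q • yy W = WeierstrassCurve.Affine.CoordinateRing.mk W (C q) * yy W := by
    rw [Algebra.smul_def, algebraMap_poly_eq_mk]
  have hxs : xx W ∈ Ideal.span {xx W, yy W} := Ideal.subset_span (by simp)
  have hys : yy W ∈ Ideal.span {xx W, yy W} := Ideal.subset_span (by simp)
  have hrP : algebraMap R W.CoordinateRing (p.coeff 0) ∈ P := by
    have h1 : algebraMap R W.CoordinateRing (p.coeff 0) =
        (p • (1 : W.CoordinateRing) + q • yy W) -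
          WeierstrassCurve.Affine.CoordinateRing.mk W (C p.divX) * xx W -
          WeierstrassCurve.Affine.CoordinateRing.mk W (C q) * yy W := by
      rw [e1, e2]; ring
    rw [h1]
    exact P.sub_mem (P.sub_mem hz (P.mul_mem_left _ hx)) (P.mul_mem_left _ hy)
  have hrm : p.coeff 0 ∈ maximalIdeal R := by
    rw [IsLocalRing.mem_maximalIdeal]
    intro hu
    exact hPtop (Ideal.eq_top_of_isUnit_mem _ hrP (hu.map _))
  rw [maximalIdeal_eq_span_a6 W h6 h6', Ideal.mem_span_singleton] at hrm
  obtain ⟨s, hs⟩ := hrm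
  rw [e1, e2, hs, map_mul]
  exact Ideal.add_mem _ (Ideal.add_mem _ (Ideal.mul_mem_left _ _ hxs)
    (Ideal.mul_mem_right _ _ (a6_mem W))) (Ideal.mul_mem_left _ _ hys)

theorem two_le_height (h6' : W.a₆ ∉ maximalIdeal R ^ 2)
    (P : Ideal W.CoordinateRing) [P.IsPrime]
    (hP : ∀ r ∈ maximalIdeal R, algebraMap R W.CoordinateRing r ∈ P)
    (h6 : W.a₆ ∈ maximalIdeal R)
    (hx : xx W ∈ P) : 2 ≤ P.height := by
  have ha6 : W.a₆ ≠ 0 := by
    rintro h0
    apply h6'
    rw [h0]
    exact zero_mem _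
  have hXprime : (Ideal.span {(X : R[X])}).IsPrime := by
    rw [Ideal.span_singleton_prime Polynomial.X_ne_zero]
    exact Polynomial.prime_X
  have hle : Ideal.span {(X : R[X])} ≤ P.under R[X] := by
    rw [Ideal.span_singleton_le_iff_mem, Ideal.under_def, Ideal.mem_comap, algebraMap_poly_eq_mk]
    exact hx
  have hlt : Ideal.span {(X : R[X])} < P.under R[X] := by
    refine lt_of_le_of_ne hle ?_
    intro heq
    have h1 : (C W.a₆ : R[X]) ∈ P.under R[X] := by
      rw [Ideal.under_def, Ideal.mem_comap]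
      exact hP _ h6
    rw [← heq, Ideal.mem_span_singleton, Polynomial.X_dvd_iff, Polynomial.coeff_C_zero] at h1
    exact ha6 h1
  have hbot : (⊥ : Ideal R[X]) < Ideal.span {(X : R[X])} := by
    rw [bot_lt_iff_ne_bot, Ne, Ideal.span_singleton_eq_bot]
    exact Polynomial.X_ne_zero
  obtain ⟨P₁, hP₁lt, hP₁prime, hP₁over⟩ :=
    Ideal.exists_ideal_lt_liesOver_of_lt (p := Ideal.span {(X : R[X])}) (q := P.under R[X]) P hlt
  obtain ⟨P₀, hP₀lt, hP₀prime, -⟩ :=
    Ideal.exists_ideal_lt_liesOver_of_lt (p := (⊥ : Ideal R[X])) (q := Ideal.span {(X : R[X])})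
      P₁ hbot
  have h1 := Ideal.height_add_one_le_of_lt_of_isPrime hP₀lt
  have h2 := Ideal.height_add_one_le_of_lt_of_isPrime hP₁lt
  calc (2 : ℕ∞) = 0 + 1 + 1 := by norm_num
    _ ≤ P₀.height + 1 + 1 := by gcongr; exact bot_le
    _ ≤ P₁.height + 1 := by gcongr
    _ ≤ P.height := h2

theorem isRegularLocalRing (h6 : W.a₆ ∈ maximalIdeal R) (h6' : W.a₆ ∉ maximalIdeal R ^ 2)
    (P : Ideal W.CoordinateRing) [P.IsMaximal]
    (hP : ∀ r ∈ maximalIdeal R, algebraMap R W.CoordinateRing r ∈ P)
    (hx : xx W ∈ P) (hy : yy W ∈ P) :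
    IsRegularLocalRing (Localization.AtPrime P) := by
  have hPprime : P.IsPrime := Ideal.IsMaximal.isPrime ‹_›
  have hPeq : P = Ideal.span {xx W, yy W} := by
    apply le_antisymm (le_span_pair W h6 h6' P hPprime.ne_top hx hy)
    rw [Ideal.span_le]
    rintro z (rfl | rfl)
    · exact hx
    · exact hy
  have : IsNoetherianRing (Localization.AtPrime P) :=
    IsLocalization.isNoetherianRing P.primeCompl _ inferInstance
  apply IsRegularLocalRing.of_spanFinrank_maximalIdeal_le
  have hdim : (2 : WithBot ℕ∞) ≤ ringKrullDim (Localization.AtPrime P) := by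
    rw [IsLocalization.AtPrime.ringKrullDim_eq_height P (Localization.AtPrime P)]
    have h2 := two_le_height W h6' P hP h6 hx
    have h3 : ((2 : ℕ∞) : WithBot ℕ∞) ≤ ((P.height : ℕ∞) : WithBot ℕ∞) := WithBot.coe_le_coe.mpr h2
    exact h3
  refine le_trans ?_ hdim
  have hm : maximalIdeal (Localization.AtPrime P) =
      Ideal.span ((algebraMap W.CoordinateRing (Localization.AtPrime P)) '' {xx W, yy W}) := by
    rw [← Localization.AtPrime.map_eq_maximalIdeal, ← Ideal.map_span, ← hPeq]
  rw [hm]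
  have h1 : (Ideal.span ((algebraMap W.CoordinateRing (Localization.AtPrime P)) ''
      {xx W, yy W})).spanFinrank ≤ 2 := by
    refine (Submodule.spanFinrank_span_le_ncard_of_finite
      ((Set.toFinite {xx W, yy W}).image _)).trans ?_
    refine (Set.ncard_image_le (Set.toFinite _)).trans ?_
    refine (Set.ncard_insert_le _ _).trans ?_
    rw [Set.ncard_singleton]
  exact_mod_cast h1

end main

end Groth.Agent.H97.WeierReg
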